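import Cfsg.Agent.H908.SLTrans
set_option linter.all false

/-!
# Conjugating the data of the geometric classes
-/

set_option autoImplicit false
set_option linter.style.haveILetI false

namespace Cfsg.Agent.H908

open Cfsg.Geo Matrix

variable {ι : Type} [Fintype ι] [DecidableEq ι] {F : Type*} [Field F]

/-- The conjugate subgroup. -/
noncomputable def cj (P : GL ι F) (R : Subgroup (GL ι F)) : Subgroup (GL ι F) :=
  R.map (MulAut.conj P).toMonoidHom

theorem mem_cj {P : GL ι F} {R : Subgroup (GL ι F)} {g : GL ι F} :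
    g ∈ cj P R ↔ P⁻¹ * g * P ∈ R := by
  unfold cj
  rw [Subgroup.mem_map]
  constructor
  · rintro ⟨x, hx, rfl⟩
    simpa [mul_assoc] using hx
  · intro h
    exact ⟨_, h, by simp [mul_assoc]⟩

/-- The isomorphism of `R` with its conjugate. -/
noncomputable def cjEquiv (P : GL ι F) (R : Subgroup (GL ι F)) : R ≃* cj P R :=
  R.equivMapOfInjective (MulAut.conj P).toMonoidHom (MulAut.conj P).injective

theorem card_cj (P : GL ι F) (R : Subgroup (GL ι F)) : Nat.card (cj P R) = Nat.card R :=
  (Nat.card_congr (cjEquiv P R).toEquiv).symm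

theorem card_center_cj (P : GL ι F) (R : Subgroup (GL ι F)) :
    Nat.card (Subgroup.center (cj P R)) = Nat.card (Subgroup.center R) :=
  (Nat.card_congr (Subgroup.centerCongr (cjEquiv P R)).toEquiv).symm

theorem symplecticType_cj {r : ℕ} {R : Subgroup (GL ι F)} (h : IsSymplecticTypeGroup r R)
    (P : GL ι F) : IsSymplecticTypeGroup r (cj P R) where
  prime := h.prime
  pGroup := h.pGroup.of_equiv (cjEquiv P R)
  cyclic_of_characteristic := by
    intro A hA hc
    let e := cjEquiv P R
    have hB : (A.comap e.toMonoidHom).Characteristic := by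
      refine ⟨fun ϕ => ?_⟩
      have h1 := hA.fixed ((e.symm.trans ϕ).trans e)
      ext x
      rw [Subgroup.mem_comap, Subgroup.mem_comap, Subgroup.mem_comap]
      constructor
      · intro h2
        rw [← h1, Subgroup.mem_comap]
        simpa using h2
      · intro h2
        rw [← h1, Subgroup.mem_comap] at h2
        simpa using h2
    have hBc : IsMulCommutative (A.comap e.toMonoidHom) := by
      refine ⟨⟨fun x y => ?_⟩⟩
      have := hc.is_comm.comm ⟨e x, x.2⟩ ⟨e y, y.2⟩
      have h3 := congrArg Subtype.val this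
      apply Subtype.ext
      apply e.injective
      have h4 : e (x : R) * e (y : R) = e (y : R) * e (x : R) := h3
      rw [← map_mul, ← map_mul] at h4
      exact h4
    haveI := h.cyclic_of_characteristic _ hB hBc
    have f : A ≃* (A.comap e.toMonoidHom) :=
      { toFun := fun x => ⟨e.symm x, by rw [Subgroup.mem_comap]; simp⟩
        invFun := fun x => ⟨e x, x.2⟩
        left_inv := fun x => by simp
        right_inv := fun x => Subtype.ext (by simp)
        map_mul' := fun x y => Subtype.ext (map_mul e.symm (x : cj P R) (y : cj P R)) }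
    exact isCyclic_of_injective f.toMonoidHom f.injective
  exponent_eq := by
    rw [← Monoid.exponent_eq_of_mulEquiv (cjEquiv P R)]
    exact h.exponent_eq

theorem absIrred_cj {R : Subgroup (GL ι F)} (h : ActsAbsolutelyIrreducibly (matrixSet R))
    (P : GL ι F) : ActsAbsolutelyIrreducibly (matrixSet (cj P R)) := by
  have hPP : (P : Matrix ι ι F) * ((P⁻¹ : GL ι F) : Matrix ι ι F) = 1 := by
    rw [← Units.val_mul, mul_inv_cancel, Units.val_one]
  have hPP' : ((P⁻¹ : GL ι F) : Matrix ι ι F) * (P : Matrix ι ι F) = 1 := by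
    rw [← Units.val_mul, inv_mul_cancel, Units.val_one]
  have hmem : ∀ x ∈ R, (P : Matrix ι ι F) * (x : Matrix ι ι F) * ((P⁻¹ : GL ι F) : Matrix ι ι F) ∈
      matrixSet (cj P R) := fun x hx => ⟨P * x * P⁻¹, mem_cj.2 (by simpa [mul_assoc] using hx), rfl⟩
  constructor
  · intro W hW
    have h1 := h.1 (W.map (Matrix.toLin' ((P⁻¹ : GL ι F) : Matrix ι ι F))) (by
      rintro s ⟨x, hx, rfl⟩
      rintro - ⟨-, ⟨w, hw, rfl⟩, rfl⟩
      have := hW _ (hmem x hx) ⟨w, hw, rfl⟩
      refine ⟨_, this, ?_⟩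
      simp only [Matrix.toLin'_apply, Matrix.mulVec_mulVec]
      congr 1
      rw [← mul_assoc, ← mul_assoc, hPP', one_mul])
    have hinj : Function.Injective (Matrix.toLin' ((P⁻¹ : GL ι F) : Matrix ι ι F)) := by
      intro v w hvw
      have := congrArg (fun z => (P : Matrix ι ι F) *ᵥ z) hvw
      simpa [Matrix.toLin'_apply, Matrix.mulVec_mulVec, hPP] using this
    have hsurj : Function.Surjective (Matrix.toLin' ((P⁻¹ : GL ι F) : Matrix ι ι F)) := by
      intro v
      refine ⟨(P : Matrix ι ι F) *ᵥ v, ?_⟩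
      rw [Matrix.toLin'_apply, Matrix.mulVec_mulVec, hPP', Matrix.one_mulVec]
    rcases h1 with h1 | h1
    · left
      rw [eq_bot_iff]
      intro w hw
      have hm : (Matrix.toLin' ((P⁻¹ : GL ι F) : Matrix ι ι F)) w ∈
          W.map (Matrix.toLin' ((P⁻¹ : GL ι F) : Matrix ι ι F)) := ⟨w, hw, rfl⟩
      rw [h1, Submodule.mem_bot] at hm
      rw [Submodule.mem_bot]
      exact hinj (by rw [hm, map_zero])
    · right
      rw [eq_top_iff]
      intro v _
      have : (Matrix.toLin' ((P⁻¹ : GL ι F) : Matrix ι ι F)) v ∈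
          W.map (Matrix.toLin' ((P⁻¹ : GL ι F) : Matrix ι ι F)) := by rw [h1]; trivial
      obtain ⟨w, hw, e⟩ := this
      rwa [← hinj e]
  · intro M hM
    obtain ⟨c, hc⟩ := h.2 (((P⁻¹ : GL ι F) : Matrix ι ι F) * M * (P : Matrix ι ι F)) (by
      rintro s ⟨x, hx, rfl⟩
      have := hM _ (hmem x hx)
      calc ((P⁻¹ : GL ι F) : Matrix ι ι F) * M * (P : Matrix ι ι F) * (x : Matrix ι ι F)
          = ((P⁻¹ : GL ι F) : Matrix ι ι F) * M * (P : Matrix ι ι F) * (x : Matrix ι ι F) *
            (((P⁻¹ : GL ι F) : Matrix ι ι F) * (P : Matrix ι ι F)) := by rw [hPP', mul_one]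
        _ = ((P⁻¹ : GL ι F) : Matrix ι ι F) * (M * ((P : Matrix ι ι F) * (x : Matrix ι ι F) *
            ((P⁻¹ : GL ι F) : Matrix ι ι F))) * (P : Matrix ι ι F) := by simp only [mul_assoc]
        _ = (((P⁻¹ : GL ι F) : Matrix ι ι F) * (P : Matrix ι ι F)) * (x : Matrix ι ι F) *
            ((P⁻¹ : GL ι F) : Matrix ι ι F) * M * (P : Matrix ι ι F) := by
              rw [this]; simp only [mul_assoc]
        _ = (x : Matrix ι ι F) * (((P⁻¹ : GL ι F) : Matrix ι ι F) * M * (P : Matrix ι ι F)) := by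
              rw [hPP', one_mul]; simp only [mul_assoc])
    refine ⟨c, ?_⟩
    calc M = ((P : Matrix ι ι F) * ((P⁻¹ : GL ι F) : Matrix ι ι F)) * M *
          ((P : Matrix ι ι F) * ((P⁻¹ : GL ι F) : Matrix ι ι F)) := by rw [hPP, one_mul, mul_one]
      _ = (P : Matrix ι ι F) * (((P⁻¹ : GL ι F) : Matrix ι ι F) * M * (P : Matrix ι ι F)) *
          ((P⁻¹ : GL ι F) : Matrix ι ι F) := by simp only [mul_assoc]
      _ = c • (1 : Matrix ι ι F) := by
          rw [hc, Matrix.mul_smul, Matrix.smul_mul, mul_one, hPP]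

theorem normalizer_cj {R : Subgroup (GL ι F)} {P g : GL ι F}
    (h : P⁻¹ * g * P ∈ subgroupNormalizer R) : g ∈ subgroupNormalizer (cj P R) := by
  unfold subgroupNormalizer at h ⊢
  rw [Subgroup.mem_normalizer_iff] at h ⊢
  intro x
  rw [mem_cj, mem_cj, h (P⁻¹ * x * P)]
  have : P⁻¹ * g * P * (P⁻¹ * x * P) * (P⁻¹ * g * P)⁻¹ = P⁻¹ * (g * x * g⁻¹) * P := by
    simp only [_root_.mul_inv_rev, inv_inv, mul_assoc, mul_inv_cancel_left]
  rw [this]

end Cfsg.Agent.H908
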