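import Cfsg.Agent.H908.CovFour
import Mathlib
import Cfsg.Agent.H771.KTools_m3
import Cfsg.Agent.H912.CrossList_m3
import Cfsg.Agent.LieClassical.FieldTransfer
import Cfsg.Agent.FastGrp
import Cfsg.Agent.Prune
set_option linter.all false

section
prune_inst 0x7fbea9fbebfcabffdfff7e77a6dceffdfbbdbfffe6dff9cbffe061ffabdf6b8ac9c56b8d8be818fe0ef7e21410f87b43fbfffeffeb6ffc7ffffdfff41ffbffcfedf7b50851dc88b40fbc2ffe03f0778e7f3fffffffffffffffffffffffffffbeffbfffffffff

-- part: H908/SevenMain
section
prune_inst 0x4104001000500000000000000200000402000000000000000004001000000000000020000082000000000040020000040001000000000000000000000000001000000000010000000000000000000000000000000000000000000000000000000000000000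
set_option linter.all false
open scoped Cfsg.Agent.FastGrp

-- part: H908/DihTr
section
/-!
# Traces for groups with dihedral Sylow 2-subgroups of order eight
-/

set_option autoImplicit false
set_option linter.unusedSectionVars false

namespace Cfsg.Agent.H908

open Cfsg Cfsg.Geo
open scoped MatrixGroups commutatorElement

/-- Dihedral Sylow 2-subgroups of order eight, one class of involutions. -/
structure DihType (T : Type*) [Group T] where
  a : T
  b : T
  m : ℕ
  card : Nat.card T = 8 * m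
  odd : Odd m
  ha2 : a ^ 2 ≠ 1
  ha4 : a ^ 4 = 1
  hb : b ^ 2 = 1
  hb1 : b ≠ 1
  hab : b * a * b⁻¹ = a⁻¹
  inv : ∀ t : T, t ^ 2 = 1 → t ≠ 1 → IsConj (a ^ 2) t

namespace DihType

variable {T : Type*} [Group T] (D : DihType T)

theorem b_not_mem : D.b ∉ Subgroup.zpowers D.a := by
  intro hmem
  obtain ⟨k, hk⟩ := Subgroup.mem_zpowers_iff.1 hmem
  have h1 : D.b * D.a * D.b⁻¹ = D.a := by rw [← hk]; group
  rw [D.hab] at h1
  apply D.ha2
  rw [pow_two]
  nth_rewrite 1 [← h1]
  group

/-- The elements of even order which are not conjugate to `a`. -/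
def Mixed (t : T) : Prop := ∃ c u w : T, t = c * u ∧ Odd (orderOf c) ∧ u ^ 2 = 1 ∧ u ≠ 1 ∧ w ^ 2 = 1 ∧ w ≠ 1 ∧ w ≠ u ∧
  c * u = u * c ∧ c * w = w * c ∧ u * w = w * u

end DihType

theorem DihType.Mixed.inv {T : Type*} [Group T] {t : T} (h : DihType.Mixed t) : DihType.Mixed t⁻¹ := by
  obtain ⟨c, u, w, rfl, h1, h2, h3, h4, h5, h6, h7, h8, h9⟩ := h
  have hu : u⁻¹ = u := inv_eq_of_mul_eq_one_left (by rw [← pow_two, h2])
  refine ⟨c⁻¹, u, w, ?_, by rwa [orderOf_inv], h2, h3, h4, h5, h6, ?_, ?_, h9⟩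
  · rw [h7, mul_inv_rev, hu]
  · rw [inv_mul_eq_iff_eq_mul, ← mul_assoc, h7, mul_inv_cancel_right]
  · rw [inv_mul_eq_iff_eq_mul, ← mul_assoc, h8, mul_inv_cancel_right]

/-- An involution lies in a mixed set with `c = 1`. -/
theorem DihType.mixed_of_sq {T : Type*} [Group T] (D : DihType T) {t : T} (ht : t ^ 2 = 1) (ht1 : t ≠ 1) :
    DihType.Mixed t := by
  obtain ⟨g, hg⟩ := isConj_iff.1 (D.inv t ht ht1)
  have hba : D.b * D.a ^ 2 = D.a ^ 2 * D.b := by
    have : D.b * D.a ^ 2 * D.b⁻¹ = D.a ^ 2 := by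
      rw [← conj_pow, D.hab, inv_pow, inv_eq_iff_mul_eq_one, ← pow_add, D.ha4]
    calc D.b * D.a ^ 2 = (D.b * D.a ^ 2 * D.b⁻¹) * D.b := by group
      _ = _ := by rw [this]
  refine ⟨1, t, g * D.b * g⁻¹, by rw [one_mul], by rw [orderOf_one]; exact odd_one, ht, ht1, ?_, ?_, ?_, by group, by group, ?_⟩
  · rw [conj_pow, D.hb]; group
  · intro h
    apply D.hb1
    have : D.b = g⁻¹ * (g * D.b * g⁻¹) * g := by group
    rw [this, h]; group
  · intro h
    rw [← hg] at h
    have h1 : D.b = D.a ^ 2 := by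
      have : D.b = g⁻¹ * (g * D.b * g⁻¹) * g := by group
      rw [this, h]; group
    exact D.b_not_mem (by rw [h1]; exact Subgroup.pow_mem _ (Subgroup.mem_zpowers _) 2)
  · rw [← hg]
    calc g * D.a ^ 2 * g⁻¹ * (g * D.b * g⁻¹) = g * (D.a ^ 2 * D.b) * g⁻¹ := by group
      _ = g * (D.b * D.a ^ 2) * g⁻¹ := by rw [hba]
      _ = _ := by group

namespace Cov

variable {F : Type*} [Field F] {T : Type*} [Group T] {P : Subgroup (GL (Fin 4) F)} {φ : P →* T} (h : Cov P φ)

/-- The case of a non-trivial centre. -/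
structure Two (φ : P →* T) : Prop where
  pm : Pm φ
  sq : ∀ y : P, φ y ≠ 1 → φ y ^ 2 = 1 → mt P (y * y) = -1

/-- lifts of commuting involutions anticommute -/
theorem Two.anti (h : Cov P φ) (h2 : (2 : F) ≠ 0) (t : Two φ) {x y : P} (hx : φ x ^ 2 = 1) (hx1 : φ x ≠ 1)
    (hy : φ y ^ 2 = 1) (hy1 : φ y ≠ 1) (hxy : φ x * φ y = φ y * φ x) (hne : φ x ≠ φ y) :
    mt P x * mt P y = -(mt P y * mt P x) := by
  rcases h.comm_or_anti hxy (by rw [← pow_two, hx]) with h1 | h1
  · exfalso
    have h3 : mt P (x * y * (x * y)) = -1 := by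
      apply t.sq (x * y)
      · rw [map_mul]
        intro h4
        apply hne
        have h5 : φ x = (φ y)⁻¹ := mul_eq_one_iff_eq_inv.1 h4
        rw [h5, inv_eq_iff_mul_eq_one, ← pow_two, hy]
      · rw [map_mul, (show Commute (φ x) (φ y) from hxy).mul_pow, hx, hy, mul_one]
    have h4 : mt P (x * y * (x * y)) = 1 := by
      have e1 : mt P x * mt P x = -1 := by rw [← map_mul, t.sq x hx1 hx]
      have e2 : mt P y * mt P y = -1 := by rw [← map_mul, t.sq y hy1 hy]
      calc mt P (x * y * (x * y)) = mt P x * (mt P y * mt P x) * mt P y := by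
            simp only [map_mul, mul_assoc]
        _ = mt P x * (mt P x * mt P y) * mt P y := by rw [h1]
        _ = (mt P x * mt P x) * (mt P y * mt P y) := by simp only [mul_assoc]
        _ = 1 := by rw [e1, e2, neg_mul_neg, one_mul]
    rw [h3] at h4
    have h5 := congrFun (congrFun h4 0) 0
    simp only [Matrix.neg_apply, Matrix.one_apply_eq] at h5
    apply h2
    linear_combination -h5
  · exact h1

theorem Two.tr_mixed [Finite F] (h : Cov P φ) (h2 : (2 : F) ≠ 0) (t : Two φ) {y : P} (hm : DihType.Mixed (φ y)) :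
    tr y = 0 := by
  obtain ⟨c, u, w, hy, h1, hu, hu1, hw, hw1, hwu, hcu, hcw, huw⟩ := hm
  obtain ⟨C, hC, hC2⟩ := h.exists_lift c h1
  obtain ⟨W, hW⟩ := h.surj w
  obtain ⟨U, hU⟩ : ∃ U, U = C⁻¹ * y := ⟨_, rfl⟩
  have hUu : φ U = u := by rw [hU, map_mul, map_inv, hC, hy]; group
  have hyU : y = C * U := by rw [hU]; group
  have e1 : W * C = C * W := h.commute_lift (by rw [hW, hC, hcw]) (by rw [hC2]; exact h1)
  have e2 : mt P U * mt P W = -(mt P W * mt P U) :=
    t.anti h h2 (by rwa [hUu]) (by rwa [hUu]) (by rwa [hW]) (by rwa [hW]) (by rw [hUu, hW, huw])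
      (by rw [hUu, hW]; exact fun h' => hwu h'.symm)
  apply h.tr_zero_of_anti h2 (y := W)
  rw [hyU]
  calc mt P (C * U) * mt P W = mt P C * (mt P U * mt P W) := by rw [map_mul, mul_assoc]
    _ = -(mt P C * mt P W * mt P U) := by rw [e2, mul_neg, mul_assoc]
    _ = -(mt P (C * W) * mt P U) := by rw [map_mul]
    _ = -(mt P (W * C) * mt P U) := by rw [e1]
    _ = -(mt P W * mt P (C * U)) := by simp only [map_mul, mul_assoc]

include h in
theorem dih_two [Finite F] (D : DihType T) : Function.Injective φ ∨ (Two φ ∧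
      (∀ y z : P, φ y = D.a → φ z = D.b → z * y * z⁻¹ = y⁻¹)) := by
  rcases h.dih_cases D.card D.odd D.ha2 D.ha4 D.b_not_mem D.hb D.hab D.inv with h1 | ⟨h1, h3, h4⟩
  · exact Or.inl h1
  · exact Or.inr ⟨⟨h1, h3⟩, h4⟩

/-- lifts of elements of order four are real -/
theorem Two.tr_a (h : Cov P φ) (D : DihType T)
    (h4 : ∀ y z : P, φ y = D.a → φ z = D.b → z * y * z⁻¹ = y⁻¹) {y : P} (hy : IsConj D.a (φ y)) :
    tr y⁻¹ = tr y := by
  obtain ⟨g, hg⟩ := isConj_iff.1 hy
  obtain ⟨x, rfl⟩ := h.surj g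
  obtain ⟨z, hz⟩ := h.surj D.b
  have h1 : φ (x⁻¹ * y * x) = D.a := by rw [map_mul, map_mul, map_inv, ← hg]; group
  have h3 := h4 _ z h1 hz
  have e1 : tr y = tr (x⁻¹ * y * x) := by
    have := tr_conj x⁻¹ y
    rw [inv_inv] at this
    exact this.symm
  have e2 : tr y⁻¹ = tr (x⁻¹ * y * x)⁻¹ := by
    have := tr_conj x⁻¹ y⁻¹
    rw [inv_inv] at this
    rw [← this]
    congr 1
    group
  rw [e1, e2, ← h3, tr_conj]

include h in
/-- **All traces are real** for a group of dihedral type all of whose elements of odd order are real, `φ` injective or not. -/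
theorem dih_real [Finite F] (h2 : (2 : F) ≠ 0) (D : DihType T) (Q : P → Prop)
    (hcls : ∀ y : P, Q y → (Odd (orderOf (φ y)) ∧ IsConj (φ y) (φ y)⁻¹) ∨ IsConj D.a (φ y) ∨ DihType.Mixed (φ y))
    (hinj : Function.Injective φ → ∀ y : P, Q y → IsConj (φ y) (φ y)⁻¹) :
    ∀ y : P, Q y → tr y⁻¹ = tr y := by
  intro y hQ
  rcases h.dih_two D with hi | ⟨t, h4⟩
  · obtain ⟨g, hg⟩ := isConj_iff.1 (hinj hi y hQ)
    obtain ⟨x, rfl⟩ := h.surj g
    have : x * y * x⁻¹ = y⁻¹ := by
      apply hi
      rw [map_mul, map_mul, map_inv, map_inv, hg]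
    rw [← this, tr_conj]
  · rcases hcls y hQ with ⟨h1, h3⟩ | h1 | h1
    · exact h.tr_inv_of_odd t.pm h1 h3
    · exact Two.tr_a h D h4 h1
    · rw [t.tr_mixed h h2 h1, t.tr_mixed h h2 (by rw [map_inv]; exact h1.inv)]

end Cov

end Cfsg.Agent.H908
end

-- part: H908/FourMat
section
/-!
# Linear algebra for projective representations of degree four
-/

set_option autoImplicit false
set_option linter.unusedSectionVars false

namespace Cfsg.Agent.H908

open Module

section Gen

variable {K : Type*} [Field K] {V : Type*} [AddCommGroup V] [Module K V] [FiniteDimensional K V]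

/-- An operator anticommuting with an invertible one has trace zero. -/
theorem trace_eq_zero_of_anti (h2 : (2 : K) ≠ 0) {A B B' : End K V} (hB : B' * B = 1)
    (hB' : B * B' = 1)
    (h : A * B = -(B * A)) : LinearMap.trace K V A = 0 := by
  have h1 : LinearMap.trace K V A = LinearMap.trace K V (B' * (B * A)) := by
    rw [← mul_assoc, hB, one_mul]
  have h3 : LinearMap.trace K V (B' * (B * A)) = - LinearMap.trace K V A := by
    have : B * A = -(A * B) := by rw [h, neg_neg]
    rw [this, mul_neg, map_neg, ← mul_assoc, LinearMap.trace_mul_comm, ← mul_assoc]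
    rw [hB', one_mul]
  have h4 : (2 : K) * LinearMap.trace K V A = 0 := by
    have := h1.trans h3
    linear_combination this
  exact (mul_eq_zero.1 h4).resolve_left h2

/-- On a space with anticommuting invertible operators the dimension is even. -/
theorem even_finrank_of_anti (h2 : (2 : K) ≠ 0) {A B : End K V} (hA : LinearMap.det A ≠ 0)
    (hB : LinearMap.det B ≠ 0) (h : A * B = -(B * A)) : Even (finrank K V) := by
  have h1 : LinearMap.det A * LinearMap.det B =
      (-1) ^ finrank K V * (LinearMap.det B * LinearMap.det A) := by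
    rw [← map_mul, h, ← map_mul]
    have : -(B * A) = (-1 : K) • (B * A) := by rw [neg_smul, one_smul]
    rw [this, LinearMap.det_smul]
  by_contra hodd
  rw [Nat.not_even_iff_odd] at hodd
  rw [hodd.neg_one_pow] at h1
  have h3 : (2 : K) * (LinearMap.det A * LinearMap.det B) = 0 := by linear_combination h1
  rcases mul_eq_zero.1 h3 with h4 | h4
  · exact h2 h4
  · rcases mul_eq_zero.1 h4 with h5 | h5
    · exact hA h5
    · exact hB h5

/-- The eigenspace idempotent: `R² = μ²`, `R` commutes with two anticommuting invertible operators, `dim V = 4`, and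
`R` is not scalar: then the trace of `R` is zero. -/
theorem trace_eq_zero_of_commute (h2 : (2 : K) ≠ 0) (h4 : finrank K V = 4) {A B R : End K V}
    (hA : IsUnit A) (hB : IsUnit B) (h : A * B = -(B * A)) (hRA : R * A = A * R) (hRB : R * B = B * R)
    {μ : K} (hμ : μ ≠ 0) (hR : R * R = (μ * μ) • (1 : End K V)) (hns : ∀ c : K, R ≠ c • 1) :
    LinearMap.trace K V R = 0 := by
  set e : End K V := (2 : K)⁻¹ • (1 + μ⁻¹ • R) with he
  have he2 : IsIdempotentElem e := by
    change e * e = e
    have hx : (μ⁻¹ • R) * (μ⁻¹ • R) = 1 := by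
      rw [smul_mul_smul_comm, hR, smul_smul]
      have : μ⁻¹ * μ⁻¹ * (μ * μ) = 1 := by field_simp
      rw [this, one_smul]
    have h3 : (1 + μ⁻¹ • R) * (1 + μ⁻¹ • R) = (2 : K) • (1 + μ⁻¹ • R) := by
      rw [mul_add, mul_one, add_mul, one_mul, hx, two_smul]; abel
    rw [he, smul_mul_smul_comm, h3, smul_smul]
    congr 1
    field_simp
  have hRe : R = μ • ((2 : K) • e - 1) := by
    rw [he, smul_smul, mul_inv_cancel₀ h2, one_smul, add_sub_cancel_left, smul_smul, mul_inv_cancel₀ hμ, one_smul]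
  have heA : e * A = A * e := by
    rw [he, smul_mul_assoc, mul_smul_comm, add_mul, mul_add, one_mul, mul_one, smul_mul_assoc, mul_smul_comm, hRA]
  have heB : e * B = B * e := by
    rw [he, smul_mul_assoc, mul_smul_comm, add_mul, mul_add, one_mul, mul_one, smul_mul_assoc, mul_smul_comm, hRB]
  set W := LinearMap.range e with hW
  have hWA : ∀ C : End K V, e * C = C * e → ∀ x ∈ W, C x ∈ W := by
    rintro C hC _ ⟨y, rfl⟩
    exact ⟨C y, by rw [← Module.End.mul_apply, hC, Module.End.mul_apply]⟩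
  have heven : Even (finrank K W) := by
    have hdet : ∀ C : End K V, IsUnit C → ∀ hC : ∀ x ∈ W, C x ∈ W, LinearMap.det (C.restrict hC) ≠ 0 := by
      intro C hCu hC h0
      have h5 : ¬ Function.Injective (C.restrict hC) := by
        intro hinj
        have h6 : LinearMap.ker (C.restrict hC) = ⊥ := LinearMap.ker_eq_bot.2 hinj
        have := (LinearMap.isUnit_iff_ker_eq_bot _).2 h6
        exact (LinearMap.isUnit_det _ this).ne_zero h0
      apply h5
      intro x y hxy
      apply Subtype.ext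
      have h7 : C x = C y := congrArg Subtype.val hxy
      obtain ⟨u, rfl⟩ := hCu
      have h8 := congrArg (fun z => (↑u⁻¹ : End K V) z) h7
      simpa only [← Module.End.mul_apply, _root_.SetLike.coe_eq_coe, _root_.Units.inv_mul, _root_.Module.End.one_apply] using h8
    apply even_finrank_of_anti h2 (hdet A hA (hWA A heA)) (hdet B hB (hWA B heB))
    ext x
    have := congrArg (fun z : End K V => z (x : V)) h
    simpa only [_root_.Module.End.mul_apply, _root_.LinearMap.coe_restrict_apply, _root_.LinearMap.neg_apply, _root_.NegMemClass.coe_neg] using this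
  have hle : finrank K W ≤ 4 := h4 ▸ Submodule.finrank_le W
  have htr : LinearMap.trace K V e = (finrank K W : K) :=
    (LinearMap.IsIdempotentElem.isProj_range e he2).trace
  have hcases : finrank K W = 0 ∨ finrank K W = 2 ∨ finrank K W = 4 := by
    obtain ⟨k, hk⟩ := heven
    omega
  rcases hcases with h0 | h0 | h0
  · exfalso
    have : W = ⊥ := Submodule.finrank_eq_zero.1 h0
    have he0 : e = 0 := LinearMap.range_eq_bot.1 this
    apply hns (-μ)
    rw [hRe, he0, smul_zero, zero_sub, smul_neg, neg_smul]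
  · rw [hRe, map_smul, map_sub, map_smul, htr, h0, LinearMap.trace_one, h4]
    push_cast
    have : (2 : K) • (2 : K) - 4 = 0 := by rw [smul_eq_mul]; norm_num
    rw [this, smul_zero]
  · exfalso
    have : W = ⊤ := Submodule.eq_top_of_finrank_eq (by rw [h0, h4])
    have he1 : e = 1 := by
      ext x
      have hx : x ∈ W := by rw [this]; exact Submodule.mem_top
      obtain ⟨y, rfl⟩ := hx
      rw [← Module.End.mul_apply, he2.eq]
      rfl
    apply hns μ
    rw [hRe, he1]
    congr 1
    rw [two_smul, add_sub_cancel_right]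

/-- Lemma on the four-group and a transposition: `S` normalises the quaternion-like pair `I, J`. -/
theorem transposition_dichotomy (h2 : (2 : K) ≠ 0) (h4 : finrank K V = 4) {I J S : End K V} {α σ μ : K}
    (hα : α ≠ 0) (hσ : σ ≠ 0) (hII : I * I = α • (1 : End K V)) (hJJ : J * J = α • (1 : End K V))
    (hIJ : I * J = -(J * I)) (hSI : S * I = J * S) (hSJ : S * J = I * S) (hSS : S * S = σ • (1 : End K V))
    (hμ : μ * μ = 2 * α * σ) :
    (∃ r : K, r ≠ 0 ∧ S = r • (I + J)) ∨ LinearMap.trace K V (S * I) = 0 := by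
  have hμ0 : μ ≠ 0 := by
    rintro rfl
    rw [zero_mul] at hμ
    exact mul_ne_zero (mul_ne_zero h2 hα) hσ hμ.symm
  have hu : ∀ (A : End K V) (c : K), c ≠ 0 → A * A = c • (1 : End K V) → IsUnit A := by
    intro A c hc hAA
    refine ⟨⟨A, c⁻¹ • A, ?_, ?_⟩, rfl⟩
    · rw [mul_smul_comm, hAA, smul_smul, inv_mul_cancel₀ hc, one_smul]
    · rw [smul_mul_assoc, hAA, smul_smul, inv_mul_cancel₀ hc, one_smul]
  -- `R = S (I + J)`
  set R := S * (I + J) with hR
  have hSIJ : S * (I + J) = (I + J) * S := by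
    rw [mul_add, add_mul, hSI, hSJ, add_comm]
  have hsq : (I + J) * (I + J) = (2 * α) • (1 : End K V) := by
    rw [mul_add, add_mul, add_mul, hII, hJJ, hIJ, two_mul, add_smul]
    abel
  have hRR : R * R = (μ * μ) • (1 : End K V) := by
    calc R * R = S * (I + J) * ((I + J) * S) := by rw [hR]; nth_rewrite 2 [hSIJ]; rfl
      _ = S * ((I + J) * (I + J)) * S := by noncomm_ring
      _ = (μ * μ) • (1 : End K V) := by
        rw [hsq, mul_smul_comm, mul_one, smul_mul_assoc, hSS, smul_smul, hμ]
  have hIC : (I + J) * I = J * (I + J) := by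
    rw [add_mul, mul_add, hII, hJJ, add_comm]
  have hJC : (I + J) * J = I * (I + J) := by
    rw [add_mul, mul_add, hII, hJJ, add_comm]
  have hRI : R * I = I * R := by
    rw [hR, mul_assoc, hIC, ← mul_assoc, hSJ, mul_assoc]
  have hRJ : R * J = J * R := by
    rw [hR, mul_assoc, hJC, ← mul_assoc, hSI, mul_assoc]
  -- `S = (2α)⁻¹ R (I + J)`
  have hS : S = (2 * α)⁻¹ • (R * (I + J)) := by
    rw [hR, mul_assoc, hsq, mul_smul_comm, mul_one, smul_smul, inv_mul_cancel₀ (mul_ne_zero h2 hα), one_smul]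
  by_cases hns : ∃ c : K, R = c • 1
  · left
    obtain ⟨c, hc⟩ := hns
    have hc0 : c ≠ 0 := by
      rintro rfl
      rw [zero_smul] at hc
      rw [hc, zero_mul] at hRR
      have h1 : (1 : End K V) = 0 := by
        have h3 : μ * μ ≠ 0 := mul_ne_zero hμ0 hμ0
        have := congrArg (fun z => (μ * μ)⁻¹ • z) hRR
        simp only [smul_zero, smul_smul, inv_mul_cancel₀ h3, one_smul] at this
        exact this.symm
      have h5 : finrank K V = 0 := by
        rw [Module.finrank_eq_zero_iff_isTorsion] 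
        intro x
        exact ⟨1, by
          have := congrArg (fun z : End K V => z x) h1
          simpa only [_root_.one_smul, _root_.Module.End.one_apply, _root_.LinearMap.zero_apply] using this⟩
      omega
    refine ⟨(2 * α)⁻¹ * c, mul_ne_zero (inv_ne_zero (mul_ne_zero h2 hα)) hc0, ?_⟩
    rw [hS, hc, smul_mul_assoc, one_mul, smul_smul]
  · right
    push Not at hns
    have htr := trace_eq_zero_of_commute h2 h4 (hu I α hα hII) (hu J α hα hJJ) hIJ hRI hRJ hμ0 hRR hns
    -- `S I = (2α)⁻¹ R (α + J I)`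
    have h5 : S * I = (2 * α)⁻¹ • (α • R + R * (J * I)) := by
      rw [hS, smul_mul_assoc, mul_assoc, add_mul, hII, mul_add, mul_smul_comm, mul_one]
    have h6 : LinearMap.trace K V (R * (J * I)) = 0 := by
      apply trace_eq_zero_of_anti h2 (B := I) (B' := α⁻¹ • I)
      · rw [smul_mul_assoc, hII, smul_smul, inv_mul_cancel₀ hα, one_smul]
      · rw [mul_smul_comm, hII, smul_smul, inv_mul_cancel₀ hα, one_smul]
      · calc R * (J * I) * I = R * J * (I * I) := by noncomm_ring
          _ = α • (R * J) := by rw [hII, mul_smul_comm, mul_one]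
          _ = (I * I) * (R * J) := by rw [hII, smul_mul_assoc, one_mul]
          _ = I * (I * R) * J := by noncomm_ring
          _ = I * (R * I) * J := by rw [hRI]
          _ = I * R * (I * J) := by noncomm_ring
          _ = I * R * -(J * I) := by rw [hIJ]
          _ = -(I * (R * (J * I))) := by noncomm_ring
    rw [h5, map_smul, map_add, map_smul, htr, h6]
    simp

end Gen

end Cfsg.Agent.H908
end

-- part: H908/FourSeven
section
/-!
# Projective representations of degree four of groups containing `L_2(7)`: the elements `x, d, i, j, s`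
-/

set_option autoImplicit false
set_option linter.unusedSectionVars false

namespace Cfsg.Agent.H908

open Module

variable {K : Type*} [Field K] {V : Type*} [AddCommGroup V] [Module K V] [FiniteDimensional K V]

/-- An operator of order seven normalised by `D : X ↦ X²` has an eigenvector `v` with `v, D v, D² v` eigenvectors for
different eigenvalues. -/
theorem exists_seven [IsAlgClosed K] (h7 : (7 : K) ≠ 0) {X D : End K V} (hX : X ^ 7 = 1) (hX1 : X ≠ 1)
    (hD : D ^ 3 = 1) (hDX : D * X = X ^ 2 * D) :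
    ∃ (ζ : K) (v : V), ζ ^ 7 = 1 ∧ ζ ≠ 1 ∧ v ≠ 0 ∧ X v = ζ • v ∧ X (D v) = ζ ^ 4 • D v ∧
      X (D (D v)) = ζ ^ 2 • D (D v) ∧ LinearIndependent K ![v, D v, D (D v)] := by
  set N : End K V := 1 + X + X ^ 2 + X ^ 3 + X ^ 4 + X ^ 5 + X ^ 6 with hN
  have hNX : N * (X - 1) = 0 := by
    rw [hN]
    have : (1 + X + X ^ 2 + X ^ 3 + X ^ 4 + X ^ 5 + X ^ 6) * (X - 1) = X ^ 7 - 1 := by noncomm_ring
    rw [this, hX, sub_self]
  have hcomm : Commute X N := by
    rw [hN]
    exact ((((((Commute.one_right X).add_right (Commute.refl X)).add_right ((Commute.refl X).pow_right 2)).add_right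
      ((Commute.refl X).pow_right 3)).add_right ((Commute.refl X).pow_right 4)).add_right
      ((Commute.refl X).pow_right 5)).add_right ((Commute.refl X).pow_right 6)
  have hker : LinearMap.ker N ≠ ⊥ := by
    intro h0
    apply hX1
    have hu : IsUnit N := (LinearMap.isUnit_iff_ker_eq_bot N).2 h0
    have : X - 1 = 0 := by
      obtain ⟨u, hu⟩ := hu
      have h1 : (↑u⁻¹ : End K V) * (N * (X - 1)) = X - 1 := by
        rw [← hu, ← mul_assoc, Units.inv_mul, one_mul]
      rw [← h1, hNX, mul_zero]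
    exact sub_eq_zero.1 this
  have hmaps : ∀ x ∈ LinearMap.ker N, X x ∈ LinearMap.ker N := by
    intro x hx
    rw [LinearMap.mem_ker] at hx ⊢
    rw [← Module.End.mul_apply, ← hcomm.eq, Module.End.mul_apply, hx, map_zero]
  have : Nontrivial (LinearMap.ker N) := Submodule.nontrivial_iff_ne_bot.2 hker
  obtain ⟨ζ, hζ⟩ := Module.End.exists_eigenvalue (X.restrict hmaps)
  obtain ⟨v', hv'⟩ := hζ.exists_hasEigenvector
  have hv0 : (v' : V) ≠ 0 := fun h => hv'.2 (Subtype.ext h)
  have hXv : X (v' : V) = ζ • (v' : V) := by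
    have := congrArg Subtype.val (Module.End.mem_eigenspace_iff.1 hv'.1)
    simpa only [_root_.LinearMap.coe_restrict_apply, _root_.SetLike.val_smul] using this
  set v : V := (v' : V) with hv
  have hpow : ∀ n : ℕ, (X ^ n) v = ζ ^ n • v := by
    intro n
    induction n with
    | zero => simp
    | succ n ih => rw [pow_succ', Module.End.mul_apply, ih, map_smul, hXv, smul_smul, ← pow_succ]
  have hζ7 : ζ ^ 7 = 1 := by
    have := hpow 7
    rw [hX, Module.End.one_apply] at this
    have h1 : (ζ ^ 7 - 1) • v = 0 := by rw [sub_smul, one_smul, ← this, sub_self]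
    exact sub_eq_zero.1 ((smul_eq_zero.1 h1).resolve_right hv0)
  have hNv : N v = 0 := v'.2
  have hζ1 : ζ ≠ 1 := by
    rintro rfl
    have : N v = (7 : K) • v := by
      rw [hN]
      simp only [LinearMap.add_apply, Module.End.one_apply, hpow, one_pow, one_smul, hXv]
      have : (7 : K) • v = (1 + 1 + 1 + 1 + 1 + 1 + 1 : K) • v := by congr 1; norm_num
      rw [this]
      simp only [add_smul, one_smul]
    rw [this] at hNv
    exact (smul_eq_zero.1 hNv).elim h7 hv0
  have hζ0 : ζ ≠ 0 := by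
    rintro rfl
    simp at hζ7
  -- eigenvalues of `D v`
  have step : ∀ (c : K) (w : V), X w = c • w → X (D w) = c ^ 4 • D w := by
    intro c w hw
    have h1 : (X ^ 2) (D w) = c • D w := by
      rw [← Module.End.mul_apply, ← hDX, Module.End.mul_apply, hw, map_smul]
    have h2 : X = (X ^ 2) ^ 4 := by
      rw [← pow_mul]
      have : X ^ (2 * 4) = X ^ 7 * X := by rw [← pow_succ]
      rw [this, hX, one_mul]
    have h3 : ∀ n : ℕ, ((X ^ 2) ^ n) (D w) = c ^ n • D w := by
      intro n
      induction n with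
      | zero => simp
      | succ n ih => rw [pow_succ', Module.End.mul_apply, ih, map_smul, h1, smul_smul, ← pow_succ]
    calc X (D w) = ((X ^ 2) ^ 4) (D w) := by rw [← h2]
      _ = c ^ 4 • D w := h3 4
  have hinj : Function.Injective D := by
    intro a b hab
    have h1 : D (D (D a)) = D (D (D b)) := by rw [hab]
    have h2 : ∀ a, D (D (D a)) = a := by
      intro a
      have := congrArg (fun z : End K V => z a) hD
      simpa only [pow_succ, Module.End.mul_apply, _root_.pow_zero, _root_.one_mul, _root_.Module.End.one_apply] using this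
    rwa [h2, h2] at h1
  have e1 := step ζ v hXv
  have e2 := step _ _ e1
  have e2' : X (D (D v)) = ζ ^ 2 • D (D v) := by
    rw [e2]
    congr 1
    calc (ζ ^ 4) ^ 4 = ζ ^ 7 * ζ ^ 7 * ζ ^ 2 := by ring
      _ = ζ ^ 2 := by rw [hζ7]; ring
  refine ⟨ζ, v, hζ7, hζ1, hv0, hXv, e1, e2', ?_⟩
  have hDv0 : D v ≠ 0 := fun h => hv0 (hinj (by rw [h, map_zero]))
  have hDDv0 : D (D v) ≠ 0 := fun h => hDv0 (hinj (by rw [h, map_zero]))
  have hne1 : ζ ≠ ζ ^ 4 := by
    intro h
    apply hζ1
    have h3 : ζ ^ 3 = 1 := by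
      apply mul_left_cancel₀ hζ0
      rw [mul_one, ← pow_succ']
      exact h.symm
    calc ζ = ζ ^ 7 := by
            rw [show ζ ^ 7 = (ζ ^ 3) ^ 2 * ζ by ring, h3]; ring
      _ = 1 := hζ7
  have hne2 : ζ ≠ ζ ^ 2 := by
    intro h
    apply hζ1
    apply mul_left_cancel₀ hζ0
    rw [mul_one, ← pow_two]
    exact h.symm
  have hne3 : ζ ^ 4 ≠ ζ ^ 2 := by
    intro h
    apply hne2
    calc ζ = (ζ ^ 4) ^ 2 := by rw [show (ζ ^ 4) ^ 2 = ζ ^ 7 * ζ by ring, hζ7, one_mul]
      _ = (ζ ^ 2) ^ 2 := by rw [h]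
      _ = ζ ^ 4 := by ring
      _ = ζ ^ 2 := h
  have key := Module.End.eigenvectors_linearIndependent' X ![ζ, ζ ^ 4, ζ ^ 2] (by
    intro a b hab
    fin_cases a <;> fin_cases b <;> simp only [_root_.Nat.succ_eq_add_one, _root_.Nat.reduceAdd, _root_.Fin.zero_eta, _root_.Fin.isValue, _root_.Matrix.cons_val_zero, _root_.Fin.mk_one, _root_.Matrix.cons_val_one, _root_.zero_ne_one, _root_.Fin.reduceFinMk, _root_.Matrix.cons_val, _root_.Fin.reduceEq, _root_.one_ne_zero] at hab ⊢
    · exact hne1 hab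
    · exact hne2 hab
    · exact hne1 hab.symm
    · exact hne3 hab
    · exact hne2 hab.symm
    · exact hne3 hab.symm) ![v, D v, D (D v)] (by
    intro a
    fin_cases a
    · exact ⟨Module.End.mem_eigenspace_iff.2 hXv, hv0⟩
    · exact ⟨Module.End.mem_eigenspace_iff.2 e1, hDv0⟩
    · exact ⟨Module.End.mem_eigenspace_iff.2 e2', hDDv0⟩)
  exact key

/-- `D` of order three with `v, D v, D² v` independent satisfies no relation `D = a D² + b`. -/
theorem no_quadratic {D : End K V} {v : V} (hli : LinearIndependent K ![v, D v, D (D v)]) {a b : K}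
    (h : D = a • (D * D) + b • 1) : False := by
  have h1 := congrArg (fun z : End K V => z v) h
  simp only [LinearMap.add_apply, LinearMap.smul_apply, Module.End.mul_apply, Module.End.one_apply] at h1
  have h2 := Fintype.linearIndependent_iff.1 hli ![b, -1, a] (by
    rw [Fin.sum_univ_three]
    simp only [Matrix.cons_val_zero, Matrix.cons_val_one, Matrix.cons_val]
    have : (-1 : K) • D v = -(a • D (D v) + b • v) := by rw [← h1, neg_one_smul]
    rw [this]
    abel)
  have h3 := h2 1
  simp at h3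

/-- `D³ = 1`, `det D = 1`, `v, D v, D² v` independent in dimension four: the trace is one. -/
theorem trace_eq_one (h4 : finrank K V = 4) {D : End K V} (hD : D ^ 3 = 1) (hdet : LinearMap.det D = 1) {v : V}
    (hli : LinearIndependent K ![v, D v, D (D v)]) : LinearMap.trace K V D = 1 := by
  -- a fourth basis vector
  obtain ⟨u, hu⟩ : ∃ u : V, LinearIndependent K ![u, v, D v, D (D v)] := by
    have hlt : Submodule.span K (Set.range ![v, D v, D (D v)]) ≠ ⊤ := by
      intro htop
      have h5 := finrank_span_eq_card hli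
      rw [htop, finrank_top, h4] at h5
      simp at h5
    obtain ⟨u, -, hu⟩ := SetLike.exists_of_lt (lt_top_iff_ne_top.2 hlt)
    refine ⟨u, ?_⟩
    rw [show (![u, v, D v, D (D v)] : Fin 4 → V) = Fin.cons u ![v, D v, D (D v)] from rfl,
      linearIndependent_finCons]
    exact ⟨hli, hu⟩
  let B : Basis (Fin 4) K V := basisOfLinearIndependentOfCardEqFinrank hu (by rw [h4]; simp)
  have hB0 : B 0 = u := by simp [B]
  have hB1 : B 1 = v := by simp [B]
  have hB2 : B 2 = D v := by simp [B]
  have hB3 : B 3 = D (D v) := by simp [B]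
  have hDDD : D (D (D v)) = v := by
    have := congrArg (fun z : End K V => z v) hD
    simpa only [pow_succ, Module.End.mul_apply, _root_.pow_zero, _root_.one_mul, _root_.Module.End.one_apply] using this
  have hc : ∀ i j, LinearMap.toMatrix B B D i j = B.repr (D (B j)) i := fun i j => LinearMap.toMatrix_apply _ _ _ _ _
  have c1 : ∀ i, LinearMap.toMatrix B B D i 1 = if i = 2 then 1 else 0 := by
    intro i
    rw [hc, hB1, ← hB2, B.repr_self, Finsupp.single_apply]
    simp only [eq_comm]
  have c2 : ∀ i, LinearMap.toMatrix B B D i 2 = if i = 3 then 1 else 0 := by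
    intro i
    rw [hc, hB2, ← hB3, B.repr_self, Finsupp.single_apply]
    simp only [eq_comm]
  have c3 : ∀ i, LinearMap.toMatrix B B D i 3 = if i = 1 then 1 else 0 := by
    intro i
    rw [hc, hB3, hDDD, ← hB1, B.repr_self, Finsupp.single_apply]
    simp only [eq_comm]
  rw [← LinearMap.det_toMatrix B] at hdet
  rw [LinearMap.trace_eq_matrix_trace K B]
  set M := LinearMap.toMatrix B B D with hM
  have hdet' : M.det = M 0 0 := by
    have hMM : M = !![M 0 0, 0, 0, 0; M 1 0, 0, 0, 1; M 2 0, 1, 0, 0; M 3 0, 0, 1, 0] := by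
      ext i j
      fin_cases j
      · fin_cases i <;> rfl
      · have := c1 i
        fin_cases i <;> simpa using this
      · have := c2 i
        fin_cases i <;> simpa using this
      · have := c3 i
        fin_cases i <;> simpa using this
    rw [hMM, Matrix.det_succ_row_zero, Fin.sum_univ_four]
    simp only [Matrix.det_fin_three, Fin.succAbove, _root_.Nat.succ_eq_add_one, _root_.Nat.reduceAdd, _root_.Fin.isValue, _root_.Fin.coe_ofNat_eq_mod, _root_.Nat.zero_mod, _root_.pow_zero, _root_.Matrix.of_apply, _root_.Matrix.cons_val', _root_.Matrix.cons_val_zero, _root_.Matrix.cons_val_fin_one, _root_.one_mul, _root_.Fin.succAbove_zero, _root_.Matrix.submatrix_apply, _root_.Fin.succ_zero_eq_one, _root_.Matrix.cons_val_one, _root_.Fin.succ_one_eq_two, _root_.Matrix.cons_val, _root_.MulZeroClass.mul_zero, _root_.Fin.reduceSucc, _root_.mul_one, _root_.sub_self, _root_.add_zero, _root_.zero_add, _root_.sub_zero, _root_.Nat.one_mod, _root_.pow_one, _root_.Fin.castSucc_zero, _root_.zero_lt_one,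 ↓ _root_.reduceIte, _root_.Fin.castSucc_one, _root_.lt_self_iff_false, _root_.Fin.reduceCastSucc, _root_.Fin.lt_one_iff, _root_.Fin.reduceEq, _root_.MulZeroClass.zero_mul, _root_.Nat.reduceMod, _root_.even_two, _root_.Even.neg_pow, _root_.one_pow, _root_.Fin.reduceLT, _root_.zero_sub, _root_.mul_neg, _root_.neg_zero, _root_.Nat.mod_succ]
  rw [Matrix.trace, Fin.sum_univ_four]
  simp only [Matrix.diag_apply]
  rw [c1 1, c2 2, c3 3, ← hdet', hdet]
  simp

/-- The main computation: operators `X, D, I, J, S` of a projective representation of degree four. -/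
theorem seven_main [IsAlgClosed K] (h2 : (2 : K) ≠ 0) (h7 : (7 : K) ≠ 0) (h4 : finrank K V = 4)
    {X D I J S : End K V} {α σ c : K} (hX : X ^ 7 = 1) (hX1 : X ≠ 1) (hD : D ^ 3 = 1) (hDX : D * X = X ^ 2 * D)
    (hα : α ≠ 0) (hσ : σ ≠ 0) (hII : I * I = α • (1 : End K V)) (hJJ : J * J = α • (1 : End K V))
    (hIJ : I * J = -(J * I)) (hSI : S * I = -(J * S)) (hSJ : S * J = -(I * S)) (hSS : S * S = σ • (1 : End K V))
    (hDI : D * I = J * D) (hDJ : D * J = c • (I * J) * D) (hSD : S * D = D ^ 2 * S) :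
    LinearMap.trace K V (S * I) = 0 := by
  obtain ⟨μ, hμ⟩ := IsAlgClosed.exists_pow_nat_eq (2 * α * σ) (n := 2) (by norm_num)
  rcases transposition_dichotomy (J := -J) h2 h4 hα hσ hII (by rw [neg_mul_neg, hJJ])
    (by rw [mul_neg, hIJ, neg_mul]) (by rw [hSI, neg_mul]) (by rw [mul_neg, hSJ, neg_neg]) hSS (μ := μ)
    (by rw [← hμ, pow_two]) with
    ⟨r, hr, hS⟩ | h
  swap
  · exact h
  exfalso
  obtain ⟨ζ, v, -, -, -, -, -, -, hli⟩ := exists_seven h7 hX hX1 hD hDX
  have hD3 : D * D * D = 1 := by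
    rw [← hD]; noncomm_ring
  have hJI : J * I = -(I * J) := by rw [hIJ, neg_neg]
  -- `σ D² = D S D⁻¹ S = r² (J + c I J) (I + J)`
  have h1 : D * S = r • ((J - c • (I * J)) * D) := by
    rw [hS, mul_smul_comm, mul_add, mul_neg, hDI, hDJ, sub_mul, sub_eq_add_neg]
  have h5 : D * S * S = σ • D := by rw [mul_assoc, hSS, mul_smul_comm, mul_one]
  have h6 : D * S = S * D * D := by
    rw [hSD]
    calc D * S = 1 * (D * S) := (one_mul _).symm
      _ = D * D * D * (D * S) := by rw [hD3]
      _ = D ^ 2 * (D ^ 2 * S) := by noncomm_ring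
      _ = D ^ 2 * (S * D) := by rw [hSD]
      _ = D ^ 2 * S * D := by rw [mul_assoc]
  have h7' : σ • (D * D) = r ^ 2 • ((J - c • (I * J)) * (I + -J)) := by
    calc σ • (D * D) = D * (σ • D) := by rw [mul_smul_comm]
      _ = D * (D * S * S) := by rw [h5]
      _ = D * (S * D * D * S) := by rw [h6]
      _ = (D * S) * (D * D * S) := by noncomm_ring
      _ = r • ((J - c • (I * J)) * D) * (D * D * S) := by rw [h1]
      _ = r • ((J - c • (I * J)) * (D * D * D) * S) := by
          rw [smul_mul_assoc]; congr 1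
      _ = r • ((J - c • (I * J)) * S) := by rw [hD3, mul_one]
      _ = r ^ 2 • ((J - c • (I * J)) * (I + -J)) := by
          conv_lhs => rw [hS]
          rw [mul_smul_comm, smul_smul, pow_two]
  have h8 : (J - c • (I * J)) * (I + -J) = -(α • (1 : End K V)) + (c * α) • I + (c * α) • J - I * J := by
    have e1 : I * J * I = -(α • J) := by
      rw [hIJ, neg_mul, mul_assoc, hII, mul_smul_comm, mul_one]
    have e2 : I * J * J = α • I := by rw [mul_assoc, hJJ, mul_smul_comm, mul_one]
    rw [sub_mul, mul_add, mul_add, mul_neg, mul_neg, smul_mul_assoc, smul_mul_assoc, e1, e2, hJJ, hJI, smul_neg,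
      smul_smul, smul_smul]
    abel
  -- the square of the pure part is scalar
  set y : End K V := (c * α) • I + (c * α) • J - I * J with hy
  have hyy : y * y = (2 * (c * α) ^ 2 * α - α ^ 2) • (1 : End K V) := by
    have e1 : I * J * I = -(α • J) := by
      rw [hIJ, neg_mul, mul_assoc, hII, mul_smul_comm, mul_one]
    have e2 : I * J * J = α • I := by rw [mul_assoc, hJJ, mul_smul_comm, mul_one]
    have e3 : I * (I * J) = α • J := by rw [← mul_assoc, hII, smul_mul_assoc, one_mul]
    have e4 : J * (I * J) = -(α • I) := by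
      rw [← mul_assoc, hJI, neg_mul, mul_assoc, hJJ, mul_smul_comm, mul_one]
    have e5 : I * J * (I * J) = -((α * α) • (1 : End K V)) := by
      rw [← mul_assoc, e1, neg_mul, smul_mul_assoc, hJJ, smul_smul]
    rw [hy]
    simp only [sub_mul, mul_sub, add_mul, mul_add, smul_mul_assoc, mul_smul_comm, e1, e2, e3, e4, e5, hII, hJJ, hJI]
    simp only [smul_neg, smul_smul]
    module
  have h9 : σ • (D * D) = (-(r ^ 2 * α)) • (1 : End K V) + r ^ 2 • y := by
    rw [h7', h8, hy]
    module
  have h10 : D * D = (σ⁻¹ * (-(r ^ 2 * α))) • (1 : End K V) + (σ⁻¹ * r ^ 2) • y := by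
    have := congrArg (fun z => σ⁻¹ • z) h9
    simp only [smul_smul, inv_mul_cancel₀ hσ, one_smul, smul_add] at this
    exact this
  -- `D = (D²)²`
  have h11 : D = D * D * (D * D) := by
    calc D = 1 * D := (one_mul _).symm
      _ = D * D * D * D := by rw [hD3]
      _ = D * D * (D * D) := by noncomm_ring
  set A := σ⁻¹ * (-(r ^ 2 * α)) with hA
  set C := σ⁻¹ * r ^ 2 with hC
  have hC0 : C ≠ 0 := mul_ne_zero (inv_ne_zero hσ) (pow_ne_zero 2 hr)
  have hyD : y = C⁻¹ • (D * D) - (C⁻¹ * A) • (1 : End K V) := by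
    rw [h10, smul_add, smul_smul, smul_smul, inv_mul_cancel₀ hC0, one_smul]
    abel
  apply no_quadratic hli (a := 2 * A) (b := C ^ 2 * (2 * (c * α) ^ 2 * α - α ^ 2) - A ^ 2)
  have h12 : D * D * (D * D) = (A • (1 : End K V) + C • y) * (A • (1 : End K V) + C • y) := by rw [h10]
  rw [h12] at h11
  have h13 : (A • (1 : End K V) + C • y) * (A • (1 : End K V) + C • y) =
      (A ^ 2) • (1 : End K V) + (2 * A * C) • y + (C ^ 2) • (y * y) := by
    simp only [add_mul, mul_add, smul_mul_assoc, mul_smul_comm, one_mul, mul_one]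
    module
  rw [h13, hyy, hyD] at h11
  refine h11.trans ?_
  have hCC : C * C⁻¹ = 1 := mul_inv_cancel₀ hC0
  have : (2 * A * C) • (C⁻¹ • (D * D) - (C⁻¹ * A) • (1 : End K V)) =
      (2 * A * (C * C⁻¹)) • (D * D) - (2 * A * A * (C * C⁻¹)) • (1 : End K V) := by
    module
  rw [this, hCC]
  module

end Cfsg.Agent.H908
end

-- part: H908/SevenTr
section
/-!
# Traces for `A₇` and `L₂(7)` in dimension four, non-trivial centre
-/

set_option autoImplicit false
set_option linter.unusedSectionVars false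

namespace Cfsg.Agent.H908

open Cfsg Cfsg.Geo
open scoped MatrixGroups commutatorElement

/-- A Frobenius group `7:3` and a symmetric group of degree four in the group of the Fano plane. -/
structure Fano (T : Type*) [Group T] where
  x : T
  d : T
  i : T
  j : T
  s : T
  hx : x ^ 7 = 1
  hx1 : x ≠ 1
  hd : d ^ 3 = 1
  hdx : d * x * d⁻¹ = x ^ 2
  hi : i * i = 1
  hi1 : i ≠ 1
  hij : i * j = j * i
  hne : i ≠ j
  hdi : d * i * d⁻¹ = j
  hdj : d * j * d⁻¹ = i * j
  hs : s * s = 1
  hsi : s * i * s⁻¹ = j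
  hsd : s * d * s⁻¹ = d⁻¹

namespace Fano

variable {T : Type*} [Group T] (D : Fano T)

theorem hj : D.j * D.j = 1 := by
  rw [← D.hdi]
  calc D.d * D.i * D.d⁻¹ * (D.d * D.i * D.d⁻¹) = D.d * (D.i * D.i) * D.d⁻¹ := by group
    _ = 1 := by rw [D.hi]; group

theorem hj1 : D.j ≠ 1 := by
  intro h
  apply D.hi1
  have := D.hdi
  rw [h] at this
  calc D.i = D.d⁻¹ * (D.d * D.i * D.d⁻¹) * D.d := by group
    _ = 1 := by rw [this]; group

theorem hs1 : D.s ≠ 1 := by
  intro h
  apply D.hne
  have := D.hsi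
  rw [h] at this
  simpa using this

theorem sq_a : (D.s * D.i) ^ 2 = D.j * D.i := by
  have h1 : D.s⁻¹ = D.s := inv_eq_of_mul_eq_one_left D.hs
  calc (D.s * D.i) ^ 2 = (D.s * D.i * D.s) * D.i := by rw [pow_two]; group
    _ = _ := by nth_rewrite 2 [← h1]; rw [D.hsi]

/-- the dihedral data -/
def dih (m : ℕ) (hT : Nat.card T = 8 * m) (hm : Odd m) (hinv : ∀ t : T, t ^ 2 = 1 → t ≠ 1 → IsConj D.i t) : DihType T where
  a := D.s * D.i
  b := D.i
  m := m
  card := hT
  odd := hm
  ha2 := by
    rw [D.sq_a]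
    intro h
    apply D.hne
    have : D.j⁻¹ = D.j := inv_eq_of_mul_eq_one_left D.hj
    rw [← this]
    exact eq_inv_of_mul_eq_one_right h
  ha4 := by
    rw [show (D.s * D.i) ^ 4 = ((D.s * D.i) ^ 2) ^ 2 from by rw [← pow_mul], D.sq_a, pow_two]
    calc D.j * D.i * (D.j * D.i) = D.j * (D.i * D.j) * D.i := by group
      _ = D.j * (D.j * D.i) * D.i := by rw [D.hij]
      _ = (D.j * D.j) * (D.i * D.i) := by group
      _ = 1 := by rw [D.hi, D.hj, one_mul]
  hb := by rw [pow_two, D.hi]
  hb1 := D.hi1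
  hab := by
    have h1 : D.s⁻¹ = D.s := inv_eq_of_mul_eq_one_left D.hs
    have h2 : D.i⁻¹ = D.i := inv_eq_of_mul_eq_one_left D.hi
    rw [mul_inv_rev, h1, h2]
    calc D.i * (D.s * D.i) * D.i = D.i * D.s * (D.i * D.i) := by group
      _ = D.i * D.s := by rw [D.hi, mul_one]
  inv := by
    intro t ht ht1
    have h1 : (D.j * D.i) ^ 2 = 1 := by
      rw [pow_two]
      calc D.j * D.i * (D.j * D.i) = D.j * (D.i * D.j) * D.i := by group
        _ = D.j * (D.j * D.i) * D.i := by rw [D.hij]
        _ = (D.j * D.j) * (D.i * D.i) := by group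
        _ = 1 := by rw [D.hi, D.hj, one_mul]
    have h2 : D.j * D.i ≠ 1 := by
      intro h
      apply D.hne
      have : D.j⁻¹ = D.j := inv_eq_of_mul_eq_one_left D.hj
      rw [← this]
      exact eq_inv_of_mul_eq_one_right h
    rw [D.sq_a]
    exact (hinv _ h1 h2).symm.trans (hinv t ht ht1)

end Fano

section Ext

variable {F : Type*} [Field F] (K : Type*) [Field K] [Algebra F K]

/-- matrices over `F` as endomorphisms over `K` -/
noncomputable def ext : Matrix (Fin 4) (Fin 4) F →+* Module.End K (Fin 4 → K) :=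
  ((Matrix.toLinAlgEquiv' (R := K) (n := Fin 4)).toRingEquiv.toRingHom).comp (algebraMap F K).mapMatrix

theorem ext_apply (M : Matrix (Fin 4) (Fin 4) F) : ext K M = Matrix.toLin' (M.map (algebraMap F K)) := rfl

theorem trace_ext (M : Matrix (Fin 4) (Fin 4) F) : LinearMap.trace K _ (ext K M) = algebraMap F K M.trace := by
  rw [ext_apply, Matrix.trace_toLin'_eq]
  simp [Matrix.trace]

theorem det_ext (M : Matrix (Fin 4) (Fin 4) F) : LinearMap.det (ext K M) = algebraMap F K M.det := by
  rw [ext_apply, LinearMap.det_toLin']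
  exact ((algebraMap F K).map_det M).symm

theorem ext_injective : Function.Injective (ext (F := F) K) := by
  intro M N h
  have h1 : M.map (algebraMap F K) = N.map (algebraMap F K) := Matrix.toLin'.injective h
  ext i j
  exact (algebraMap F K).injective (congrFun (congrFun h1 i) j)

theorem ext_smul (c : F) (M : Matrix (Fin 4) (Fin 4) F) : ext K (c • M) = algebraMap F K c • ext K M := by
  have h1 : (c • M).map (algebraMap F K) = algebraMap F K c • M.map (algebraMap F K) := by
    ext i j; simp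
  rw [ext_apply, h1, map_smul, ext_apply]

end Ext

/-- The sign in `S I = ε J S` is forced. -/
theorem sign_forced {K A : Type*} [Field K] [Ring A] [Nontrivial A] [Algebra K A] {D I J S : A} {ε c : K}
    (hI : IsUnit I) (hJ : IsUnit J) (hS : IsUnit S) (hD : D ^ 3 = 1) (hc : c ≠ 0) (hε : ε ≠ 0)
    (hIJ : I * J = -(J * I)) (hDI : D * I = J * D) (hDJ : D * J = c • (I * J) * D) (hSD : S * D = D ^ 2 * S)
    (hSI : S * I = ε • (J * S)) : ε = -1 ∧ S * J = ε • (I * S) := by
  have hD3 : D * D * D = 1 := by rw [← hD]; noncomm_ring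
  have hD2 : D ^ 2 = D * D := pow_two D
  rw [hD2] at hSD
  have hDr : ∀ {a b : A}, a * D = b * D → a = b := by
    intro a b h
    calc a = a * (D * D * D) := by rw [hD3, mul_one]
      _ = (a * D) * (D * D) := by noncomm_ring
      _ = (b * D) * (D * D) := by rw [h]
      _ = b * (D * D * D) := by noncomm_ring
      _ = b := by rw [hD3, mul_one]
  have e1 : D * D * J = I * (D * D) := by
    have : J = D * I * (D * D) := by
      rw [hDI]
      calc J = J * (D * D * D) := by rw [hD3, mul_one]
        _ = _ := by noncomm_ring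
    calc D * D * J = D * D * (D * I * (D * D)) := by rw [← this]
      _ = (D * D * D) * I * (D * D) := by noncomm_ring
      _ = I * (D * D) := by rw [hD3, one_mul]
  have e2 : S * J = ε • (I * S) := by
    apply hDr
    calc S * J * D = S * (D * I) := by rw [hDI, mul_assoc]
      _ = (S * D) * I := by rw [mul_assoc]
      _ = D * D * (S * I) := by rw [hSD, mul_assoc]
      _ = ε • ((D * D * J) * S) := by rw [hSI, mul_smul_comm, mul_assoc (D * D) J S]
      _ = ε • (I * (D * D * S)) := by rw [e1, mul_assoc]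
      _ = ε • (I * (S * D)) := by rw [hSD]
      _ = ε • (I * S) * D := by rw [smul_mul_assoc, mul_assoc]
  refine ⟨?_, e2⟩
  have e3 : ε • (D * D * I) * S = (c * ε * ε) • (J * I * (D * D)) * S := by
    calc ε • (D * D * I) * S = D * D * (ε • (I * S)) := by
          rw [smul_mul_assoc, mul_smul_comm, mul_assoc (D * D) I S]
      _ = D * D * S * J := by rw [← e2, mul_assoc (D * D) S J]
      _ = S * (D * J) := by rw [← hSD, mul_assoc]
      _ = c • ((S * I) * (J * D)) := by
          rw [hDJ, smul_mul_assoc, mul_smul_comm]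
          congr 1
          noncomm_ring
      _ = (c * ε) • (J * (S * J) * D) := by
          rw [hSI, smul_mul_assoc, smul_smul]
          congr 1
          noncomm_ring
      _ = (c * ε * ε) • (J * I * (S * D)) := by
          rw [e2, mul_smul_comm, smul_mul_assoc, smul_smul]
          congr 1
          noncomm_ring
      _ = (c * ε * ε) • (J * I * (D * D)) * S := by
          rw [hSD, smul_mul_assoc]
          congr 1
          noncomm_ring
  have e4 : ε • (D * D * I) = (c * ε * ε) • (J * I * (D * D)) := hS.mul_right_cancel e3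
  have e5 : D * D * I = c • (I * J) * (D * D) := by
    calc D * D * I = D * (D * I) := by rw [mul_assoc]
      _ = (D * J) * D := by rw [hDI, mul_assoc]
      _ = _ := by rw [hDJ, mul_assoc]
  rw [e5, smul_mul_assoc, smul_smul] at e4
  have e6 : (ε * c) • (I * J) = (c * ε * ε) • (J * I) := by
    apply hDr
    apply hDr
    rw [smul_mul_assoc, smul_mul_assoc, mul_assoc (I * J) D D, smul_mul_assoc, smul_mul_assoc, mul_assoc (J * I) D D]
    exact e4
  have e7 : (c * ε * (ε + 1)) • (J * I) = 0 := by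
    have : (c * ε * ε) • (J * I) = -((ε * c) • (J * I)) := by rw [← e6, hIJ, smul_neg]
    calc (c * ε * (ε + 1)) • (J * I) = (c * ε * ε) • (J * I) + (ε * c) • (J * I) := by
          rw [← add_smul]; congr 1; ring
      _ = 0 := by rw [this]; simp
  rcases smul_eq_zero.1 e7 with h1 | h1
  · have h2 : ε + 1 = 0 := by
      rcases mul_eq_zero.1 h1 with h3 | h3
      · exact absurd h3 (mul_ne_zero hc hε)
      · exact h3
    linear_combination h2
  · exact absurd h1 (hJ.mul hI).ne_zero

namespace Cov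

variable {F : Type*} [Field F] {T : Type*} [Group T] {P : Subgroup (GL (Fin 4) F)} {φ : P →* T}

/-- **Elements of order four have trace zero** (non-trivial centre, characteristic not 2, 7). -/
theorem Two.tr_si [Finite F] (h : Cov P φ) (h2 : (2 : F) ≠ 0) (h7 : (7 : F) ≠ 0) (t : Two φ) (D : Fano T) {y : P}
    (hy : IsConj (D.s * D.i) (φ y)) : tr y = 0 := by
  classical
  -- lifts
  obtain ⟨X, hX, hXo⟩ := h.exists_lift D.x (by
    have : orderOf D.x ∣ 7 := orderOf_dvd_of_pow_eq_one D.hx
    exact Odd.of_dvd_nat (by decide) this)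
  obtain ⟨E, hE, hEo⟩ := h.exists_lift D.d (by
    have : orderOf D.d ∣ 3 := orderOf_dvd_of_pow_eq_one D.hd
    exact Odd.of_dvd_nat (by decide) this)
  have hXodd : Odd (orderOf X) := by
    rw [hXo]
    have : orderOf D.x ∣ 7 := orderOf_dvd_of_pow_eq_one D.hx
    exact Odd.of_dvd_nat (by decide) this
  have hEodd : Odd (orderOf E) := by
    rw [hEo]
    have : orderOf D.d ∣ 3 := orderOf_dvd_of_pow_eq_one D.hd
    exact Odd.of_dvd_nat (by decide) this
  have hX7 : X ^ 7 = 1 := by
    apply orderOf_dvd_iff_pow_eq_one.1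
    rw [hXo]
    exact orderOf_dvd_of_pow_eq_one D.hx
  have hE3 : E ^ 3 = 1 := by
    apply orderOf_dvd_iff_pow_eq_one.1
    rw [hEo]
    exact orderOf_dvd_of_pow_eq_one D.hd
  have hX1 : X ≠ 1 := by
    intro h'
    apply D.hx1
    rw [← hX, h', map_one]
  have hEX : E * X * E⁻¹ = X ^ 2 := by
    apply h.conj_lift _ hXodd (odd_orderOf_pow hXodd 2)
    rw [map_mul, map_mul, map_inv, map_pow, hE, hX, D.hdx]
  obtain ⟨I, hI⟩ := h.surj D.i
  obtain ⟨S, hS⟩ := h.surj D.s
  obtain ⟨J, hJ⟩ : ∃ J, J = E * I * E⁻¹ := ⟨_, rfl⟩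
  have hφJ : φ J = D.j := by rw [hJ, map_mul, map_mul, map_inv, hE, hI, D.hdi]
  have hSE : S * E * S⁻¹ = E⁻¹ := by
    apply h.conj_lift _ hEodd (by rwa [orderOf_inv])
    rw [map_mul, map_mul, map_inv, map_inv, hS, hE, D.hsd]
  -- squares
  have sI : mt P (I * I) = -1 := t.sq I (by rw [hI]; exact D.hi1) (by rw [hI, pow_two, D.hi])
  have sJ : mt P (J * J) = -1 := t.sq J (by rw [hφJ]; exact D.hj1) (by rw [hφJ, pow_two, D.hj])
  have sS : mt P (S * S) = -1 := t.sq S (by rw [hS]; exact D.hs1) (by rw [hS, pow_two, D.hs])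
  have aIJ : mt P I * mt P J = -(mt P J * mt P I) :=
    t.anti h h2 (by rw [hI, pow_two, D.hi]) (by rw [hI]; exact D.hi1) (by rw [hφJ, pow_two, D.hj])
      (by rw [hφJ]; exact D.hj1) (by rw [hI, hφJ, D.hij]) (by rw [hI, hφJ]; exact D.hne)
  -- the two signs
  obtain ⟨ε, hε, hSI⟩ : ∃ ε : F, (ε = 1 ∨ ε = -1) ∧ mt P S * mt P I = ε • (mt P J * mt P S) := by
    have hk : φ (S * I * S⁻¹ * J⁻¹) = 1 := by
      rw [map_mul, map_mul, map_mul, map_inv, map_inv, hS, hI, hφJ, D.hsi, mul_inv_cancel]
    have e : S * I = (S * I * S⁻¹ * J⁻¹) * (J * S) := by group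
    rcases t.pm _ hk with h1 | h1
    · exact ⟨1, Or.inl rfl, by rw [← map_mul, e, map_mul, h1, one_mul, one_smul, map_mul]⟩
    · exact ⟨-1, Or.inr rfl, by rw [← map_mul, e, map_mul, h1, neg_one_mul, neg_one_smul, map_mul]⟩
  obtain ⟨c, hc, hEJ⟩ : ∃ c : F, (c = 1 ∨ c = -1) ∧ mt P E * mt P J = c • (mt P I * mt P J) * mt P E := by
    have hk : φ (E * J * E⁻¹ * (I * J)⁻¹) = 1 := by
      rw [map_mul, map_mul, map_mul, map_inv, map_inv, map_mul, hE, hI, hφJ, D.hdj, mul_inv_cancel]
    have e : E * J = (E * J * E⁻¹ * (I * J)⁻¹) * (I * J * E) := by group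
    rcases t.pm _ hk with h1 | h1
    · exact ⟨1, Or.inl rfl, by rw [← map_mul, e, map_mul, h1, one_mul, one_smul, map_mul, map_mul]⟩
    · exact ⟨-1, Or.inr rfl, by rw [← map_mul, e, map_mul, h1, neg_one_mul, neg_one_smul, map_mul, map_mul, neg_mul]⟩
  have unit : ∀ g : P, IsUnit (mt P g) := fun g => (Group.isUnit g).map (mt P)
  have hEI : mt P E * mt P I = mt P J * mt P E := by
    rw [← map_mul, ← map_mul, hJ]
    congr 1
    group
  have hSE' : mt P S * mt P E = mt P E ^ 2 * mt P S := by
    rw [← map_mul, ← map_pow, ← map_mul]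
    congr 1
    have h1 : E⁻¹ = E ^ 2 := by rw [inv_eq_iff_mul_eq_one, ← pow_succ', hE3]
    rw [← h1, ← hSE]
    group
  have hE3' : mt P E ^ 3 = 1 := by rw [← map_pow, hE3, map_one]
  have hc0 : c ≠ 0 := by rcases hc with rfl | rfl <;> simp
  have hε0 : ε ≠ 0 := by rcases hε with rfl | rfl <;> simp
  obtain ⟨hε1, hSJ⟩ := sign_forced (K := F) (unit I) (unit J) (unit S) hE3' hc0 hε0 aIJ hEI hEJ hSE' hSI
  subst hε1
  -- pass to the algebraic closure
  set K := AlgebraicClosure F
  set e := ext (F := F) K with he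
  have main := seven_main (K := K) (V := Fin 4 → K) (X := e (mt P X)) (D := e (mt P E)) (I := e (mt P I))
    (J := e (mt P J)) (S := e (mt P S)) (α := -1) (σ := -1) (c := algebraMap F K c)
    (by
      have := (map_ne_zero (algebraMap F K)).2 h2
      rwa [map_ofNat] at this)
    (by
      have := (map_ne_zero (algebraMap F K)).2 h7
      rwa [map_ofNat] at this)
    (by simp)
    (by rw [← map_pow, ← map_pow, hX7, map_one, map_one])
    (by
      intro h'
      apply hX1
      apply mt_injective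
      apply ext_injective K
      rw [map_one, map_one]
      exact h')
    (by rw [← map_pow, hE3', map_one])
    (by
      rw [← map_mul, ← map_pow, ← map_mul]
      congr 1
      rw [← map_mul, ← map_pow, ← map_mul]
      congr 1
      rw [← hEX]
      group)
    (by simp) (by simp)
    (by rw [← map_mul, ← map_mul, sI, map_neg, map_one]; exact (neg_one_smul K _).symm)
    (by rw [← map_mul, ← map_mul, sJ, map_neg, map_one]; exact (neg_one_smul K _).symm)
    (by rw [← map_mul, aIJ, map_neg, map_mul])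
    (by rw [← map_mul, hSI, neg_one_smul, map_neg, map_mul])
    (by rw [← map_mul, hSJ, neg_one_smul, map_neg, map_mul])
    (by rw [← map_mul, ← map_mul, sS, map_neg, map_one]; exact (neg_one_smul K _).symm)
    (by rw [← map_mul, hEI, map_mul])
    (by rw [← map_mul, hEJ, map_mul, ext_smul, map_mul])
    (by rw [← map_mul, hSE', map_mul, map_pow])
  have main2 : tr (S * I) = 0 := by
    have h1 : e (mt P S) * e (mt P I) = e (mt P (S * I)) := by rw [map_mul, map_mul]
    rw [h1, he, trace_ext] at main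
    exact (map_eq_zero (algebraMap F K)).1 main
  obtain ⟨g, hg⟩ := isConj_iff.1 hy
  obtain ⟨x, rfl⟩ := h.surj g
  have hk : φ (y * (x * (S * I) * x⁻¹)⁻¹) = 1 := by
    rw [map_mul, map_inv, map_mul, map_mul, map_mul, map_inv, hS, hI, hg, mul_inv_cancel]
  have hy' : y = (y * (x * (S * I) * x⁻¹)⁻¹) * (x * (S * I) * x⁻¹) := by group
  have h3 : tr y = tr (S * I) ∨ tr y = - tr (S * I) := by
    rcases t.pm _ hk with h4 | h4
    · left
      rw [← tr_conj x (S * I)]
      unfold tr
      conv_lhs => rw [hy', map_mul, h4, one_mul]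
    · right
      rw [← tr_conj x (S * I)]
      unfold tr
      conv_lhs => rw [hy', map_mul, h4, neg_one_mul, Matrix.trace_neg]
  rcases h3 with h3 | h3 <;> rw [h3, main2] <;> simp

end Cov

end Cfsg.Agent.H908
end

-- part: H908/SevenMain
section
/-!
# All traces for `A₇` and `L₂(7)` in dimension four, non-trivial centre
-/

set_option autoImplicit false
set_option linter.unusedSectionVars false

namespace Cfsg.Agent.H908

open Cfsg Cfsg.Geo
open scoped MatrixGroups commutatorElement

/-- The facts on the simple group which are needed. -/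
structure SevenType (T : Type*) [Group T] extends Fano T where
  m : ℕ
  card : Nat.card T = 8 * m
  odd : Odd m
  inv : ∀ t : T, t ^ 2 = 1 → t ≠ 1 → IsConj i t
  cls : ∀ t : T, (Odd (orderOf t) ∧ ∀ k : ℕ, k.Coprime (orderOf t) → IsConj (t ^ k) t) ∨
    IsConj x t ∨ IsConj x⁻¹ t ∨ IsConj (s * i) t ∨ DihType.Mixed t

namespace Fano

variable {T : Type*} [Group T] (D : Fano T)

theorem conj_x (k : ℕ) : IsConj (D.x ^ k) (D.x ^ (2 * k)) := by
  refine isConj_iff.2 ⟨D.d, ?_⟩
  rw [← conj_pow, D.hdx, pow_mul]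

theorem orderOf_x : orderOf D.x = 7 := by
  have : Fact (Nat.Prime 7) := ⟨by norm_num⟩
  exact orderOf_eq_prime D.hx D.hx1

theorem pow_mod (k : ℕ) : D.x ^ k = D.x ^ (k % 7) := by
  conv_lhs => rw [← Nat.mod_add_div k 7, pow_add, pow_mul, D.hx, one_pow, mul_one]

theorem isConj_pow {k : ℕ} (hk : k % 7 = 1 ∨ k % 7 = 2 ∨ k % 7 = 4) : IsConj (D.x ^ k) D.x := by
  rw [D.pow_mod]
  rcases hk with h | h | h <;> rw [h]
  · rw [pow_one]
  · have := D.conj_x 1
    rw [pow_one] at this
    exact this.symm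
  · have h1 := D.conj_x 1
    have h2 := D.conj_x 2
    rw [pow_one] at h1
    exact (h1.trans h2).symm

theorem isConj_pow_inv {k : ℕ} (hk : k % 7 = 3 ∨ k % 7 = 5 ∨ k % 7 = 6) : IsConj (D.x ^ k) D.x⁻¹ := by
  have h6 : D.x⁻¹ = D.x ^ 6 := by rw [inv_eq_iff_mul_eq_one, ← pow_succ', D.hx]
  rw [D.pow_mod, h6]
  rcases hk with h | h | h <;> rw [h]
  · exact D.conj_x 3
  · have h1 := D.conj_x 5
    have h2 := D.conj_x 10
    rw [D.pow_mod (2 * 10)] at h2
    exact h1.trans h2

theorem isConj_si : IsConj (D.s * D.i) (D.s * D.i)⁻¹ := by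
  refine isConj_iff.2 ⟨D.i, ?_⟩
  have h1 : D.s⁻¹ = D.s := inv_eq_of_mul_eq_one_left D.hs
  have h2 : D.i⁻¹ = D.i := inv_eq_of_mul_eq_one_left D.hi
  rw [mul_inv_rev, h1, h2]
  calc D.i * (D.s * D.i) * D.i = D.i * D.s * (D.i * D.i) := by group
    _ = D.i * D.s := by rw [D.hi, mul_one]

end Fano

theorem isConj_inv_inv {T : Type*} [Group T] {a b : T} (h : IsConj a b) : IsConj a⁻¹ b⁻¹ := by
  obtain ⟨c, hc⟩ := isConj_iff.1 h
  exact isConj_iff.2 ⟨c, by rw [← hc]; group⟩

theorem isConj_pow_pow {T : Type*} [Group T] {a b : T} (h : IsConj a b) (k : ℕ) : IsConj (a ^ k) (b ^ k) := by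
  obtain ⟨c, hc⟩ := isConj_iff.1 h
  exact isConj_iff.2 ⟨c, by rw [← hc, conj_pow]⟩

theorem orderOf_of_isConj {T : Type*} [Group T] {a b : T} (h : IsConj a b) : orderOf a = orderOf b := by
  obtain ⟨c, hc⟩ := isConj_iff.1 h
  rw [← hc]
  have := MulAut.conj c
  exact (MulEquiv.orderOf_eq (MulAut.conj c) a).symm

/-- a rational element of odd order is real -/
theorem real_of_rational {T : Type*} [Group T] {t : T} (ho : Odd (orderOf t))
    (h : ∀ k : ℕ, k.Coprime (orderOf t) → IsConj (t ^ k) t) : IsConj t t⁻¹ := by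
  have h1 : t ^ (orderOf t - 1) = t⁻¹ := by
    rw [eq_inv_iff_mul_eq_one, ← pow_succ, Nat.sub_add_cancel ho.pos, pow_orderOf_eq_one]
  have h2 := h (orderOf t - 1) (by
    have := Nat.coprime_self_sub_right (m := 1) (n := orderOf t) ho.pos
    exact (this.2 (Nat.coprime_one_right _)).symm)
  rw [h1] at h2
  exact h2.symm

namespace Cov

variable {F : Type*} [Field F] {T : Type*} [Group T] {P : Subgroup (GL (Fin 4) F)} {φ : P →* T}

/-- **Traces.** -/
theorem seven_traces [Finite F] (h : Cov P φ) (h2 : (2 : F) ≠ 0) (D : SevenType T) (hni : ¬ Function.Injective φ)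
    (p : ℕ) [hp : Fact p.Prime] [CharP F p] (y : P) (hy : (orderOf y).Coprime p) :
    (p = 7 → tr y⁻¹ = tr y) ∧ (p % 7 = 1 ∨ p % 7 = 2 ∨ p % 7 = 4 → tr y ^ p = tr y) ∧
      (p % 7 = 3 ∨ p % 7 = 5 ∨ p % 7 = 6 → tr y ^ p = tr y⁻¹) := by
  rcases h.dih_two (D.toFano.dih D.m D.card D.odd D.inv) with hi | ⟨t, ht⟩
  · exact absurd hi hni
  have hpodd : Odd p := by
    refine hp.out.odd_of_ne_two ?_
    rintro rfl
    exact h2 (by
      have := CharP.cast_eq_zero F 2
      exact_mod_cast this)
  have hpz : p ≠ 0 := hp.out.ne_zero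
  have hphi : (orderOf (φ y)).Coprime p := Nat.Coprime.coprime_dvd_left (orderOf_map_dvd φ y) hy
  rcases D.cls (φ y) with ⟨ho, hr⟩ | hx | hx | hsi | hm
  · have e1 : tr y⁻¹ = tr y := h.tr_inv_of_odd t.pm ho (real_of_rational ho hr)
    have e2 : tr y ^ p = tr y := h.tr_pow_of_odd t.pm p hpodd ho (hr p hphi.symm)
    exact ⟨fun _ => e1, fun _ => e2, fun _ => by rw [e1, e2]⟩
  · have ho : orderOf (φ y) = 7 := by rw [← orderOf_of_isConj hx, D.orderOf_x]
    have ho' : Odd (orderOf (φ y)) := by rw [ho]; decide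
    refine ⟨?_, ?_, ?_⟩
    · rintro rfl
      rw [ho] at hphi
      exact absurd hphi (by decide)
    · intro h7
      exact h.tr_pow_of_odd t.pm p hpodd ho' (((isConj_pow_pow hx p).symm.trans (D.isConj_pow h7)).trans hx)
    · intro h7
      exact h.tr_pow_inv_of_odd t.pm p hpodd ho'
        (((isConj_pow_pow hx p).symm.trans (D.isConj_pow_inv h7)).trans (isConj_inv_inv hx))
  · have ho : orderOf (φ y) = 7 := by rw [← orderOf_of_isConj hx, orderOf_inv, D.orderOf_x]
    have ho' : Odd (orderOf (φ y)) := by rw [ho]; decide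
    refine ⟨?_, ?_, ?_⟩
    · rintro rfl
      rw [ho] at hphi
      exact absurd hphi (by decide)
    · intro h7
      refine h.tr_pow_of_odd t.pm p hpodd ho' (((isConj_pow_pow hx p).symm.trans ?_).trans hx)
      rw [inv_pow]
      exact isConj_inv_inv (D.isConj_pow h7)
    · intro h7
      refine h.tr_pow_inv_of_odd t.pm p hpodd ho' (((isConj_pow_pow hx p).symm.trans ?_).trans (isConj_inv_inv hx))
      rw [inv_pow]
      exact isConj_inv_inv (D.isConj_pow_inv h7)
  · by_cases hp7 : p = 7
    · subst hp7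
      refine ⟨fun _ => Two.tr_a h (D.toFano.dih D.m D.card D.odd D.inv) ht hsi, fun h' => ?_, fun h' => ?_⟩
      · omega
      · omega
    · have h7 : (7 : F) ≠ 0 := by
        intro h'
        have h3 : ((7 : ℕ) : F) = 0 := by exact_mod_cast h'
        have h4 := (CharP.cast_eq_zero_iff F p 7).1 h3
        rcases (Nat.dvd_prime (by norm_num)).1 h4 with h5 | h5
        · exact hp.out.ne_one h5
        · exact hp7 h5
      have e1 : tr y = 0 := t.tr_si h h2 h7 D.toFano hsi
      have e2 : tr y⁻¹ = 0 := t.tr_si h h2 h7 D.toFano (y := y⁻¹) (by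
        rw [map_inv]
        exact D.isConj_si.trans (isConj_inv_inv hsi))
      rw [e1, e2, zero_pow hpz]
      exact ⟨fun _ => rfl, fun _ => rfl, fun _ => rfl⟩
  · have e1 : tr y = 0 := t.tr_mixed h h2 hm
    have e2 : tr y⁻¹ = 0 := t.tr_mixed h h2 (by rw [map_inv]; exact hm.inv)
    rw [e1, e2, zero_pow hpz]
    exact ⟨fun _ => rfl, fun _ => rfl, fun _ => rfl⟩

end Cov

end Cfsg.Agent.H908
end
end

-- part: H908/AltFacts
section
prune_inst 0x156041400040020000008592110020040400019000230001d9e00440010653630900274174201b00810aaa20000b80400010014900100000200086004001000084aa72c23340b10425001fc0f887180c00000000000000000000000000041004000000000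
set_option linter.all false
open scoped Cfsg.Agent.FastGrp

/-!
# Facts on `A₅`, `A₆`, `A₇`
-/

set_option autoImplicit false
set_option linter.unusedSectionVars false

namespace Cfsg.Agent.H908.Alt

open Equiv Equiv.Perm
open Cfsg.Agent.H525.AltK (mem_types)

section General

variable {α : Type*} [Fintype α] [DecidableEq α]

theorem conj_of_type {r g : alternatingGroup α} (hct : (r : Perm α).cycleType = (g : Perm α).cycleType)
    {κ : Perm α} (hκ : sign κ = -1) (hc : κ * r = r * κ) : IsConj r g := by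
  obtain ⟨σ, hσ⟩ := isConj_iff.1 (isConj_iff_cycleType_eq.2 hct)
  rcases Int.units_eq_one_or (sign σ) with h3 | h3
  · exact isConj_iff.2 ⟨⟨σ, h3⟩, Subtype.ext hσ⟩
  · refine isConj_iff.2 ⟨⟨σ * κ, ?_⟩, Subtype.ext ?_⟩
    · rw [mem_alternatingGroup, map_mul, h3, hκ]; rfl
    · change σ * κ * (r : Perm α) * (σ * κ)⁻¹ = g
      rw [← hσ]
      calc σ * κ * (r : Perm α) * (σ * κ)⁻¹ = σ * (κ * r) * κ⁻¹ * σ⁻¹ := by group
        _ = σ * (r * κ) * κ⁻¹ * σ⁻¹ := by rw [hc]
        _ = _ := by group

/-- reality depends only on the cycle type -/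
theorem real_of_type {r g : alternatingGroup α} (hct : (r : Perm α).cycleType = (g : Perm α).cycleType)
    (hr : IsConj r r⁻¹) : IsConj g g⁻¹ := by
  obtain ⟨σ, hσ⟩ := isConj_iff.1 (isConj_iff_cycleType_eq.2 hct)
  obtain ⟨y, hy⟩ := isConj_iff.1 hr
  refine isConj_iff.2 ⟨⟨σ * y * σ⁻¹, ?_⟩, Subtype.ext ?_⟩
  · rw [mem_alternatingGroup, map_mul, map_mul, map_inv, mul_right_comm, mul_inv_cancel, one_mul]
    exact y.2
  · change σ * y * σ⁻¹ * (g : Perm α) * (σ * y * σ⁻¹)⁻¹ = (g : Perm α)⁻¹
    have hy' : (y : Perm α) * r * (y : Perm α)⁻¹ = (r : Perm α)⁻¹ := congrArg Subtype.val hy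
    rw [← hσ]
    calc σ * y * σ⁻¹ * (σ * (r : Perm α) * σ⁻¹) * (σ * y * σ⁻¹)⁻¹ = σ * (y * r * (y : Perm α)⁻¹) * σ⁻¹ := by group
      _ = σ * (r : Perm α)⁻¹ * σ⁻¹ := by rw [hy']
      _ = _ := by group

theorem type_of_sq {t : Perm α} (ht : t ^ 2 = 1) {k : ℕ} (hk : k ∈ t.cycleType) : k ∣ 2 :=
  (dvd_of_mem_cycleType hk).trans (orderOf_dvd_of_pow_eq_one ht)

theorem orderOf_coe (t : alternatingGroup α) : orderOf t = orderOf (t : Perm α) := by
  exact (Subgroup.orderOf_coe t).symm

end General

/-- rational elements -/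
theorem rational_of_sq {T : Type*} [Group T] {r : T} {n : ℕ} (hn : n = 3 ∨ n = 5) (hr : orderOf r = n)
    (h : IsConj r (r ^ 2)) (k : ℕ) (hk : k.Coprime (orderOf r)) : IsConj (r ^ k) r := by
  have hp : ∀ j : ℕ, IsConj (r ^ (2 ^ j)) r := by
    intro j
    induction j with
    | zero => rw [pow_zero, pow_one]
    | succ j ih =>
      rw [pow_succ', pow_mul]
      exact (isConj_pow_pow h.symm _).trans ih
  have hmod : ∀ a b : ℕ, a % n = b % n → r ^ a = r ^ b := by
    intro a b hab
    rw [pow_eq_pow_iff_modEq, hr]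
    exact hab
  rw [hr] at hk
  rcases hn with rfl | rfl
  · have h3 : k % 3 = 1 ∨ k % 3 = 2 := by
      have : ¬ 3 ∣ k := (Nat.Prime.coprime_iff_not_dvd (by norm_num)).1 hk.symm
      omega
    rcases h3 with h3 | h3
    · rw [hmod k (2 ^ 0) (by rw [h3]; rfl)]; exact hp 0
    · rw [hmod k (2 ^ 1) (by rw [h3]; rfl)]; exact hp 1
  · have h3 : k % 5 = 1 ∨ k % 5 = 2 ∨ k % 5 = 3 ∨ k % 5 = 4 := by
      have : ¬ 5 ∣ k := (Nat.Prime.coprime_iff_not_dvd (by norm_num)).1 hk.symm
      omega
    rcases h3 with h3 | h3 | h3 | h3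
    · rw [hmod k (2 ^ 0) (by rw [h3]; rfl)]; exact hp 0
    · rw [hmod k (2 ^ 1) (by rw [h3]; rfl)]; exact hp 1
    · rw [hmod k (2 ^ 3) (by rw [h3]; rfl)]; exact hp 3
    · rw [hmod k (2 ^ 2) (by rw [h3]; rfl)]; exact hp 2

theorem rational_conj {T : Type*} [Group T] {r t : T} (h : IsConj r t) (ho : Odd (orderOf r))
    (hr : ∀ k : ℕ, k.Coprime (orderOf r) → IsConj (r ^ k) r) :
    Odd (orderOf t) ∧ ∀ k : ℕ, k.Coprime (orderOf t) → IsConj (t ^ k) t := by
  rw [← orderOf_of_isConj h]
  exact ⟨ho, fun k hk => ((isConj_pow_pow h k).symm.trans (hr k hk)).trans h⟩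

/-! ### `A₇` -/

abbrev A7 := alternatingGroup (Fin 7)

/-- even permutations -/
def mk {n : ℕ} (g : Perm (Fin n)) (h : sign g = 1) : alternatingGroup (Fin n) := ⟨g, h⟩

def ex : A7 := mk (finRotate 7) (by decide)
def ed : A7 := mk (swap (1 : Fin 7) 2 * swap (2 : Fin 7) 4 * (swap (3 : Fin 7) 6 * swap (6 : Fin 7) 5)) (by decide)
def ei : A7 := mk (swap (2 : Fin 7) 6 * swap (4 : Fin 7) 5) (by decide)
def ej : A7 := mk (swap (1 : Fin 7) 3 * swap (4 : Fin 7) 5) (by decide)
def es : A7 := mk (swap (1 : Fin 7) 2 * swap (3 : Fin 7) 6) (by decide)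

def c3 : A7 := mk (swap (0 : Fin 7) 1 * swap (1 : Fin 7) 2) (by decide)
def c5 : A7 := mk (swap (0 : Fin 7) 1 * swap (1 : Fin 7) 2 * (swap (2 : Fin 7) 3 * swap (3 : Fin 7) 4)) (by decide)
def c33 : A7 := mk (swap (0 : Fin 7) 1 * swap (1 : Fin 7) 2 * (swap (3 : Fin 7) 4 * swap (4 : Fin 7) 5)) (by decide)
def u7 : A7 := mk (swap (3 : Fin 7) 4 * swap (5 : Fin 7) 6) (by decide)
def w7 : A7 := mk (swap (3 : Fin 7) 5 * swap (4 : Fin 7) 6) (by decide)

def fano7 : Fano A7 where
  x := ex
  d := ed
  i := ei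
  j := ej
  s := es
  hx := Subtype.ext (by decide)
  hx1 := by decide
  hd := Subtype.ext (by decide)
  hdx := Subtype.ext (by decide)
  hi := Subtype.ext (by decide)
  hi1 := by decide
  hij := Subtype.ext (by decide)
  hne := by decide
  hdi := Subtype.ext (by decide)
  hdj := Subtype.ext (by decide)
  hs := Subtype.ext (by decide)
  hsi := Subtype.ext (by decide)
  hsd := Subtype.ext (by decide)

theorem card_A7 : Nat.card A7 = 8 * 315 := by
  have h := two_mul_nat_card_alternatingGroup (α := Fin 7)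
  rw [Nat.card_perm, Nat.card_fin, show Nat.factorial 7 = 5040 from rfl] at h
  have h2 : 2 * Nat.card A7 = 5040 := h
  omega

theorem inv_A7 (t : A7) (ht : t ^ 2 = 1) (ht1 : t ≠ 1) : IsConj ei t := by
  have ht' : (t : Perm (Fin 7)) ^ 2 = 1 := congrArg Subtype.val ht
  have h2 : ∀ k ∈ (t : Perm (Fin 7)).cycleType, k ∣ 2 := fun k hk => type_of_sq ht' hk
  have h22 : (t : Perm (Fin 7)).cycleType = {2, 2} := by
    rcases mem_types (le_refl 7) t with h | h | h | h | h | h | h | h
    · exact absurd (Subtype.ext (cycleType_eq_zero.1 h)) ht1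
    · exact absurd (h2 3 (by rw [h]; decide)) (by decide)
    · exact absurd (h2 5 (by rw [h]; decide)) (by decide)
    · exact absurd (h2 7 (by rw [h]; decide)) (by decide)
    · exact h
    · exact absurd (h2 3 (by rw [h]; decide)) (by decide)
    · exact absurd (h2 4 (by rw [h]; decide)) (by decide)
    · exact absurd (h2 3 (by rw [h]; decide)) (by decide)
  exact conj_of_type (κ := swap (0 : Fin 7) 1) (by rw [h22]; decide +kernel) (by decide) (by decide)

theorem order_of_pow {T : Type*} [Group T] {r : T} {p : ℕ} (hp : p.Prime) (h : r ^ p = 1) (h1 : r ≠ 1) : orderOf r = p :=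
  haveI := Fact.mk hp
  orderOf_eq_prime h h1

def seven : SevenType A7 :=
  { fano7 with
    m := 315
    card := card_A7
    odd := by decide
    inv := inv_A7
    cls := by
      intro t
      rcases mem_types (le_refl 7) t with h | h | h | h | h | h | h | h
      · left
        have : t = 1 := Subtype.ext (cycleType_eq_zero.1 h)
        subst this
        rw [orderOf_one]
        exact ⟨odd_one, fun k _ => by rw [one_pow]⟩
      · left
        have ho : orderOf c3 = 3 := order_of_pow (by norm_num) (by decide) (by decide)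
        refine rational_conj (r := c3) (conj_of_type (κ := swap (3 : Fin 7) 4) (by rw [h]; decide +kernel) (by decide) (by decide))
          (by rw [ho]; decide) (rational_of_sq (Or.inl rfl) ho (isConj_iff.2 ⟨mk (swap (1 : Fin 7) 2 * swap (3 : Fin 7) 4) (by decide), by decide⟩))
      · left
        have ho : orderOf c5 = 5 := order_of_pow (by norm_num) (by decide) (by decide)
        refine rational_conj (r := c5) (conj_of_type (κ := swap (5 : Fin 7) 6) (by rw [h]; decide +kernel) (by decide) (by decide))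
          (by rw [ho]; decide) (rational_of_sq (Or.inr rfl) ho
            (isConj_iff.2 ⟨mk (swap (1 : Fin 7) 2 * swap (2 : Fin 7) 4 * swap (4 : Fin 7) 3 * swap (5 : Fin 7) 6) (by decide), by decide⟩))
      · right
        obtain ⟨σ, hσ⟩ := isConj_iff.1 (isConj_iff_cycleType_eq.2
          (show (ex : Perm (Fin 7)).cycleType = (t : Perm (Fin 7)).cycleType by rw [h]; decide +kernel))
        rcases Int.units_eq_one_or (sign σ) with h3 | h3
        · exact Or.inl (isConj_iff.2 ⟨⟨σ, h3⟩, Subtype.ext hσ⟩)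
        · right; left
          refine isConj_iff.2 ⟨⟨σ * (swap (1 : Fin 7) 6 * swap (2 : Fin 7) 5 * swap (3 : Fin 7) 4), ?_⟩, Subtype.ext ?_⟩
          · rw [mem_alternatingGroup, map_mul, h3]; decide
          · change σ * (swap (1 : Fin 7) 6 * swap (2 : Fin 7) 5 * swap (3 : Fin 7) 4) * (ex : Perm (Fin 7))⁻¹ *
              (σ * (swap (1 : Fin 7) 6 * swap (2 : Fin 7) 5 * swap (3 : Fin 7) 4))⁻¹ = (t : Perm (Fin 7))
            have h4 : (swap (1 : Fin 7) 6 * swap (2 : Fin 7) 5 * swap (3 : Fin 7) 4 : Perm (Fin 7)) * (ex : Perm (Fin 7))⁻¹ *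
              (swap (1 : Fin 7) 6 * swap (2 : Fin 7) 5 * swap (3 : Fin 7) 4 : Perm (Fin 7))⁻¹ = (ex : Perm (Fin 7)) := by decide
            rw [← hσ]
            calc _ = σ * ((swap (1 : Fin 7) 6 * swap (2 : Fin 7) 5 * swap (3 : Fin 7) 4 : Perm (Fin 7)) * (ex : Perm (Fin 7))⁻¹ *
                  (swap (1 : Fin 7) 6 * swap (2 : Fin 7) 5 * swap (3 : Fin 7) 4 : Perm (Fin 7))⁻¹) * σ⁻¹ := by group
              _ = _ := by rw [h4]
      · right; right; right; right
        have ht : t ^ 2 = 1 := by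
          apply orderOf_dvd_iff_pow_eq_one.1
          rw [orderOf_coe, ← lcm_cycleType, h]
          decide
        have ht1 : t ≠ 1 := by
          rintro rfl
          rw [Subgroup.coe_one, cycleType_one] at h
          exact absurd h (by decide)
        exact (fano7.dih 315 card_A7 (by decide) inv_A7).mixed_of_sq ht ht1
      · left
        have ho : orderOf c33 = 3 := order_of_pow (by norm_num) (by decide) (by decide)
        refine rational_conj (r := c33) (conj_of_type (κ := swap (0 : Fin 7) 3 * swap (1 : Fin 7) 4 * swap (2 : Fin 7) 5) (by rw [h]; decide +kernel)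
          (by decide) (by decide)) (by rw [ho]; decide)
          (rational_of_sq (Or.inl rfl) ho (isConj_iff.2 ⟨mk (swap (1 : Fin 7) 2 * swap (4 : Fin 7) 5) (by decide), by decide⟩))
      · right; right; right; left
        exact conj_of_type (κ := swap (4 : Fin 7) 5) (by rw [h]; decide +kernel) (by decide) (by decide)
      · right; right; right; right
        have hc : IsConj (c3 * u7) t :=
          conj_of_type (κ := swap (3 : Fin 7) 4) (by rw [h]; decide +kernel) (by decide) (by decide)
        obtain ⟨g, hg⟩ := isConj_iff.1 hc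
        have ho : orderOf c3 = 3 := order_of_pow (by norm_num) (by decide) (by decide)
        have hconj : ∀ a b : A7, g * a * g⁻¹ = g * b * g⁻¹ → a = b := fun a b hab => by
          calc a = g⁻¹ * (g * a * g⁻¹) * g := by group
            _ = g⁻¹ * (g * b * g⁻¹) * g := by rw [hab]
            _ = b := by group
        refine ⟨g * c3 * g⁻¹, g * u7 * g⁻¹, g * w7 * g⁻¹, ?_, ?_, ?_, ?_, ?_, ?_, ?_, ?_, ?_, ?_⟩
        · rw [← hg]; group
        · rw [← orderOf_of_isConj (isConj_iff.2 ⟨g, rfl⟩ : IsConj c3 (g * c3 * g⁻¹)), ho]; decide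
        · rw [conj_pow, show u7 ^ 2 = 1 by decide]; group
        · intro h'
          exact absurd (hconj u7 1 (by rw [h']; group)) (by decide)
        · rw [conj_pow, show w7 ^ 2 = 1 by decide]; group
        · intro h'
          exact absurd (hconj w7 1 (by rw [h']; group)) (by decide)
        · intro h'
          exact absurd (hconj w7 u7 h') (by decide)
        · calc g * c3 * g⁻¹ * (g * u7 * g⁻¹) = g * (c3 * u7) * g⁻¹ := by group
            _ = g * (u7 * c3) * g⁻¹ := by rw [show c3 * u7 = u7 * c3 by decide]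
            _ = _ := by group
        · calc g * c3 * g⁻¹ * (g * w7 * g⁻¹) = g * (c3 * w7) * g⁻¹ := by group
            _ = g * (w7 * c3) * g⁻¹ := by rw [show c3 * w7 = w7 * c3 by decide]
            _ = _ := by group
        · calc g * u7 * g⁻¹ * (g * w7 * g⁻¹) = g * (u7 * w7) * g⁻¹ := by group
            _ = g * (w7 * u7) * g⁻¹ := by rw [show u7 * w7 = w7 * u7 by decide]
            _ = _ := by group }

/-! ### `A₆` -/

abbrev A6 := alternatingGroup (Fin 6)

theorem card_A6 : Nat.card A6 = 8 * 45 := by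
  have h := two_mul_nat_card_alternatingGroup (α := Fin 6)
  rw [Nat.card_perm, Nat.card_fin, show Nat.factorial 6 = 720 from rfl] at h
  have h2 : 2 * Nat.card A6 = 720 := h
  omega

theorem types_A6 (t : A6) : (t : Perm (Fin 6)).cycleType = 0 ∨ (t : Perm (Fin 6)).cycleType = {3} ∨
    (t : Perm (Fin 6)).cycleType = {5} ∨ (t : Perm (Fin 6)).cycleType = {2, 2} ∨
    (t : Perm (Fin 6)).cycleType = {3, 3} ∨ (t : Perm (Fin 6)).cycleType = {4, 2} := by
  have hs := sum_cycleType_le (t : Perm (Fin 6))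
  rw [Fintype.card_fin] at hs
  rcases mem_types (show 6 ≤ 7 by norm_num) t with h | h | h | h | h | h | h | h
  · exact Or.inl h
  · exact Or.inr (Or.inl h)
  · exact Or.inr (Or.inr (Or.inl h))
  · rw [h] at hs; exact absurd hs (by decide)
  · exact Or.inr (Or.inr (Or.inr (Or.inl h)))
  · exact Or.inr (Or.inr (Or.inr (Or.inr (Or.inl h))))
  · exact Or.inr (Or.inr (Or.inr (Or.inr (Or.inr h))))
  · rw [h] at hs; exact absurd hs (by decide)

theorem inv_A6 (t : A6) (ht : t ^ 2 = 1) (ht1 : t ≠ 1) :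
    IsConj ((mk (swap (0 : Fin 6) 1 * swap (1 : Fin 6) 2 * swap (2 : Fin 6) 3 * swap (4 : Fin 6) 5) (by decide) : A6) ^ 2) t := by
  have ht' : (t : Perm (Fin 6)) ^ 2 = 1 := congrArg Subtype.val ht
  have h2 : ∀ k ∈ (t : Perm (Fin 6)).cycleType, k ∣ 2 := fun k hk => type_of_sq ht' hk
  have h22 : (t : Perm (Fin 6)).cycleType = {2, 2} := by
    rcases types_A6 t with h | h | h | h | h | h
    · exact absurd (Subtype.ext (cycleType_eq_zero.1 h)) ht1
    · exact absurd (h2 3 (by rw [h]; decide)) (by decide)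
    · exact absurd (h2 5 (by rw [h]; decide)) (by decide)
    · exact h
    · exact absurd (h2 3 (by rw [h]; decide)) (by decide)
    · exact absurd (h2 4 (by rw [h]; decide)) (by decide)
  exact conj_of_type (κ := swap (4 : Fin 6) 5) (by rw [h22]; decide +kernel) (by decide) (by decide)

def dih6 : DihType A6 where
  a := mk (swap (0 : Fin 6) 1 * swap (1 : Fin 6) 2 * swap (2 : Fin 6) 3 * swap (4 : Fin 6) 5) (by decide)
  b := mk (swap (0 : Fin 6) 3 * swap (1 : Fin 6) 2) (by decide)
  m := 45
  card := card_A6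
  odd := by decide
  ha2 := by decide
  ha4 := by decide
  hb := by decide
  hb1 := by decide
  hab := by decide
  inv := inv_A6

theorem real_A6 (t : A6) : IsConj t t⁻¹ := by
  rcases types_A6 t with h | h | h | h | h | h
  · have : t = 1 := Subtype.ext (cycleType_eq_zero.1 h)
    rw [this, inv_one]
  · exact real_of_type (r := mk (swap (0 : Fin 6) 1 * swap (1 : Fin 6) 2) (by decide)) (by rw [h]; decide +kernel)
      (isConj_iff.2 ⟨mk (swap (1 : Fin 6) 2 * swap (3 : Fin 6) 4) (by decide), by decide⟩)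
  · exact real_of_type (r := mk (swap (0 : Fin 6) 1 * swap (1 : Fin 6) 2 * (swap (2 : Fin 6) 3 * swap (3 : Fin 6) 4)) (by decide)) (by rw [h]; decide +kernel)
      (isConj_iff.2 ⟨mk (swap (1 : Fin 6) 4 * swap (2 : Fin 6) 3) (by decide), by decide⟩)
  · exact real_of_type (r := mk (swap (0 : Fin 6) 1 * swap (2 : Fin 6) 3) (by decide)) (by rw [h]; decide +kernel)
      (isConj_iff.2 ⟨1, by decide⟩)
  · exact real_of_type (r := mk (swap (0 : Fin 6) 1 * swap (1 : Fin 6) 2 * (swap (3 : Fin 6) 4 * swap (4 : Fin 6) 5)) (by decide)) (by rw [h]; decide +kernel)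
      (isConj_iff.2 ⟨mk (swap (1 : Fin 6) 2 * swap (4 : Fin 6) 5) (by decide), by decide⟩)
  · exact real_of_type (r := mk (swap (0 : Fin 6) 1 * swap (1 : Fin 6) 2 * swap (2 : Fin 6) 3 * swap (4 : Fin 6) 5) (by decide)) (by rw [h]; decide +kernel)
      (isConj_iff.2 ⟨mk (swap (0 : Fin 6) 3 * swap (1 : Fin 6) 2) (by decide), by decide⟩)

theorem odd_of_type {n : ℕ} {t : alternatingGroup (Fin n)} {m : Multiset ℕ} (h : (t : Perm (Fin n)).cycleType = m)
    (hm : Odd m.lcm) : Odd (orderOf t) := by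
  rw [orderOf_coe, ← lcm_cycleType, h]
  exact hm

theorem cls_A6 (t : A6) : Odd (orderOf t) ∨ IsConj dih6.a t ∨ DihType.Mixed t := by
  rcases types_A6 t with h | h | h | h | h | h
  · exact Or.inl (odd_of_type h (by decide))
  · exact Or.inl (odd_of_type h (by decide))
  · exact Or.inl (odd_of_type h (by decide))
  · right; right
    have ht : t ^ 2 = 1 := by
      apply orderOf_dvd_iff_pow_eq_one.1
      rw [orderOf_coe, ← lcm_cycleType, h]
      decide
    have ht1 : t ≠ 1 := by
      rintro rfl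
      rw [Subgroup.coe_one, cycleType_one] at h
      exact absurd h (by decide)
    exact dih6.mixed_of_sq ht ht1
  · exact Or.inl (odd_of_type h (by decide))
  · right; left
    exact conj_of_type (κ := swap (4 : Fin 6) 5) (by rw [h]; decide +kernel) (by decide) (by decide)

/-! ### `A₅` -/

abbrev A5 := alternatingGroup (Fin 5)

theorem card_A5 : Nat.card A5 = 4 * 15 := by
  have h := two_mul_nat_card_alternatingGroup (α := Fin 5)
  rw [Nat.card_perm, Nat.card_fin, show Nat.factorial 5 = 120 from rfl] at h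
  have h2 : 2 * Nat.card A5 = 120 := h
  omega

theorem types_A5 (t : A5) : (t : Perm (Fin 5)).cycleType = 0 ∨ (t : Perm (Fin 5)).cycleType = {3} ∨
    (t : Perm (Fin 5)).cycleType = {5} ∨ (t : Perm (Fin 5)).cycleType = {2, 2} := by
  have hs := sum_cycleType_le (t : Perm (Fin 5))
  rw [Fintype.card_fin] at hs
  rcases mem_types (show 5 ≤ 7 by norm_num) t with h | h | h | h | h | h | h | h
  · exact Or.inl h
  · exact Or.inr (Or.inl h)
  · exact Or.inr (Or.inr (Or.inl h))
  · rw [h] at hs; exact absurd hs (by decide)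
  · exact Or.inr (Or.inr (Or.inr h))
  · rw [h] at hs; exact absurd hs (by decide)
  · rw [h] at hs; exact absurd hs (by decide)
  · rw [h] at hs; exact absurd hs (by decide)

def a5 : A5 := mk (swap (0 : Fin 5) 1 * swap (2 : Fin 5) 3) (by decide)
def b5 : A5 := mk (swap (0 : Fin 5) 2 * swap (1 : Fin 5) 3) (by decide)

theorem real_A5 (t : A5) : IsConj t t⁻¹ := by
  rcases types_A5 t with h | h | h | h
  · have : t = 1 := Subtype.ext (cycleType_eq_zero.1 h)
    rw [this, inv_one]
  · exact real_of_type (r := mk (swap (0 : Fin 5) 1 * swap (1 : Fin 5) 2) (by decide)) (by rw [h]; decide +kernel)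
      (isConj_iff.2 ⟨mk (swap (1 : Fin 5) 2 * swap (3 : Fin 5) 4) (by decide), by decide⟩)
  · exact real_of_type (r := mk (swap (0 : Fin 5) 1 * swap (1 : Fin 5) 2 * (swap (2 : Fin 5) 3 * swap (3 : Fin 5) 4)) (by decide)) (by rw [h]; decide +kernel)
      (isConj_iff.2 ⟨mk (swap (1 : Fin 5) 4 * swap (2 : Fin 5) 3) (by decide), by decide⟩)
  · exact real_of_type (r := mk (swap (0 : Fin 5) 1 * swap (2 : Fin 5) 3) (by decide)) (by rw [h]; decide +kernel)
      (isConj_iff.2 ⟨1, by decide⟩)

theorem cls_A5 (t : A5) : Odd (orderOf t) ∨ IsConj a5 t := by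
  rcases types_A5 t with h | h | h | h
  · exact Or.inl (odd_of_type h (by decide))
  · exact Or.inl (odd_of_type h (by decide))
  · exact Or.inl (odd_of_type h (by decide))
  · right
    obtain ⟨σ, hσ⟩ := isConj_iff.1 (isConj_iff_cycleType_eq.2
      (show (a5 : Perm (Fin 5)).cycleType = (t : Perm (Fin 5)).cycleType by rw [h]; decide +kernel))
    exact conj_of_type (κ := swap (0 : Fin 5) 1) (by rw [h]; decide +kernel) (by decide) (by decide)

end Cfsg.Agent.H908.Alt
end

-- part: H908/Frob8
section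
prune_inst 0x401004000014002000000808021000040000000000000000040200000090000000002004008000100000804802001000000000000000000000000040000010120808010000000010004000f000080000000000000000000000000000000000004000000000
set_option linter.all false
open scoped Cfsg.Agent.FastGrp

-- part: H908/NoFrob
section
/-!
# No `2³:7` in dimension four, odd characteristic (projectively)
-/

set_option autoImplicit false
set_option linter.unusedSectionVars false

namespace Cfsg.Agent.H908

open Cfsg Cfsg.Geo Module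
open scoped MatrixGroups

section Op
variable {K : Type*} [Field K] {V : Type*} [AddCommGroup V] [Module K V] [FiniteDimensional K V]

/-- common eigenvectors -/
theorem exists_common [IsAlgClosed K] (l : List (End K V)) : ∀ (W : Submodule K V), W ≠ ⊥ →
    (∀ f ∈ l, ∀ g ∈ l, f * g = g * f) → (∀ f ∈ l, ∀ w ∈ W, f w ∈ W) →
    ∃ v ∈ W, v ≠ 0 ∧ ∀ f ∈ l, ∃ μ : K, f v = μ • v := by
  induction l with
  | nil =>
    intro W hW _ _
    obtain ⟨v, hv, hv0⟩ := Submodule.exists_mem_ne_zero_of_ne_bot hW
    exact ⟨v, hv, hv0, fun f hf => by simp at hf⟩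
  | cons f l ih =>
    intro W hW hcomm hinv
    have hf : ∀ w ∈ W, f w ∈ W := hinv f (List.mem_cons_self ..)
    have : Nontrivial W := Submodule.nontrivial_iff_ne_bot.2 hW
    obtain ⟨μ, hμ⟩ := Module.End.exists_eigenvalue (f.restrict hf)
    obtain ⟨w, hw⟩ := hμ.exists_hasEigenvector
    have hw1 : f (w : V) = μ • (w : V) := by
      have := congrArg Subtype.val (Module.End.mem_eigenspace_iff.1 hw.1)
      simpa using this
    have hw0 : (w : V) ≠ 0 := fun h => hw.2 (Subtype.ext h)
    let W' : Submodule K V := W ⊓ LinearMap.ker (f - μ • (1 : End K V))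
    have hmem : ∀ u, u ∈ W' ↔ u ∈ W ∧ f u = μ • u := by
      intro u
      rw [Submodule.mem_inf, LinearMap.mem_ker, LinearMap.sub_apply, LinearMap.smul_apply, Module.End.one_apply,
        sub_eq_zero]
    have hW' : W' ≠ ⊥ := by
      intro h
      have : (w : V) ∈ W' := (hmem _).2 ⟨w.2, hw1⟩
      rw [h, Submodule.mem_bot] at this
      exact hw0 this
    obtain ⟨v, hv, hv0, hvl⟩ := ih W' hW'
      (fun g hg g' hg' => hcomm g (List.mem_cons_of_mem _ hg) g' (List.mem_cons_of_mem _ hg'))
      (fun g hg u hu => by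
        rw [hmem] at hu ⊢
        refine ⟨hinv g (List.mem_cons_of_mem _ hg) u hu.1, ?_⟩
        rw [← Module.End.mul_apply, hcomm f (List.mem_cons_self ..) g (List.mem_cons_of_mem _ hg),
          Module.End.mul_apply, hu.2, map_smul])
    rw [hmem] at hv
    refine ⟨v, hv.1, hv0, fun g hg => ?_⟩
    rcases List.mem_cons.1 hg with rfl | hg
    · exact ⟨μ, hv.2⟩
    · exact hvl g hg

/-- independence of common eigenvectors for different characters -/
theorem li_of_chars (h2 : (2 : K) ≠ 0) {m n : ℕ} {X : Fin n → End K V} {v : Fin m → V} {μ : Fin n → Fin m → K} {z : K}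
    (hz : z ≠ 0) (hX : ∀ k i, X k (v i) = μ k i • v i) (hμ : ∀ k i, μ k i * μ k i = z) (hv : ∀ i, v i ≠ 0)
    (hne : ∀ i j, i ≠ j → ∃ k, μ k i ≠ μ k j) : LinearIndependent K v := by
  rw [Fintype.linearIndependent_iff]
  intro c hc j
  have key : ∀ (l : List (Fin n)) (i : Fin m),
      (l.map fun k => X k + μ k j • (1 : End K V)).prod (v i) = (l.map fun k => μ k i + μ k j).prod • v i := by
    intro l i
    induction l with
    | nil => simp
    | cons k l ih =>
      rw [List.map_cons, List.prod_cons, List.map_cons, List.prod_cons, Module.End.mul_apply, ih, map_smul,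
        LinearMap.add_apply, hX, LinearMap.smul_apply, Module.End.one_apply, ← add_smul, smul_smul, mul_comm]
  have h1 := congrArg ((List.finRange n).map fun k => X k + μ k j • (1 : End K V)).prod hc
  rw [map_zero, map_sum] at h1
  have h3 : ∀ i, ((List.finRange n).map fun k => X k + μ k j • (1 : End K V)).prod (c i • v i) =
      (c i * ((List.finRange n).map fun k => μ k i + μ k j).prod) • v i := by
    intro i
    rw [map_smul, key, smul_smul]
  rw [Finset.sum_congr rfl fun i _ => h3 i, ← Finset.sum_erase_add _ _ (Finset.mem_univ j)] at h1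
  have h4 : ∑ i ∈ Finset.univ.erase j, (c i * ((List.finRange n).map fun k => μ k i + μ k j).prod) • v i = 0 := by
    apply Finset.sum_eq_zero
    intro i hi
    obtain ⟨k, hk⟩ := hne i j (Finset.ne_of_mem_erase hi)
    have h5 : μ k i + μ k j = 0 := by
      have h6 : (μ k i - μ k j) * (μ k i + μ k j) = 0 := by linear_combination hμ k i - hμ k j
      exact (mul_eq_zero.1 h6).resolve_left (sub_ne_zero.2 hk)
    have h6 : ((List.finRange n).map fun k => μ k i + μ k j).prod = 0 := by
      apply List.prod_eq_zero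
      rw [List.mem_map]
      exact ⟨k, List.mem_finRange k, h5⟩
    rw [h6, mul_zero, zero_smul]
  rw [h4, zero_add] at h1
  have h5 : ((List.finRange n).map fun k => μ k j + μ k j).prod ≠ 0 := by
    rw [Ne, List.prod_eq_zero_iff]
    intro h6
    rw [List.mem_map] at h6
    obtain ⟨k, -, hk⟩ := h6
    have h7 : 2 * μ k j = 0 := by linear_combination hk
    have h8 := (mul_eq_zero.1 h7).resolve_left h2
    apply hz
    rw [← hμ k j, h8, mul_zero]
  exact (mul_eq_zero.1 ((smul_eq_zero.1 h1).resolve_right (hv j))).resolve_right h5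

/-- seven commuting conjugates of an operator with scalar square, in small dimension, are equal. -/
theorem no_cycle [IsAlgClosed K] (h2 : (2 : K) ≠ 0) (hdim : finrank K V < 7) {X : ℕ → End K V} {t : End K V}
    (ht : Function.Injective t) (hT : ∀ k, t * X k = X (k + 1) * t) (hper : ∀ k, X (k + 7) = X k)
    (hcomm : ∀ i j, X i * X j = X j * X i) {z : K} (hz : z ≠ 0) (hsq : ∀ i, X i * X i = z • (1 : End K V)) :
    X 0 = X 1 := by
  by_contra hne
  have hper' : ∀ q k, X (k + 7 * q) = X k := by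
    intro q
    induction q with
    | zero => intro k; rfl
    | succ q ih =>
      intro k
      rw [show k + 7 * (q + 1) = k + 7 * q + 7 by ring, hper, ih]
  obtain ⟨v, ⟨w, hw⟩, hv0, hvl⟩ := exists_common ((List.range 7).map X) (LinearMap.range (X 0 - X 1)) (by
    rw [Ne, LinearMap.range_eq_bot]
    exact sub_ne_zero.2 hne) (by
      intro f hf g hg
      rw [List.mem_map] at hf hg
      obtain ⟨i, -, rfl⟩ := hf
      obtain ⟨j, -, rfl⟩ := hg
      exact hcomm i j) (by
      rintro f hf _ ⟨u, rfl⟩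
      rw [List.mem_map] at hf
      obtain ⟨i, -, rfl⟩ := hf
      refine ⟨X i u, ?_⟩
      rw [← Module.End.mul_apply, ← Module.End.mul_apply, sub_mul, mul_sub, hcomm 0 i, hcomm 1 i])
  have hall : ∀ k, ∃ μ : K, X k v = μ • v := by
    intro k
    obtain ⟨μ, hμ⟩ := hvl (X (k % 7)) (List.mem_map.2 ⟨k % 7, List.mem_range.2 (Nat.mod_lt _ (by norm_num)), rfl⟩)
    refine ⟨μ, ?_⟩
    rw [← Nat.mod_add_div k 7, hper']
    exact hμ
  choose lam hlam using hall
  have hsq' : ∀ k, lam k * lam k = z := by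
    intro k
    have h1 := congrArg (fun f : End K V => f v) (hsq k)
    simp only [Module.End.mul_apply, LinearMap.smul_apply, Module.End.one_apply] at h1
    rw [hlam, map_smul, hlam, smul_smul] at h1
    have h3 : (lam k * lam k - z) • v = 0 := by rw [sub_smul, h1, sub_self]
    exact sub_eq_zero.1 ((smul_eq_zero.1 h3).resolve_right hv0)
  have hlper : ∀ k, lam (k + 7) = lam k := by
    intro k
    have h1 : (lam (k + 7) - lam k) • v = 0 := by rw [sub_smul, ← hlam, ← hlam, hper, sub_self]
    exact sub_eq_zero.1 ((smul_eq_zero.1 h1).resolve_right hv0)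
  have hlper' : ∀ q k, lam (k + 7 * q) = lam k := by
    intro q
    induction q with
    | zero => intro k; rfl
    | succ q ih =>
      intro k
      rw [show k + 7 * (q + 1) = k + 7 * q + 7 by ring, hlper, ih]
  have h01 : lam 0 ≠ lam 1 := by
    intro h
    have h1 : (X 0 + X 1) v = 0 := by
      rw [← hw, ← Module.End.mul_apply, add_mul, mul_sub, mul_sub, hsq, hsq, hcomm 1 0]
      have : z • (1 : End K V) - X 0 * X 1 + (X 0 * X 1 - z • (1 : End K V)) = 0 := by abel
      rw [this]; rfl
    rw [LinearMap.add_apply, hlam, hlam, ← h, ← add_smul] at h1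
    have h3 : 2 * lam 0 = 0 := by
      have := (smul_eq_zero.1 h1).resolve_right hv0
      linear_combination this
    have h4 := (mul_eq_zero.1 h3).resolve_left h2
    apply hz
    rw [← hsq' 0, h4, mul_zero]
  -- the seven vectors
  have hshift : ∀ j k, X (k + j) * t ^ j = t ^ j * X k := by
    intro j
    induction j with
    | zero => intro k; simp
    | succ j ih =>
      intro k
      rw [pow_succ, ← mul_assoc, show k + (j + 1) = (k + 1) + j by ring, ih, mul_assoc, mul_assoc, hT]
  have hXv : ∀ j k, X k ((t ^ j) v) = lam (k + 6 * j) • (t ^ j) v := by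
    intro j k
    have h1 : X k = X ((k + 6 * j) + j) := by
      rw [show k + 6 * j + j = k + 7 * j by ring, hper']
    rw [h1, ← Module.End.mul_apply, hshift, Module.End.mul_apply, hlam, map_smul]
  have hli : LinearIndependent K (fun j : Fin 7 => (t ^ (j : ℕ)) v) := by
    refine li_of_chars h2 (n := 7) (X := fun k : Fin 7 => X k) (μ := fun k j => lam ((k : ℕ) + 6 * (j : ℕ))) hz
      (fun k j => hXv j k) (fun k j => hsq' _) (fun j => ?_) (fun i j hij => ?_)
    · have hinj : ∀ n : ℕ, Function.Injective (t ^ n) := by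
        intro n
        induction n with
        | zero => intro a b h; simpa using h
        | succ n ih =>
          intro a b h
          rw [pow_succ, Module.End.mul_apply, Module.End.mul_apply] at h
          exact ht (ih h)
      intro h
      apply hv0
      apply hinj j
      rw [map_zero]
      exact h
    · by_contra hcon
      push Not at hcon
      apply h01
      -- periodicity with a period prime to seven
      have hall : ∀ n : ℕ, lam (n + 6 * (i : ℕ)) = lam (n + 6 * (j : ℕ)) := by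
        intro n
        have h1 := hcon ⟨n % 7, Nat.mod_lt _ (by norm_num)⟩
        simp only at h1
        have e1 : lam (n + 6 * (i : ℕ)) = lam (n % 7 + 6 * (i : ℕ)) := by
          conv_lhs => rw [← Nat.mod_add_div n 7]
          rw [show n % 7 + 7 * (n / 7) + 6 * (i : ℕ) = n % 7 + 6 * (i : ℕ) + 7 * (n / 7) by ring, hlper']
        have e2 : lam (n + 6 * (j : ℕ)) = lam (n % 7 + 6 * (j : ℕ)) := by
          conv_lhs => rw [← Nat.mod_add_div n 7]
          rw [show n % 7 + 7 * (n / 7) + 6 * (j : ℕ) = n % 7 + 6 * (j : ℕ) + 7 * (n / 7) by ring, hlper']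
        rw [e1, e2]
        exact h1
      have hstep : ∀ n : ℕ, lam n = lam (n + ((j : ℕ) + 6 * (i : ℕ)) * 6) := by
        intro n
        have h1 := hall (n + 36 * (i : ℕ))
        rw [show n + 36 * (i : ℕ) + 6 * (i : ℕ) = n + 7 * (6 * (i : ℕ)) by ring, hlper'] at h1
        rw [h1]
        congr 1
        ring
      have hm : ∀ m n : ℕ, lam n = lam (n + ((j : ℕ) + 6 * (i : ℕ)) * 6 * m) := by
        intro m
        induction m with
        | zero => intro n; simp
        | succ m ih =>
          intro n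
          rw [ih n, hstep]
          congr 1
          ring
      have hcop : ∃ m : ℕ, (((j : ℕ) + 6 * (i : ℕ)) * 6 * m) % 7 = 1 := by
        have : ∀ i j : Fin 7, i ≠ j → ∃ m : Fin 7, (((j : ℕ) + 6 * (i : ℕ)) * 6 * (m : ℕ)) % 7 = 1 := by decide
        obtain ⟨m, hm⟩ := this i j hij
        exact ⟨m, hm⟩
      obtain ⟨m, hm1⟩ := hcop
      rw [hm m 0]
      conv_lhs => rw [← Nat.mod_add_div (((j : ℕ) + 6 * (i : ℕ)) * 6 * m) 7, hm1]
      rw [show 0 + (1 + 7 * (((j : ℕ) + 6 * (i : ℕ)) * 6 * m / 7)) = 1 + 7 * (((j : ℕ) + 6 * (i : ℕ)) * 6 * m / 7) by ring,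
        hlper']
  have := hli.fintype_card_le_finrank
  rw [Fintype.card_fin] at this
  omega

end Op

namespace Cov

variable {F : Type*} [Field F] {T : Type*} [Group T] {P : Subgroup (GL (Fin 4) F)} {φ : P →* T}

/-- **No `2³:7`.** -/
theorem no_frob [Finite F] (h : Cov P φ) (h2 : (2 : F) ≠ 0) {a t : T} (ha : a * a = 1) (ht : t ^ 7 = 1)
    (h01 : a * (t * a * t⁻¹) = t * a * t⁻¹ * a) (h02 : a * (t ^ 2 * a * (t ^ 2)⁻¹) = t ^ 2 * a * (t ^ 2)⁻¹ * a)
    (h3 : t ^ 3 * a * (t ^ 3)⁻¹ = a * (t * a * t⁻¹)) : t * a * t⁻¹ = a := by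
  have hodd : Odd (orderOf t) := Odd.of_dvd_nat (by decide) (orderOf_dvd_of_pow_eq_one ht)
  obtain ⟨τ, hτ, hτo⟩ := h.exists_lift t hodd
  have hτ7 : τ ^ 7 = 1 := by
    apply orderOf_dvd_iff_pow_eq_one.1
    rw [hτo]
    exact orderOf_dvd_of_pow_eq_one ht
  obtain ⟨x, hx⟩ := h.surj a
  let y : ℕ → P := fun n => τ ^ n * x * (τ ^ n)⁻¹
  have hy : ∀ n, φ (y n) = t ^ n * a * (t ^ n)⁻¹ := fun n => by
    change φ (τ ^ n * x * (τ ^ n)⁻¹) = _
    rw [map_mul, map_mul, map_inv, map_pow, hτ, hx]
  have hy1 : ∀ n k, y (n + k) = τ ^ k * y n * (τ ^ k)⁻¹ := fun n k => by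
    change τ ^ (n + k) * x * (τ ^ (n + k))⁻¹ = τ ^ k * (τ ^ n * x * (τ ^ n)⁻¹) * (τ ^ k)⁻¹
    rw [add_comm n k, pow_add]
    group
  have hyy : ∀ n, φ (y n) * φ (y n) = 1 := fun n => by
    rw [hy]
    calc t ^ n * a * (t ^ n)⁻¹ * (t ^ n * a * (t ^ n)⁻¹) = t ^ n * (a * a) * (t ^ n)⁻¹ := by group
      _ = 1 := by rw [ha]; group
  clear_value y
  obtain ⟨X, hX⟩ : ∃ X : ℕ → Matrix (Fin 4) (Fin 4) F, X = fun n => mt P (y n) := ⟨_, rfl⟩
  have hXa : ∀ n, X n = mt P (y n) := fun n => by rw [hX]
  have hunit : ∀ n, IsUnit (X n) := fun n => by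
    rw [hXa]
    exact (Group.isUnit (y n)).map (mt P)
  -- shifting
  have shift : ∀ (c : F) (i j k : ℕ), X i * X j = c • (X j * X i) → X (i + k) * X (j + k) = c • (X (j + k) * X (i + k)) := by
    intro c i j k hij
    have e1 : ∀ a b : ℕ, X (a + k) * X (b + k) = mt P (τ ^ k) * (X a * X b) * mt P (τ ^ k)⁻¹ := by
      intro a b
      rw [hXa, hXa, hXa, hXa, ← map_mul, ← map_mul, ← map_mul, ← map_mul, hy1, hy1]
      congr 1
      group
    rw [e1, e1, hij, mul_smul_comm, smul_mul_assoc]
  obtain ⟨ε, hε, hε1⟩ : ∃ ε : F, ε * ε = 1 ∧ X 0 * X 1 = ε • (X 1 * X 0) := by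
    rcases h.comm_or_anti (x := y 0) (y := y 1) (by
      rw [hy, hy, pow_zero, pow_one, one_mul, inv_one, mul_one, h01]) (hyy 0) with h1 | h1
    · exact ⟨1, one_mul 1, by rw [one_smul, hXa, hXa]; exact h1⟩
    · exact ⟨-1, by norm_num, by rw [neg_one_smul, hXa, hXa]; exact h1⟩
  obtain ⟨δ, hδ, hδ1⟩ : ∃ δ : F, δ * δ = 1 ∧ X 0 * X 2 = δ • (X 2 * X 0) := by
    rcases h.comm_or_anti (x := y 0) (y := y 2) (by
      rw [hy, hy, pow_zero, one_mul, inv_one, mul_one, h02]) (hyy 0) with h1 | h1
    · exact ⟨1, one_mul 1, by rw [one_smul, hXa, hXa]; exact h1⟩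
    · exact ⟨-1, by norm_num, by rw [neg_one_smul, hXa, hXa]; exact h1⟩
  obtain ⟨c, hc⟩ : ∃ c : F, X 3 = c • (X 0 * X 1) := by
    have hk : φ (y 3 * (y 0 * y 1)⁻¹) = 1 := by
      rw [map_mul, map_inv, map_mul, hy, hy, hy, pow_zero, pow_one, one_mul, inv_one, mul_one, h3, mul_inv_cancel]
    obtain ⟨c, hc⟩ := (h.ker _).1 hk
    refine ⟨c, ?_⟩
    have e : y 3 = (y 3 * (y 0 * y 1)⁻¹) * (y 0 * y 1) := by group
    rw [hXa, hXa, hXa]
    conv_lhs => rw [e, map_mul, hc, smul_mul_assoc, one_mul, map_mul]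
  have hc0 : c ≠ 0 := by
    rintro rfl
    rw [zero_smul] at hc
    exact (hunit 3).ne_zero hc
  have e23 := shift ε 0 1 2 hε1
  have e12 := shift ε 0 1 1 hε1
  have e13 := shift δ 0 2 1 hδ1
  norm_num at e23 e12 e13
  have e20 : X 2 * X 0 = δ • (X 0 * X 2) := by rw [hδ1, smul_smul, hδ, one_smul]
  have e21 : X 2 * X 1 = ε • (X 1 * X 2) := by rw [e12, smul_smul, hε, one_smul]
  have e10 : X 1 * X 0 = ε • (X 0 * X 1) := by rw [hε1, smul_smul, hε, one_smul]
  have hne : X 0 * X 1 * X 2 ≠ 0 := (((hunit 0).mul (hunit 1)).mul (hunit 2)).ne_zero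
  have hne' : X 0 * X 1 * X 1 ≠ 0 := (((hunit 0).mul (hunit 1)).mul (hunit 1)).ne_zero
  have hδ2 : δ = 1 := by
    have e : X 2 * X 3 = (c * δ * ε) • (X 0 * X 1 * X 2) := by
      rw [hc, mul_smul_comm, ← mul_assoc, e20, smul_mul_assoc, mul_assoc, e21, mul_smul_comm, smul_smul, smul_smul,
        ← mul_assoc]
    have e' : X 3 * X 2 = c • (X 0 * X 1 * X 2) := by rw [hc, smul_mul_assoc]
    rw [e, e', smul_smul] at e23
    have h4 : (c * δ * ε - ε * c) • (X 0 * X 1 * X 2) = 0 := by rw [sub_smul, e23, sub_self]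
    have h5 := (smul_eq_zero.1 h4).resolve_right hne
    have hε0 : ε ≠ 0 := by rintro rfl; simp at hε
    have h6 : c * ε * (δ - 1) = 0 := by linear_combination h5
    exact sub_eq_zero.1 ((mul_eq_zero.1 h6).resolve_left (mul_ne_zero hc0 hε0))
  have hε2 : ε = 1 := by
    have e : X 1 * X 3 = (c * ε) • (X 0 * X 1 * X 1) := by
      rw [hc, mul_smul_comm, ← mul_assoc, e10, smul_mul_assoc, smul_smul]
    have e' : X 3 * X 1 = c • (X 0 * X 1 * X 1) := by rw [hc, smul_mul_assoc]
    rw [e, e', hδ2, one_smul] at e13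
    have h4 : (c * ε - c) • (X 0 * X 1 * X 1) = 0 := by rw [sub_smul, e13, sub_self]
    have h5 := (smul_eq_zero.1 h4).resolve_right hne'
    have h6 : c * (ε - 1) = 0 := by linear_combination h5
    exact sub_eq_zero.1 ((mul_eq_zero.1 h6).resolve_left hc0)
  subst hδ2 hε2
  rw [one_smul] at hε1 hδ1
  have h03 : X 0 * X 3 = X 3 * X 0 := by rw [hc, mul_smul_comm, smul_mul_assoc, mul_assoc, ← hε1]
  have hper : ∀ k, X (k + 7) = X k := by
    intro k
    rw [hXa, hXa, hy1, hτ7, one_mul, inv_one, mul_one]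
  have hper' : ∀ q k, X (k + 7 * q) = X k := by
    intro q
    induction q with
    | zero => intro k; rfl
    | succ q ih =>
      intro k
      rw [show k + 7 * (q + 1) = k + 7 * q + 7 by ring, hper, ih]
  have hsmall : ∀ r, r ≤ 3 → ∀ i, X i * X (i + r) = X (i + r) * X i := by
    intro r hr i
    have h0 : X 0 * X r = (1 : F) • (X r * X 0) := by
      rw [one_smul]
      interval_cases r
      · rfl
      · exact hε1
      · exact hδ1
      · exact h03
    have := shift 1 0 r i h0
    rw [one_smul, zero_add] at this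
    rw [add_comm i r]
    exact this
  have hcomm' : ∀ r, r < 7 → ∀ i, X i * X (i + r) = X (i + r) * X i := by
    intro r hr i
    by_cases h4 : r ≤ 3
    · exact hsmall r h4 i
    · have h5 := hsmall (7 - r) (by omega) (i + r)
      rw [show i + r + (7 - r) = i + 7 by omega, hper] at h5
      exact h5.symm
  have hcomm : ∀ i j, X i * X j = X j * X i := by
    have aux : ∀ i j, i ≤ j → X i * X j = X j * X i := by
      intro i j hij
      have e : j = i + (j - i) % 7 + 7 * ((j - i) / 7) := by
        have := Nat.mod_add_div (j - i) 7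
        omega
      rw [e, hper']
      exact hcomm' _ (Nat.mod_lt _ (by norm_num)) i
    intro i j
    rcases le_total i j with h4 | h4
    · exact aux i j h4
    · exact (aux j i h4).symm
  obtain ⟨z, hz⟩ : ∃ z : F, X 0 * X 0 = z • 1 := by
    have : φ (y 0 * y 0) = 1 := by rw [map_mul, hyy]
    obtain ⟨z, hz⟩ := (h.ker _).1 this
    exact ⟨z, by rw [← hz, map_mul, hXa]⟩
  have hz0 : z ≠ 0 := by
    rintro rfl
    rw [zero_smul] at hz
    exact ((hunit 0).mul (hunit 0)).ne_zero hz
  have hsq : ∀ i, X i * X i = z • 1 := by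
    intro i
    have e1 : X i * X i = mt P (τ ^ i) * (X 0 * X 0) * mt P (τ ^ i)⁻¹ := by
      rw [hXa, hXa, ← map_mul, ← map_mul, ← map_mul, ← map_mul]
      congr 1
      have := hy1 0 i
      rw [zero_add] at this
      rw [this]
      group
    rw [e1, hz, mul_smul_comm, mul_one, smul_mul_assoc, ← map_mul, mul_inv_cancel, map_one]
  -- pass to the algebraic closure
  set K := AlgebraicClosure F
  set e := ext (F := F) K with he
  have main := no_cycle (K := K) (V := Fin 4 → K) (X := fun n => e (X n)) (t := e (mt P τ)) (z := algebraMap F K z)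
    (by
      have := (map_ne_zero (algebraMap F K)).2 h2
      rwa [map_ofNat] at this)
    (by simp)
    (by
      have hu : IsUnit (e (mt P τ)) := ((Group.isUnit τ).map (mt P)).map e
      exact ((Module.End.isUnit_iff _).1 hu).injective)
    (by
      intro k
      rw [← map_mul, ← map_mul]
      congr 1
      rw [hXa, hXa, ← map_mul, ← map_mul]
      congr 1
      rw [hy1, pow_one]
      group)
    (by intro k; rw [hper])
    (by intro i j; rw [← map_mul, ← map_mul, hcomm])
    ((map_ne_zero (algebraMap F K)).2 hz0)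
    (by intro i; rw [← map_mul, hsq, ext_smul, map_one])
  have h5 : X 0 = X 1 := ext_injective K main
  rw [hXa, hXa] at h5
  have h6 : y 0 = y 1 := mt_injective h5
  have h7 := congrArg φ h6
  rw [hy, hy, pow_zero, one_mul, inv_one, mul_one, pow_one] at h7
  exact h7.symm

end Cov

end Cfsg.Agent.H908
end

-- part: H908/Frob8
section
/-!
# Groups containing `2³:7`; they do not occur in dimension four in odd characteristic
-/

set_option autoImplicit false
set_option linter.unusedSectionVars false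

namespace Cfsg.Agent.H908

open Cfsg Cfsg.Geo
open scoped MatrixGroups

/-- The group of affine maps of the field of order eight. -/
structure F8 (G : Type*) [Group G] where
  a : G
  b : G
  c : G
  t : G
  hta : t * a = b * t
  htb : t * b = c * t
  htc : t * c = a * b * t
  haa : a * a = 1
  hab : a * b = b * a
  hac : a * c = c * a
  hne : a ≠ b
  ht : t ^ 7 = 1

namespace F8

variable {G : Type*} [Group G]

/-- images under injective homomorphisms -/
def map {H : Type*} [Group H] (D : F8 G) (f : G →* H) (hf : Function.Injective f) : F8 H where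
  a := f D.a
  b := f D.b
  c := f D.c
  t := f D.t
  hta := by rw [← map_mul, D.hta, map_mul]
  htb := by rw [← map_mul, D.htb, map_mul]
  htc := by rw [← map_mul, D.htc, map_mul, map_mul]
  haa := by rw [← map_mul, D.haa, map_one]
  hab := by rw [← map_mul, D.hab, map_mul]
  hac := by rw [← map_mul, D.hac, map_mul]
  hne := hf.ne D.hne
  ht := by rw [← map_pow, D.ht, map_one]

/-- images under homomorphisms with central kernel -/
def mapc {H : Type*} [Group H] (D : F8 G) (f : G →* H) (hf : ∀ x, f x = 1 → ∀ y, y * x = x * y) : F8 H where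
  a := f D.a
  b := f D.b
  c := f D.c
  t := f D.t
  hta := by rw [← map_mul, D.hta, map_mul]
  htb := by rw [← map_mul, D.htb, map_mul]
  htc := by rw [← map_mul, D.htc, map_mul, map_mul]
  haa := by rw [← map_mul, D.haa, map_one]
  hab := by rw [← map_mul, D.hab, map_mul]
  hac := by rw [← map_mul, D.hac, map_mul]
  hne := by
    intro h
    have h1 : f (D.a⁻¹ * D.b) = 1 := by rw [map_mul, map_inv, h, inv_mul_cancel]
    have h2 := hf _ h1 D.t
    have ea : D.a⁻¹ = D.a := inv_eq_of_mul_eq_one_left D.haa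
    rw [ea] at h2
    -- `t a b = b c t`
    have h3 : D.t * (D.a * D.b) = D.b * D.c * D.t := by
      rw [← mul_assoc, D.hta, mul_assoc, D.htb, mul_assoc]
    rw [h3] at h2
    have h4 : D.b * D.c = D.a * D.b := mul_right_cancel h2
    rw [D.hab] at h4
    have h5 : D.c = D.a := mul_left_cancel h4
    -- then `t a = t c`, so `b = a b`
    have h6 := D.htc
    rw [h5, D.hta] at h6
    have h7 : D.b = D.a * D.b := mul_right_cancel h6
    have h8 : D.a = 1 := (mul_eq_right.1 h7.symm)
    apply D.hne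
    have h9 := D.hta
    rw [h8, mul_one] at h9
    rw [h8]
    have : (1 : G) * D.t = D.b * D.t := by rw [one_mul]; exact h9
    exact mul_right_cancel this
  ht := by rw [← map_pow, D.ht, map_one]

theorem false_of_cov {F : Type*} [Field F] [Finite F] {P : Subgroup (GL (Fin 4) F)} {φ : P →* G} (h : Cov P φ)
    (h2 : (2 : F) ≠ 0) (D : F8 G) : False := by
  have e1 : D.t * D.a * D.t⁻¹ = D.b := by rw [D.hta]; group
  have e2 : D.t ^ 2 * D.a * (D.t ^ 2)⁻¹ = D.c := by
    have : D.t ^ 2 * D.a * (D.t ^ 2)⁻¹ = D.t * (D.t * D.a * D.t⁻¹) * D.t⁻¹ := by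
      rw [pow_two]; group
    rw [this, e1, D.htb]; group
  have e3 : D.t ^ 3 * D.a * (D.t ^ 3)⁻¹ = D.a * D.b := by
    have : D.t ^ 3 * D.a * (D.t ^ 3)⁻¹ = D.t * (D.t ^ 2 * D.a * (D.t ^ 2)⁻¹) * D.t⁻¹ := by
      rw [pow_succ' D.t 2]; group
    rw [this, e2, D.htc]; group
  have := h.no_frob h2 (a := D.a) (t := D.t) D.haa D.ht (by rw [e1, D.hab]) (by rw [e2, D.hac]) (by rw [e3, e1])
  rw [e1] at this
  exact D.hne this.symm

end F8

/-- the cover of a quotient modulo scalars -/
theorem cov_of_equiv {F : Type*} [Field F] {P : Subgroup (GL (Fin 4) F)} (hperf : ⁅P, P⁆ = P) {T : Type*} [Group T]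
    (e : (P ⧸ (scalars (Fin 4) F).subgroupOf P) ≃* T) :
    Cov P (e.toMonoidHom.comp (QuotientGroup.mk' ((scalars (Fin 4) F).subgroupOf P))) where
  surj := e.surjective.comp (QuotientGroup.mk'_surjective _)
  ker := by
    intro x
    have h1 : e.toMonoidHom.comp (QuotientGroup.mk' ((scalars (Fin 4) F).subgroupOf P)) x = 1 ↔
        (x : GL (Fin 4) F) ∈ scalars (Fin 4) F := by
      rw [MonoidHom.comp_apply]
      change e _ = 1 ↔ _
      rw [MulEquiv.map_eq_one_iff, QuotientGroup.mk'_apply, QuotientGroup.eq_one_iff, Subgroup.mem_subgroupOf]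
    rw [h1, mem_scalars_iff]
    constructor
    · rintro ⟨c, hc⟩
      exact ⟨c, hc⟩
    · rintro ⟨c, hc⟩
      have hc0 : c ≠ 0 := by
        rintro rfl
        rw [zero_smul] at hc
        have h3 := ((Matrix.isUnit_iff_isUnit_det _).1 (x : GL (Fin 4) F).isUnit).ne_zero
        apply h3
        have : ((x : GL (Fin 4) F) : Matrix (Fin 4) (Fin 4) F) = 0 := hc
        rw [this, Matrix.det_zero]
      exact ⟨Units.mk0 c hc0, hc⟩
  perf := by
    have h := hperf
    rw [commutator_def]
    apply Subgroup.map_injective P.subtype_injective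
    rw [Subgroup.map_commutator, ← MonoidHom.range_eq_map, Subgroup.range_subtype, h]

theorem F8.not_four {F : Type*} [Field F] [Finite F] (h2 : (2 : F) ≠ 0) {P : Subgroup (GL (Fin 4) F)} (hperf : ⁅P, P⁆ = P)
    {T : Type*} [Group T] (D : F8 T) (e : (P ⧸ (scalars (Fin 4) F).subgroupOf P) ≃* T) : False :=
  D.false_of_cov (cov_of_equiv hperf e) h2

/-! ### the alternating groups -/

open Equiv in
/-- `2³:7` in `A₈`. -/
def f8A8 : F8 (alternatingGroup (Fin 8)) where
  a := Alt.mk (swap (0 : Fin 8) 1 * swap (2 : Fin 8) 3 * (swap (4 : Fin 8) 5 * swap (6 : Fin 8) 7)) (by decide)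
  b := Alt.mk (swap (0 : Fin 8) 2 * swap (1 : Fin 8) 3 * (swap (4 : Fin 8) 6 * swap (5 : Fin 8) 7)) (by decide)
  c := Alt.mk (swap (0 : Fin 8) 4 * swap (1 : Fin 8) 5 * (swap (2 : Fin 8) 6 * swap (3 : Fin 8) 7)) (by decide)
  t := Alt.mk (swap (1 : Fin 8) 2 * swap (2 : Fin 8) 4 * swap (4 : Fin 8) 3 * (swap (3 : Fin 8) 6 * swap (6 : Fin 8) 7 * swap (7 : Fin 8) 5)) (by decide)
  hta := by decide
  htb := by decide
  htc := by decide
  haa := by decide
  hab := by decide
  hac := by decide
  hne := by decide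
  ht := by decide +kernel

theorem not_four_alt {F : Type*} [Field F] [Finite F] (h2 : (2 : F) ≠ 0) {P : Subgroup (GL (Fin 4) F)}
    (hperf : ⁅P, P⁆ = P) {m : ℕ} (hm : 8 ≤ m) {T : Type*} [Group T] (hT : Nonempty (T ≃* alternatingGroup (Fin m)))
    (e : (P ⧸ (scalars (Fin 4) F).subgroupOf P) ≃* T) : False := by
  obtain ⟨e'⟩ := hT
  obtain ⟨f, hf⟩ := H912.Bd.exists_alt_hom (Fin.castLEEmb hm)
  exact (f8A8.map f hf).not_four h2 hperf (e.trans e')

end Cfsg.Agent.H908
end
end
end
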