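import Cfsg.Agent.H908.Frob8
import Cfsg.Agent.ClassicalGeometry.PSL2Basic
import Cfsg.Agent.LieClassical.KleinPlus
import Cfsg.Agent.H908.CovFour
import Cfsg.Agent.Lib.Hoist
import Mathlib
import Cfsg.Agent.ClassicalGeometry.AutPSL.Main
import Cfsg.Agent.ClassicalGeometry.HermParabolic
import Cfsg.Agent.S0255
import Cfsg.Agent.FastGrp
import Cfsg.Agent.Prune
set_option linter.all false

section
prune_inst 0x7ffca8fbebf8bbffdfff7e7fa6dccffdfbb91fffe6dff9cbffe061ffab9f630089c52bad8fe010fe1ef6621410b87853ff7eeeffe86fdc7ffffd5ff41ffbee0ff5f7b508519488340fbc2ff603f0778e7f3fffffffffffffffffffffffffffbeffbfffffffff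

-- part: H908/PslSeven_mg
section
prune_inst 0x21500000400000000000058011000000060000000000000080200000018804200d002000a02000000800000400300008110000000000000000000000011d00800000000401400000000080000000000000000000000000000000000000000000000000000
set_option linter.all false
open scoped Cfsg.Agent.FastGrp

-- part: H908/PslSeven
section
/-!
# Facts on `PSL₂(7)`
-/

set_option autoImplicit false
set_option linter.unusedSectionVars false

namespace Cfsg.Agent.H908.Psl7

open Matrix

instance fact7 : Fact (Nat.Prime 7) := ⟨by norm_num⟩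

abbrev S := SpecialLinearGroup (Fin 2) (ZMod 7)
abbrev T := ProjectiveSpecialLinearGroup (Fin 2) (ZMod 7)

def q (a b c d : ZMod 7) (h : a * d - b * c = 1) : S := ⟨!![a, b; c, d], by rw [det_fin_two_of]; exact h⟩

def π : S →* T := QuotientGroup.mk' _

theorem π_surj : Function.Surjective π := QuotientGroup.mk'_surjective _

theorem neg_one_mem : (-1 : S) ∈ Subgroup.center S := by
  rw [Subgroup.mem_center_iff]
  intro g
  rw [mul_neg_one, neg_one_mul]

theorem π_neg (A : S) : π (-A) = π A := by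
  have h : -A = (-1 : S) * A := by rw [neg_one_mul]
  rw [h, map_mul]
  have : π (-1 : S) = 1 := (QuotientGroup.eq_one_iff _).2 neg_one_mem
  rw [this, one_mul]

theorem ext4 {A B : S} (h00 : A 0 0 = B 0 0) (h01 : A 0 1 = B 0 1) (h10 : A 1 0 = B 1 0) (h11 : A 1 1 = B 1 1) :
    A = B := by
  apply Matrix.SpecialLinearGroup.ext
  intro i j
  fin_cases i <;> fin_cases j <;> assumption

theorem det4 (A : S) : A 0 0 * A 1 1 - A 0 1 * A 1 0 = 1 := by
  have := A.2
  rwa [det_fin_two] at this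

theorem eq_q (A : S) : ∃ a b c d h, A = q a b c d h := ⟨A 0 0, A 0 1, A 1 0, A 1 1, det4 A, ext4 rfl rfl rfl rfl⟩

theorem q_mul {a b c d a' b' c' d' : ZMod 7} {h h'} : q a b c d h * q a' b' c' d' h' =
    q (a * a' + b * c') (a * b' + b * d') (c * a' + d * c') (c * b' + d * d')
      (by linear_combination h' * (a * d - b * c) + h) := by
  apply Subtype.ext
  change !![a, b; c, d] * !![a', b'; c', d'] = _
  rw [Matrix.mul_fin_two]
  rfl

private theorem qd {a b c d a' b' c' d' : ZMod 7} (h : a * d - b * c = 1) (h' : a' * d' - b' * c' = 1) :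
    (a * a' + b * c') * (c * b' + d * d') - (a * b' + b * d') * (c * a' + d * c') = 1 := by
  linear_combination h' * (a * d - b * c) + h

private theorem qm {a b c d a' b' c' d' : ZMod 7} {h h'} : q a b c d h * q a' b' c' d' h' =
    q (a * a' + b * c') (a * b' + b * d') (c * a' + d * c') (c * b' + d * d') (qd h h') := q_mul

theorem q_eq {a b c d a' b' c' d' : ZMod 7} {h h'} : q a b c d h = q a' b' c' d' h' ↔
    a = a' ∧ b = b' ∧ c = c' ∧ d = d' := by
  constructor
  · intro e
    refine ⟨?_, ?_, ?_, ?_⟩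
    · simpa [q] using congrFun (congrFun (congrArg Subtype.val e) 0) 0
    · simpa [q] using congrFun (congrFun (congrArg Subtype.val e) 0) 1
    · simpa [q] using congrFun (congrFun (congrArg Subtype.val e) 1) 0
    · simpa [q] using congrFun (congrFun (congrArg Subtype.val e) 1) 1
  · rintro ⟨rfl, rfl, rfl, rfl⟩
    rfl

theorem one_q : (1 : S) = q 1 0 0 1 (by decide) := by
  apply Matrix.SpecialLinearGroup.ext
  intro i j
  fin_cases i <;> fin_cases j <;> rfl

theorem neg_one_q : (-1 : S) = q (-1) 0 0 (-1) (by decide) := by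
  apply Subtype.ext
  change -(1 : Matrix (Fin 2) (Fin 2) (ZMod 7)) = !![-1, 0; 0, -1]
  ext i j
  fin_cases i <;> fin_cases j <;> rfl

theorem neg_q {a b c d : ZMod 7} {h} : -(q a b c d h) = q (-a) (-b) (-c) (-d) (by linear_combination h) := by
  apply Subtype.ext
  change -!![a, b; c, d] = !![-a, -b; -c, -d]
  ext i j
  fin_cases i <;> fin_cases j <;> rfl

theorem π_eq_one {A : S} (h : π A = 1) : A = 1 ∨ A = -1 := by
  have h1 : A ∈ Subgroup.center S := (QuotientGroup.eq_one_iff _).1 h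
  rw [Subgroup.mem_center_iff] at h1
  obtain ⟨a, b, c, d, hd, rfl⟩ := eq_q A
  have e1 := h1 (q 1 1 0 1 (by decide))
  have e2 := h1 (q 1 0 1 1 (by decide))
  rw [qm, qm, q_eq] at e1 e2
  have hb : b = 0 := by linear_combination -e2.1
  have hc : c = 0 := by linear_combination e1.1
  have had : a = d := by linear_combination -e1.2.1
  subst hb hc had
  have h3 : a * a = 1 := by linear_combination hd
  rcases mul_self_eq_one_iff.1 h3 with rfl | rfl
  · left; exact one_q.symm
  · right; exact neg_one_q.symm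

theorem π_eq {A B : S} (h : π A = π B) : A = B ∨ A = -B := by
  have h1 : π (A * B⁻¹) = 1 := by rw [map_mul, map_inv, h, mul_inv_cancel]
  have h2 : A = (A * B⁻¹) * B := by group
  rcases π_eq_one h1 with h3 | h3
  · left; rw [h2, h3, one_mul]
  · right; rw [h2, h3, neg_one_mul]

/-! ### the elements -/

def X : S := q 1 1 0 1 (by decide)
def D : S := q 4 0 0 2 (by decide)
def I : S := q 3 1 4 4 (by decide)
def J : S := q 3 2 2 4 (by decide)
def W : S := q 0 2 3 0 (by decide)

theorem DX : D * X = X * X * D := by decide +kernel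
theorem DDD : D * D * D = 1 := by decide +kernel
theorem II : I * I = -1 := by decide +kernel
theorem IJ : I * J = -(J * I) := by decide +kernel
theorem DI : D * I = J * D := by decide +kernel
theorem DJ : D * J = -(I * J * D) := by decide +kernel
theorem WW : W * W = -1 := by decide +kernel
theorem WI : W * I = -(J * W) := by decide +kernel
theorem WD : W * D * D = D * W := by decide +kernel

theorem X_pow (k : ℕ) : X ^ k = q 1 k 0 1 (by ring) := by
  induction k with
  | zero => rw [pow_zero]; exact one_q.trans (q_eq.2 (by simp))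
  | succ k ih => rw [pow_succ, ih]; unfold X; rw [qm, q_eq]; push_cast; refine ⟨?_, ?_, ?_, ?_⟩ <;> ring

theorem X7 : X ^ 7 = 1 := by rewrite [X_pow, one_q, q_eq]; decide

def fano : Fano T where
  x := π X
  d := π D
  i := π I
  j := π J
  s := π W
  hx := by rw [← map_pow, X7, map_one]
  hx1 := by
    intro h
    rcases π_eq_one h with h1 | h1
    · exact absurd (q_eq.1 (h1.trans one_q)) (by decide)
    · exact absurd (q_eq.1 (h1.trans neg_one_q)) (by decide)
  hd := by rw [← map_pow, pow_succ, pow_two, DDD, map_one]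
  hdx := by
    rw [mul_inv_eq_iff_eq_mul, pow_two, ← map_mul, DX, map_mul, map_mul]
  hi := by rw [← map_mul, II, π_neg, map_one]
  hi1 := by
    intro h
    rcases π_eq_one h with h1 | h1
    · exact absurd (q_eq.1 (h1.trans one_q)) (by decide)
    · exact absurd (q_eq.1 (h1.trans neg_one_q)) (by decide)
  hij := by rw [← map_mul, IJ, π_neg, map_mul]
  hne := by
    intro h
    rcases π_eq h with h1 | h1
    · unfold I J at h1; rewrite [q_eq] at h1; revert h1; decide
    · unfold I J at h1; rewrite [neg_q, q_eq] at h1; revert h1; decide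
  hdi := by rw [mul_inv_eq_iff_eq_mul, ← map_mul, DI, map_mul]
  hdj := by rw [mul_inv_eq_iff_eq_mul, ← map_mul, DJ, π_neg, map_mul, map_mul]
  hs := by rw [← map_mul, WW, π_neg, map_one]
  hsi := by rw [mul_inv_eq_iff_eq_mul, ← map_mul, WI, π_neg, map_mul]
  hsd := by
    have h1 : W * D * W⁻¹ = D⁻¹ := by
      rw [mul_inv_eq_iff_eq_mul, eq_inv_mul_iff_mul_eq, ← mul_assoc, ← WD]
      calc W * D * D * D = W * (D * D * D) := by group
        _ = W := by rw [DDD, mul_one]
    rw [← map_mul, ← map_inv, ← map_inv, ← map_mul, h1]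

/-! ### conjugacy -/

theorem exists_cyclic' : ∀ a b c d : Fin 7, a * d - b * c = 1 → a + d ≠ 2 → a + d ≠ -2 →
    ∃ p r : Fin 7, p * (c * p + d * r) - r * (a * p + b * r) = 1 := by (set_option synthInstance.maxSize 2000 in open scoped Cfsg.Agent.Lib.Hoist Cfsg.Agent.Lib.HoistLin in decide +kernel)

theorem exists_cyclic : ∀ a b c d : ZMod 7, a * d - b * c = 1 → a + d ≠ 2 → a + d ≠ -2 →
    ∃ p r : ZMod 7, p * (c * p + d * r) - r * (a * p + b * r) = 1 := exists_cyclic'

/-- companion matrix -/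
def C (τ : ZMod 7) : S := q 0 (-1) 1 τ (by ring)

theorem isConj_C {a b c d : ZMod 7} {h : a * d - b * c = 1} (h1 : a + d ≠ 2) (h2 : a + d ≠ -2) :
    IsConj (C (a + d)) (q a b c d h) := by
  obtain ⟨p, r, hpr⟩ := exists_cyclic a b c d h h1 h2
  refine isConj_iff.2 ⟨q p (a * p + b * r) r (c * p + d * r) (by linear_combination hpr), ?_⟩
  rw [mul_inv_eq_iff_eq_mul]
  unfold C
  rw [qm, qm, q_eq]
  refine ⟨by ring, ?_, by ring, ?_⟩
  · linear_combination p * h
  · linear_combination r * h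

theorem isConj_of_trace {a b c d a' b' c' d' : ZMod 7} {h h'} (h1 : a + d ≠ 2) (h2 : a + d ≠ -2)
    (htr : a + d = a' + d') : IsConj (q a b c d h) (q a' b' c' d' h') := by
  have e1 := isConj_C (h := h) h1 h2
  have e2 := isConj_C (h := h') (htr ▸ h1) (htr ▸ h2)
  rw [← htr] at e2
  exact e1.symm.trans e2

theorem unip' : ∀ a b c : Fin 7, a * (2 - a) - b * c = 1 →
    ∃ u v : Fin 7, (b = u * u ∧ c = -(v * v) ∧ a = 1 - u * v) ∨ (b = -(u * u) ∧ c = v * v ∧ a = 1 + u * v) := by
  decide +kernel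

theorem unip : ∀ a b c : ZMod 7, a * (2 - a) - b * c = 1 →
    ∃ u v : ZMod 7, (b = u * u ∧ c = -(v * v) ∧ a = 1 - u * v) ∨ (b = -(u * u) ∧ c = v * v ∧ a = 1 + u * v) := unip'

theorem compl : ∀ u v : ZMod 7, (u ≠ 0 ∨ v ≠ 0) → ∃ s t : ZMod 7, u * t - s * v = 1 := by decide +kernel

theorem X_inv : X⁻¹ = q 1 (-1) 0 1 (by decide) := by
  rw [inv_eq_iff_mul_eq_one]
  unfold X
  rewrite [qm]
  exact (q_eq.2 (by decide)).trans one_q.symm

theorem unip_conj {a b c d : ZMod 7} {h} (htr : a + d = 2) : q a b c d h = 1 ∨ IsConj X (q a b c d h) ∨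
    IsConj X⁻¹ (q a b c d h) := by
  have hd : d = 2 - a := by linear_combination htr
  obtain ⟨u, v, huv⟩ := unip a b c (by rw [← hd]; exact h)
  by_cases h0 : u ≠ 0 ∨ v ≠ 0
  swap
  · left
    push Not at h0
    obtain ⟨rfl, rfl⟩ := h0
    refine Eq.trans (q_eq.2 ?_) one_q.symm
    have h1 : a = 1 := by
      rcases huv with ⟨-, -, h1⟩ | ⟨-, -, h1⟩ <;> rw [h1] <;> ring
    subst h1
    refine ⟨rfl, ?_, ?_, by rw [hd]; ring⟩
    · rcases huv with ⟨h1, -, -⟩ | ⟨h1, -, -⟩ <;> rw [h1] <;> ring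
    · rcases huv with ⟨-, h1, -⟩ | ⟨-, h1, -⟩ <;> rw [h1] <;> ring
  rcases huv with ⟨hb, hc, ha⟩ | ⟨hb, hc, ha⟩
  · obtain ⟨s, t, hst⟩ := compl u v h0
    replace hd : d = 1 + u * v := by linear_combination htr - ha
    right; left
    refine isConj_iff.2 ⟨q u s v t hst, ?_⟩
    rw [mul_inv_eq_iff_eq_mul]
    unfold X
    rw [qm, qm, q_eq]
    subst ha hb hc hd
    refine ⟨by ring, ?_, by ring, ?_⟩
    · linear_combination (-u) * hst
    · linear_combination (-v) * hst
  · obtain ⟨s, t, hst⟩ := compl u v h0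
    replace hd : d = 1 - u * v := by linear_combination htr - ha
    right; right
    refine isConj_iff.2 ⟨q u s v t hst, ?_⟩
    rw [mul_inv_eq_iff_eq_mul, X_inv, qm, qm, q_eq]
    subst ha hb hc hd
    refine ⟨by ring, ?_, by ring, ?_⟩
    · linear_combination u * hst
    · linear_combination v * hst

theorem conj_map {A B : S} (h : IsConj A B) : IsConj (π A) (π B) := by
  obtain ⟨c, hc⟩ := isConj_iff.1 h
  exact isConj_iff.2 ⟨π c, by rw [← hc, map_mul, map_mul, map_inv]⟩

theorem involution_trace' : ∀ a b c d : Fin 7, a * d - b * c = 1 →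
    ((a * a + b * c = 1 ∧ a * b + b * d = 0 ∧ c * a + d * c = 0 ∧ c * b + d * d = 1) ∨
     (a * a + b * c = -1 ∧ a * b + b * d = 0 ∧ c * a + d * c = 0 ∧ c * b + d * d = -1)) →
    (a = 1 ∧ b = 0 ∧ c = 0 ∧ d = 1) ∨ (a = -1 ∧ b = 0 ∧ c = 0 ∧ d = -1) ∨ a + d = 0 := by decide +kernel

theorem involution_trace : ∀ a b c d : ZMod 7, a * d - b * c = 1 →
    ((a * a + b * c = 1 ∧ a * b + b * d = 0 ∧ c * a + d * c = 0 ∧ c * b + d * d = 1) ∨
     (a * a + b * c = -1 ∧ a * b + b * d = 0 ∧ c * a + d * c = 0 ∧ c * b + d * d = -1)) →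
    (a = 1 ∧ b = 0 ∧ c = 0 ∧ d = 1) ∨ (a = -1 ∧ b = 0 ∧ c = 0 ∧ d = -1) ∨ a + d = 0 := involution_trace'

theorem inv_conj (t : T) (ht : t ^ 2 = 1) (ht1 : t ≠ 1) : IsConj (π I) t := by
  obtain ⟨A, rfl⟩ := π_surj t
  obtain ⟨a, b, c, d, h, rfl⟩ := eq_q A
  rw [pow_two, ← map_mul] at ht
  have h2 := π_eq_one ht
  rewrite [qm] at h2
  replace h2 := h2.imp (fun e => q_eq.1 (e.trans one_q)) (fun e => q_eq.1 (e.trans neg_one_q))
  rcases involution_trace a b c d h (by
    rcases h2 with h3 | h3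
    · exact Or.inl h3
    · exact Or.inr h3) with ⟨rfl, rfl, rfl, rfl⟩ | ⟨rfl, rfl, rfl, rfl⟩ | h3
  · exact absurd (by
      have : q 1 0 0 1 h = 1 := one_q.symm
      rw [this, map_one]) ht1
  · exact absurd (by
      have : q (-1) 0 0 (-1) h = -1 := neg_one_q.symm
      rw [this, π_neg, map_one]) ht1
  · unfold I
    apply conj_map
    apply isConj_of_trace
    · decide
    · decide
    · rw [h3]; decide

theorem traces : ∀ τ : ZMod 7, τ = 0 ∨ (τ = 1 ∨ τ = -1) ∨ (τ = 2 ∨ τ = -2) ∨ (τ = 3 ∨ τ = -3) := by decide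

theorem cyc3' : ∀ a b c d : Fin 7, a * d - b * c = 1 → a + d = -1 →
    (a * a + b * c) * a + (a * b + b * d) * c = 1 ∧ (a * a + b * c) * b + (a * b + b * d) * d = 0 ∧
    (c * a + d * c) * a + (c * b + d * d) * c = 0 ∧ (c * a + d * c) * b + (c * b + d * d) * d = 1 := by (set_option synthInstance.maxSize 2000 in open scoped Cfsg.Agent.Lib.Hoist Cfsg.Agent.Lib.HoistLin in decide +kernel)

theorem cyc3 : ∀ a b c d : ZMod 7, a * d - b * c = 1 → a + d = -1 →
    (a * a + b * c) * a + (a * b + b * d) * c = 1 ∧ (a * a + b * c) * b + (a * b + b * d) * d = 0 ∧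
    (c * a + d * c) * a + (c * b + d * d) * c = 0 ∧ (c * a + d * c) * b + (c * b + d * d) * d = 1 := cyc3'

theorem inv_q {a b c d : ZMod 7} {h} : (q a b c d h)⁻¹ = q d (-b) (-c) a (by linear_combination h) := by
  rw [inv_eq_iff_mul_eq_one, qm]
  exact (q_eq.2 ⟨by linear_combination h, by ring, by ring, by linear_combination h⟩).trans one_q.symm

theorem cls_of_trace {a b c d : ZMod 7} {h} (htr : a + d = 0 ∨ a + d = -1 ∨ a + d = 2 ∨ a + d = -3) :
    (Odd (orderOf (π (q a b c d h))) ∧ ∀ k : ℕ, k.Coprime (orderOf (π (q a b c d h))) →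
      IsConj ((π (q a b c d h)) ^ k) (π (q a b c d h))) ∨
    IsConj fano.x (π (q a b c d h)) ∨ IsConj fano.x⁻¹ (π (q a b c d h)) ∨
    IsConj (fano.s * fano.i) (π (q a b c d h)) ∨
    ((π (q a b c d h)) ^ 2 = 1 ∧ π (q a b c d h) ≠ 1) := by
  rcases htr with htr | htr | htr | htr
  · right; right; right; right
    constructor
    · have h1 : q a b c d h * q a b c d h = -1 := by
        rewrite [qm]
        refine Eq.trans (q_eq.2 ⟨?_, ?_, ?_, ?_⟩) neg_one_q.symm
        · linear_combination a * htr - h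
        · linear_combination b * htr
        · linear_combination c * htr
        · linear_combination d * htr - h
      rw [pow_two, ← map_mul, h1, π_neg, map_one]
    · intro h1
      have h2 := π_eq_one h1
      replace h2 := h2.imp (fun e => q_eq.1 (e.trans one_q)) (fun e => q_eq.1 (e.trans neg_one_q))
      rcases h2 with ⟨rfl, -, -, rfl⟩ | ⟨rfl, -, -, rfl⟩
      · revert htr; decide
      · revert htr; decide
  · left
    set t := π (q a b c d h) with ht
    have h3 : t ^ 3 = 1 := by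
      have h1 : q a b c d h * q a b c d h * q a b c d h = 1 := by
        rewrite [qm, qm]
        exact (q_eq.2 (cyc3 a b c d h htr)).trans one_q.symm
      rw [ht, ← map_pow, pow_succ, pow_two, h1, map_one]
    have h1 : orderOf t ∣ 3 := orderOf_dvd_of_pow_eq_one h3
    refine ⟨Odd.of_dvd_nat (by decide) h1, ?_⟩
    have h4 : IsConj t⁻¹ t := by
      rw [ht, ← map_inv, inv_q]
      apply conj_map
      apply isConj_of_trace
      · rw [add_comm, htr]; decide
      · rw [add_comm, htr]; decide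
      · ring
    have h5 : t⁻¹ = t ^ 2 := by rw [inv_eq_iff_mul_eq_one, ← pow_succ', h3]
    intro k hk
    have h6 : t ^ k = t ^ (k % 3) := by
      conv_lhs => rw [← Nat.mod_add_div k 3, pow_add, pow_mul, h3, one_pow, mul_one]
    have h7 : k % 3 = 0 ∨ k % 3 = 1 ∨ k % 3 = 2 := by omega
    rcases h7 with h7 | h7 | h7
    · -- then `t = 1`
      have h8 : orderOf t ∣ k := h1.trans (Nat.dvd_of_mod_eq_zero h7)
      have h9 : orderOf t = 1 := Nat.eq_one_of_dvd_coprimes hk h8 dvd_rfl
      rw [orderOf_eq_one_iff.1 h9, one_pow]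
    · rw [h6, h7, pow_one]
    · rw [h6, h7, ← h5]; exact h4
  · rcases unip_conj (h := h) htr with h1 | h1 | h1
    · left
      rw [h1, map_one, orderOf_one]
      exact ⟨odd_one, fun k _ => by rw [one_pow]⟩
    · right; left
      exact conj_map h1
    · right; right; left
      have := conj_map h1
      rw [map_inv] at this
      exact this
  · right; right; right; left
    change IsConj (π W * π I) _
    rw [← map_mul]
    unfold W I
    rw [qm]
    apply conj_map
    apply isConj_of_trace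
    · decide
    · decide
    · rw [htr]; decide

theorem card_T : Nat.card T = 8 * 21 := by
  have h1 := ClassicalGeometry.PSL2Basic.card_PSL2_odd (F := ZMod 7) (by rw [ZMod.card]; decide)
  rw [ZMod.card] at h1
  have h2 : Nat.card T * 2 = 336 := h1
  omega

/-- `PSL₂(7)` with all the facts. -/
def seven : SevenType T :=
  { fano with
    m := 21
    card := card_T
    odd := by decide
    inv := inv_conj
    cls := by
      intro t
      have key : (Odd (orderOf t) ∧ ∀ k : ℕ, k.Coprime (orderOf t) → IsConj (t ^ k) t) ∨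
          IsConj fano.x t ∨ IsConj fano.x⁻¹ t ∨ IsConj (fano.s * fano.i) t ∨ (t ^ 2 = 1 ∧ t ≠ 1) := by
        obtain ⟨A, rfl⟩ := π_surj t
        obtain ⟨a, b, c, d, h, rfl⟩ := eq_q A
        have h1 : π (q a b c d h) = π (q (-a) (-b) (-c) (-d) (by linear_combination h)) := by
          rw [← neg_q, π_neg]
        rcases traces (a + d) with h2 | (h2 | h2) | (h2 | h2) | (h2 | h2)
        · exact cls_of_trace (Or.inl h2)
        · rw [h1]; exact cls_of_trace (Or.inr (Or.inl (by linear_combination -h2)))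
        · exact cls_of_trace (Or.inr (Or.inl h2))
        · exact cls_of_trace (Or.inr (Or.inr (Or.inl h2)))
        · rw [h1]; exact cls_of_trace (Or.inr (Or.inr (Or.inl (by linear_combination -h2))))
        · rw [h1]; exact cls_of_trace (Or.inr (Or.inr (Or.inr (by linear_combination -h2))))
        · exact cls_of_trace (Or.inr (Or.inr (Or.inr h2)))
      rcases key with h1 | h1 | h1 | h1 | ⟨h1, h2⟩
      · exact Or.inl h1
      · exact Or.inr (Or.inl h1)
      · exact Or.inr (Or.inr (Or.inl h1))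
      · exact Or.inr (Or.inr (Or.inr (Or.inl h1)))
      · exact Or.inr (Or.inr (Or.inr (Or.inr ((fano.dih 21 card_T (by decide) inv_conj).mixed_of_sq h1 h2)))) }

/-! ### the Bruhat decomposition -/

theorem bruhat_big' : ∀ a b c d : Fin 7, a * d - b * c = 1 → c ≠ 0 → ∃ l : Fin 3, ∃ k m : Fin 7, ∃ ε : Fin 2,
    (-1) ^ (ε : ℕ) * a = k * (3 * 2 ^ (l : ℕ)) ∧
    (-1) ^ (ε : ℕ) * b = k * (3 * 2 ^ (l : ℕ)) * m + 2 * 4 ^ (l : ℕ) ∧
    (-1) ^ (ε : ℕ) * c = 3 * 2 ^ (l : ℕ) ∧ (-1) ^ (ε : ℕ) * d = (3 * 2 ^ (l : ℕ)) * m := by (set_option synthInstance.maxSize 2000 in open scoped Cfsg.Agent.Lib.Hoist Cfsg.Agent.Lib.HoistLin in decide +kernel)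

theorem bruhat_big : ∀ a b c d : ZMod 7, a * d - b * c = 1 → c ≠ 0 → ∃ l : Fin 3, ∃ k m : ZMod 7, ∃ ε : Fin 2,
    (-1) ^ (ε : ℕ) * a = k * (3 * 2 ^ (l : ℕ)) ∧
    (-1) ^ (ε : ℕ) * b = k * (3 * 2 ^ (l : ℕ)) * m + 2 * 4 ^ (l : ℕ) ∧
    (-1) ^ (ε : ℕ) * c = 3 * 2 ^ (l : ℕ) ∧ (-1) ^ (ε : ℕ) * d = (3 * 2 ^ (l : ℕ)) * m := bruhat_big'

theorem bruhat_small' : ∀ a b d : Fin 7, a * d = 1 → ∃ l : Fin 3, ∃ k : Fin 7, ∃ ε : Fin 2,
    (-1) ^ (ε : ℕ) * a = 4 ^ (l : ℕ) ∧ (-1) ^ (ε : ℕ) * b = k * 2 ^ (l : ℕ) ∧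
    (-1) ^ (ε : ℕ) * d = 2 ^ (l : ℕ) := by decide +kernel

theorem bruhat_small : ∀ a b d : ZMod 7, a * d = 1 → ∃ l : Fin 3, ∃ k : ZMod 7, ∃ ε : Fin 2,
    (-1) ^ (ε : ℕ) * a = 4 ^ (l : ℕ) ∧ (-1) ^ (ε : ℕ) * b = k * 2 ^ (l : ℕ) ∧
    (-1) ^ (ε : ℕ) * d = 2 ^ (l : ℕ) := bruhat_small'

theorem D_pow (l : ℕ) : D ^ l = q (4 ^ l) 0 0 (2 ^ l) (by
    rw [← mul_pow, show (4 : ZMod 7) * 2 = 1 from by decide, one_pow]; ring) := by
  induction l with
  | zero => rw [pow_zero]; exact one_q.trans (q_eq.2 (by simp))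
  | succ l ih => rw [pow_succ, ih]; unfold D; rw [qm, q_eq]; refine ⟨?_, ?_, ?_, ?_⟩ <;> ring

theorem π_sign (ε : ℕ) {a b c d : ZMod 7} {h} (h' : (-1) ^ ε * a * ((-1) ^ ε * d) - (-1) ^ ε * b * ((-1) ^ ε * c) = 1) :
    π (q a b c d h) = π (q ((-1) ^ ε * a) ((-1) ^ ε * b) ((-1) ^ ε * c) ((-1) ^ ε * d) h') := by
  rcases Nat.even_or_odd ε with he | he
  · congr 1
    rw [q_eq, he.neg_one_pow]
    simp
  · rw [← π_neg, neg_q]
    congr 1
    rw [q_eq, he.neg_one_pow]
    simp

theorem bruhat (t : T) : (∃ k l : ℕ, t = seven.x ^ k * seven.d ^ l) ∨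
    ∃ k l m : ℕ, t = seven.x ^ k * seven.d ^ l * seven.s * seven.x ^ m := by
  obtain ⟨A, rfl⟩ := π_surj t
  obtain ⟨a, b, c, d, h, rfl⟩ := eq_q A
  change (∃ k l : ℕ, _ = π X ^ k * π D ^ l) ∨ ∃ k l m : ℕ, _ = π X ^ k * π D ^ l * π W * π X ^ m
  have hdet : ∀ ε : ℕ, (-1) ^ ε * a * ((-1) ^ ε * d) - (-1) ^ ε * b * ((-1) ^ ε * c) = 1 := by
    intro ε
    have h1 : ((-1 : ZMod 7) ^ ε) ^ 2 = 1 := by rw [← pow_mul, mul_comm, pow_mul]; simp
    linear_combination (a * d - b * c) * h1 + h
  by_cases hc : c = 0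
  · left
    subst hc
    obtain ⟨l, k, ε, h1, h2, h3⟩ := bruhat_small a b d (by linear_combination h)
    refine ⟨k.val, l, ?_⟩
    rw [π_sign ε (hdet ε), ← map_pow, ← map_pow, ← map_mul, X_pow, D_pow, qm]
    congr 1
    rw [q_eq, h1, h2, h3, ZMod.natCast_zmod_val]
    refine ⟨?_, ?_, ?_, ?_⟩ <;> ring
  · right
    obtain ⟨l, k, m, ε, h1, h2, h3, h4⟩ := bruhat_big a b c d h hc
    refine ⟨k.val, l, m.val, ?_⟩
    rw [π_sign ε (hdet ε), ← map_pow, ← map_pow, ← map_pow, ← map_mul, ← map_mul, ← map_mul, X_pow, D_pow, X_pow, qm]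
    unfold W
    rw [qm, qm]
    congr 1
    rw [q_eq, h1, h2, h3, h4, ZMod.natCast_zmod_val, ZMod.natCast_zmod_val]
    refine ⟨?_, ?_, ?_, ?_⟩ <;> ring

theorem sxs (m : ℕ) (h0 : 0 < m) (h7 : m < 7) :
    ¬ ∃ k l : ℕ, seven.s * seven.x ^ m * seven.s = seven.x ^ k * seven.d ^ l := by
  rintro ⟨k, l, h⟩
  change π W * π X ^ m * π W = π X ^ k * π D ^ l at h
  rw [← map_pow, ← map_pow, ← map_pow, ← map_mul, ← map_mul, ← map_mul, X_pow, D_pow, X_pow, qm] at h
  unfold W at h
  rw [qm, qm] at h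
  have h1 : (m : ZMod 7) ≠ 0 := by
    intro h'
    rw [ZMod.natCast_eq_zero_iff] at h'
    exact absurd (Nat.le_of_dvd h0 h') (by omega)
  have h2 : (2 : ZMod 7) * m = 0 := by
    rcases π_eq h with h3 | h3
    · have := (q_eq.1 h3).2.2.1
      have h9 : (9 : ZMod 7) = 2 := by decide
      rw [← h9]
      linear_combination this
    · rw [neg_q] at h3
      have := (q_eq.1 h3).2.2.1
      have h9 : (9 : ZMod 7) = 2 := by decide
      rw [← h9]
      linear_combination this
  rcases mul_eq_zero.1 h2 with h3 | h3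
  · exact absurd h3 (by decide)
  · exact h1 h3

end Cfsg.Agent.H908.Psl7
end

-- part: H908/KleinAct
section
/-!
# The action of `4 × 4` matrices on skew matrices: trace, reflections, transvections
-/

set_option autoImplicit false
set_option linter.unusedSectionVars false

namespace Cfsg.Agent.H908.KL

open Matrix Cfsg.Agent.LieClassical.KleinSix

variable {F : Type*} [Field F]

/-- the polar form of the Pfaffian -/
def bil (u v : Fin 3 ⊕ Fin 3 → F) : F :=
  u (.inl 0) * v (.inr 0) + u (.inr 0) * v (.inl 0) + u (.inl 1) * v (.inr 1)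
    + u (.inr 1) * v (.inl 1) + u (.inl 2) * v (.inr 2) + u (.inr 2) * v (.inl 2)

theorem bil_eq (u v : Fin 3 ⊕ Fin 3 → F) : bil u v = pf (u + v) - pf u - pf v := by
  simp only [bil, pf, Pi.add_apply]; ring

theorem bil_comm (u v : Fin 3 ⊕ Fin 3 → F) : bil u v = bil v u := by
  simp only [bil]; ring

theorem bil_self (u : Fin 3 ⊕ Fin 3 → F) : bil u u = 2 * pf u := by
  simp only [bil, pf]; ring

theorem bil_add_left (u v w : Fin 3 ⊕ Fin 3 → F) : bil (u + v) w = bil u w + bil v w := by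
  simp only [bil, Pi.add_apply]; ring

theorem bil_add_right (u v w : Fin 3 ⊕ Fin 3 → F) : bil u (v + w) = bil u v + bil u w := by
  simp only [bil, Pi.add_apply]; ring

theorem bil_sub_left (u v w : Fin 3 ⊕ Fin 3 → F) : bil (u - v) w = bil u w - bil v w := by
  simp only [bil, Pi.sub_apply]; ring

theorem bil_smul_left (c : F) (u v : Fin 3 ⊕ Fin 3 → F) : bil (c • u) v = c * bil u v := by
  simp only [bil, Pi.smul_apply, smul_eq_mul]; ring

theorem bil_smul_right (c : F) (u v : Fin 3 ⊕ Fin 3 → F) : bil u (c • v) = c * bil u v := by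
  simp only [bil, Pi.smul_apply, smul_eq_mul]; ring

theorem bil_zero_left (u : Fin 3 ⊕ Fin 3 → F) : bil 0 u = 0 := by
  simp only [bil, Pi.zero_apply]; ring

theorem bil_sum_left {ι : Type*} (s : Finset ι) (f : ι → Fin 3 ⊕ Fin 3 → F) (w : Fin 3 ⊕ Fin 3 → F) :
    bil (∑ i ∈ s, f i) w = ∑ i ∈ s, bil (f i) w := by
  classical
  induction s using Finset.induction_on with
  | empty => simp [bil_zero_left]
  | insert a s ha ih => rw [Finset.sum_insert ha, Finset.sum_insert ha, bil_add_left, ih]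

theorem bil_sum_right {ι : Type*} (s : Finset ι) (f : ι → Fin 3 ⊕ Fin 3 → F) (w : Fin 3 ⊕ Fin 3 → F) :
    bil w (∑ i ∈ s, f i) = ∑ i ∈ s, bil w (f i) := by
  rw [bil_comm, bil_sum_left]
  exact Finset.sum_congr rfl fun i _ => bil_comm _ _

theorem bil_act (g : Matrix (Fin 4) (Fin 4) F) (u v : Fin 3 ⊕ Fin 3 → F) :
    bil (act g u) (act g v) = g.det * bil u v := by
  rw [bil_eq, ← act_add, pf_act, pf_act, pf_act, bil_eq]; ring

theorem bil_nondeg {u : Fin 3 ⊕ Fin 3 → F} (h : ∀ v, bil v u = 0) : u = 0 := by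
  funext i
  have := h (Pi.single i.swap 1)
  rcases i with i | i <;> fin_cases i <;> simpa [bil, Pi.single_apply] using this

theorem act_zero (g : Matrix (Fin 4) (Fin 4) F) : act g (0 : Fin 3 ⊕ Fin 3 → F) = 0 := by
  have := act_smul g (0 : F) (0 : Fin 3 ⊕ Fin 3 → F)
  rwa [zero_smul, zero_smul] at this

theorem act_sum {ι : Type*} (g : Matrix (Fin 4) (Fin 4) F) (s : Finset ι) (f : ι → Fin 3 ⊕ Fin 3 → F) :
    act g (∑ i ∈ s, f i) = ∑ i ∈ s, act g (f i) := by
  classical
  induction s using Finset.induction_on with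
  | empty => simp [act_zero]
  | insert a s ha ih => rw [Finset.sum_insert ha, Finset.sum_insert ha, act_add, ih]

theorem act_smul_left (c : F) (g : Matrix (Fin 4) (Fin 4) F) (v : Fin 3 ⊕ Fin 3 → F) :
    act (c • g) v = (c * c) • act g v := by
  apply sk_injective
  rw [sk_act, sk_smul, sk_act, transpose_smul, smul_mul_assoc, smul_mul_smul_comm]

/-- the linear map on skew matrices -/
def actL (g : Matrix (Fin 4) (Fin 4) F) : Module.End F (Fin 3 ⊕ Fin 3 → F) where
  toFun := act g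
  map_add' := act_add g
  map_smul' := act_smul g

@[simp] theorem actL_apply (g : Matrix (Fin 4) (Fin 4) F) (v : Fin 3 ⊕ Fin 3 → F) : actL g v = act g v := rfl

theorem actL_mul (g h : Matrix (Fin 4) (Fin 4) F) : actL (g * h) = actL g * actL h :=
  LinearMap.ext fun v => act_mul g h v

theorem trace_actL (g : Matrix (Fin 4) (Fin 4) F) :
    2 * LinearMap.trace F _ (actL g) = g.trace ^ 2 - (g * g).trace := by
  rw [LinearMap.trace_eq_matrix_trace F (Pi.basisFun F (Fin 3 ⊕ Fin 3)), Matrix.trace]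
  simp only [Fintype.sum_sum_type, Fin.sum_univ_three, Matrix.diag_apply, LinearMap.toMatrix_apply,
    Pi.basisFun_apply, Pi.basisFun_repr, actL_apply, act, unsk, Matrix.trace, Fin.sum_univ_four, Matrix.mul_apply,
    sk, Matrix.transpose_apply]
  simp [Pi.single_apply]
  ring

/-- the scaled reflection -/
def rfl' (w z : Fin 3 ⊕ Fin 3 → F) : Fin 3 ⊕ Fin 3 → F := pf w • z - bil w z • w

theorem hodge_sub (u v : Fin 3 ⊕ Fin 3 → F) : hodge (u - v) = hodge u - hodge v := rfl

theorem sk_sub (u v : Fin 3 ⊕ Fin 3 → F) : sk (u - v) = sk u - sk v := by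
  rw [sub_eq_add_neg, ← neg_one_smul F v, sk_add, sk_smul, neg_one_smul, ← sub_eq_add_neg]

theorem bil_hodge (u v : Fin 3 ⊕ Fin 3 → F) : bil (hodge u) (hodge v) = bil u v := by
  simp only [bil, hodge, Sum.swap_inl, Sum.swap_inr]; ring

theorem polar_one (u v : Fin 3 ⊕ Fin 3 → F) :
    sk u * sk (hodge v) + sk v * sk (hodge u) = (-bil u v) • (1 : Matrix (Fin 4) (Fin 4) F) := by
  have h1 := sk_mul_hodge (u + v)
  rw [hodge_add, sk_add, sk_add, add_mul, mul_add, mul_add, sk_mul_hodge, sk_mul_hodge] at h1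
  have h2 : sk u * sk (hodge v) + sk v * sk (hodge u) = (-pf (u + v)) • (1 : Matrix (Fin 4) (Fin 4) F)
      - (-pf u) • (1 : Matrix (Fin 4) (Fin 4) F) - (-pf v) • (1 : Matrix (Fin 4) (Fin 4) F) := by
    rw [← h1]; abel
  rw [h2, bil_eq]
  module

theorem polar_two (u v : Fin 3 ⊕ Fin 3 → F) :
    sk (hodge u) * sk v + sk (hodge v) * sk u = (-bil u v) • (1 : Matrix (Fin 4) (Fin 4) F) := by
  have := polar_one (hodge u) (hodge v)
  rwa [hodge_hodge, hodge_hodge, bil_hodge] at this

theorem conj_one (u z : Fin 3 ⊕ Fin 3 → F) : sk u * sk (hodge z) * sk u = sk (rfl' u z) := by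
  have h1 : sk u * sk (hodge z) = (-bil u z) • (1 : Matrix (Fin 4) (Fin 4) F) - sk z * sk (hodge u) := by
    rw [← polar_one]; abel
  rw [h1, sub_mul, mul_assoc, hodge_mul_sk, mul_smul_comm, mul_one, smul_mul_assoc, one_mul, rfl', sk_sub, sk_smul,
    sk_smul]
  module

theorem conj_two (w z : Fin 3 ⊕ Fin 3 → F) : sk (hodge w) * sk z * sk (hodge w) = sk (hodge (rfl' w z)) := by
  have h1 : sk (hodge w) * sk z = (-bil w z) • (1 : Matrix (Fin 4) (Fin 4) F) - sk (hodge z) * sk w := by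
    rw [← polar_two]; abel
  rw [h1, sub_mul, mul_assoc, sk_mul_hodge, mul_smul_comm, mul_one, smul_mul_assoc, one_mul, rfl', hodge_sub, sk_sub,
    hodge_smul, hodge_smul, sk_smul, sk_smul]
  module

theorem act_sk_sk (u w z : Fin 3 ⊕ Fin 3 → F) : act (sk u * sk (hodge w)) z = rfl' u (rfl' w z) := by
  apply sk_injective
  rw [sk_act, transpose_mul, transpose_sk, transpose_sk, ← conj_one, ← conj_two]
  noncomm_ring

theorem det_sk_sk (u w : Fin 3 ⊕ Fin 3 → F) : (sk u * sk (hodge w)).det = (pf u * pf w) ^ 2 := by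
  rw [det_mul, det_sk, det_sk, pf_hodge]; ring

/-- the product of two reflections -/
noncomputable def rr (N : F) (u w : Fin 3 ⊕ Fin 3 → F) : Matrix (Fin 4) (Fin 4) F := N⁻¹ • (sk u * sk (hodge w))

theorem det_rr {N : F} (hN : N ≠ 0) {u w : Fin 3 ⊕ Fin 3 → F} (hu : pf u = N) (hw : pf w = N) : (rr N u w).det = 1 := by
  rw [rr, det_smul, det_sk_sk, hu, hw, Fintype.card_fin]
  field_simp

theorem act_rr {N : F} (u w z : Fin 3 ⊕ Fin 3 → F) :
    act (rr N u w) z = (N⁻¹ * N⁻¹) • rfl' u (rfl' w z) := by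
  rw [rr, act_smul_left, act_sk_sk]

/-- elements like transvections -/
theorem act_sq {g : Matrix (Fin 4) (Fin 4) F} (hn : (g - 1) * (g - 1) = 0)
    (h1 : ∀ v : Fin 3 ⊕ Fin 3 → F, (g - 1) * sk v * (g - 1)ᵀ = 0) (v : Fin 3 ⊕ Fin 3 → F) :
    act g (act g v) + v = (2 : F) • act g v := by
  obtain ⟨n, rfl⟩ : ∃ n, g = 1 + n := ⟨g - 1, by abel⟩
  rw [add_sub_cancel_left] at hn h1
  apply sk_injective
  rw [sk_add, sk_smul, sk_act, sk_act]
  have e1 : (1 + n) * sk v * (1 + n)ᵀ = sk v + n * sk v + sk v * nᵀ := by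
    rw [transpose_add, transpose_one]
    have : (1 + n) * sk v * (1 + nᵀ) = sk v + n * sk v + sk v * nᵀ + n * sk v * nᵀ := by noncomm_ring
    rw [this, h1 v, add_zero]
  have hnT : nᵀ * nᵀ = 0 := by rw [← transpose_mul, hn, transpose_zero]
  have e2 : n * (n * sk v) = 0 := by rw [← mul_assoc, hn, zero_mul]
  have e3 : n * (sk v * nᵀ) = 0 := by rw [← mul_assoc, h1]
  have e4 : sk v * nᵀ * nᵀ = 0 := by rw [mul_assoc, hnT, mul_zero]
  have e5 : n * sk v * nᵀ = 0 := h1 v
  rw [e1, transpose_add, transpose_one]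
  have : (1 + n) * (sk v + n * sk v + sk v * nᵀ) * (1 + nᵀ) = sk v + n * sk v + n * sk v + sk v * nᵀ + sk v * nᵀ
      + n * (n * sk v) + n * (n * sk v) * nᵀ + n * (sk v * nᵀ) + n * (sk v * nᵀ) * nᵀ + sk v * nᵀ * nᵀ
      + n * sk v * nᵀ + n * sk v * nᵀ := by noncomm_ring
  rw [this, e2, e3, e4, e5]
  simp only [zero_mul, add_zero]
  module

end Cfsg.Agent.H908.KL
end

-- part: H908/SevenPts
section
/-!
# Groups acting doubly transitively on seven points, with the permutation character on skew matrices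
-/

set_option autoImplicit false
set_option linter.unusedSectionVars false

namespace Cfsg.Agent.H908.KL

open Matrix Cfsg.Agent.LieClassical.KleinSix
open scoped MatrixGroups

variable {F : Type*} [Field F] {P : Subgroup (GL (Fin 4) F)} {Ω : Type*} [Fintype Ω] [DecidableEq Ω]

/-- The hypotheses. -/
structure Pts (ψ : P →* Equiv.Perm Ω) : Prop where
  card : Fintype.card Ω = 7
  det : ∀ g : P, (mt P g).det = 1
  two : ∀ x y z w : Ω, x ≠ y → z ≠ w → ∃ g : P, ψ g x = z ∧ ψ g y = w
  tr : ∀ g : P, tr g ^ 2 - tr (g * g) = 2 * (((Finset.univ.filter fun y => ψ g y = y).card : F) - 1)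
  nofix : ∀ u : Fin 3 ⊕ Fin 3 → F, (∀ g : P, act (mt P g) u = u) → u = 0
  stab : ∀ x y : Ω, x ≠ y → ((Nat.card {g : P // ψ g x = x ∧ ψ g y = y} : ℕ) : F) ≠ 0

variable {ψ : P →* Equiv.Perm Ω}

namespace Pts

theorem act_inv (h : Pts ψ) (g : P) (u v : Fin 3 ⊕ Fin 3 → F) :
    bil (act (mt P g) u) v = bil u (act (mt P g⁻¹) v) := by
  have h1 := bil_act (mt P g) u (act (mt P g⁻¹) v)
  rw [h.det, one_mul, ← act_mul, ← map_mul, mul_inv_cancel, map_one, act_one] at h1
  exact h1

theorem trace_act (h : Pts ψ) (h2 : (2 : F) ≠ 0) (g : P) :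
    LinearMap.trace F _ (actL (mt P g)) = ((Finset.univ.filter fun y => ψ g y = y).card : F) - 1 := by
  have h1 := trace_actL (mt P g)
  have h3 := h.tr g
  apply mul_left_cancel₀ h2
  rw [h1, ← h3]
  unfold H908.tr
  rw [map_mul]

variable [Finite P]

/-- the number of elements in the stabiliser of `x` mapping `a` to `b` -/
theorem count (h : Pts ψ) {x a b c d : Ω} (ha : a ≠ x) (hb : b ≠ x) (hc : c ≠ x) (hd : d ≠ x) :
    Nat.card {g : P // ψ g x = x ∧ ψ g a = b} = Nat.card {g : P // ψ g x = x ∧ ψ g c = d} := by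
  obtain ⟨u, hu1, hu2⟩ := h.two x c x a hc.symm ha.symm
  obtain ⟨w, hw1, hw2⟩ := h.two x b x d hb.symm hd.symm
  refine Nat.card_congr ⟨fun g => ⟨w * g * u, ?_, ?_⟩, fun g => ⟨w⁻¹ * g * u⁻¹, ?_, ?_⟩, ?_, ?_⟩
  · rw [map_mul, map_mul, Equiv.Perm.mul_apply, Equiv.Perm.mul_apply, hu1, g.2.1, hw1]
  · rw [map_mul, map_mul, Equiv.Perm.mul_apply, Equiv.Perm.mul_apply, hu2, g.2.2, hw2]
  · rw [map_mul, map_mul, map_inv, map_inv, Equiv.Perm.mul_apply, Equiv.Perm.mul_apply, Equiv.Perm.inv_eq_iff_eq.2 hu1.symm,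
      g.2.1, Equiv.Perm.inv_eq_iff_eq.2 hw1.symm]
  · rw [map_mul, map_mul, map_inv, map_inv, Equiv.Perm.mul_apply, Equiv.Perm.mul_apply, Equiv.Perm.inv_eq_iff_eq.2 hu2.symm,
      g.2.2, Equiv.Perm.inv_eq_iff_eq.2 hw2.symm]
  · intro g
    apply Subtype.ext
    simp only
    group
  · intro g
    apply Subtype.ext
    simp only
    group

/-- the trace of the operator `∑ s ∈ stab x, s g` -/
theorem sum_trace [Fintype P] (h : Pts ψ) (h2 : (2 : F) ≠ 0) {x : Ω} {g : P} (hg : ψ g x ≠ x) :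
    ∑ s ∈ Finset.univ.filter (fun s : P => ψ s x = x), LinearMap.trace F _ (actL (mt P (s * g))) ≠ 0 := by
  classical
  set S := Finset.univ.filter (fun s : P => ψ s x = x) with hS
  set z₀ := ψ g x with hz₀
  set m := Nat.card {g : P // ψ g x = x ∧ ψ g z₀ = z₀} with hm
  -- counting
  have hN : ∀ a b : Ω, a ≠ x → b ≠ x → (S.filter fun s => ψ s a = b).card = m := by
    intro a b ha hb
    rw [hm, ← h.count ha hb hg hg, Nat.card_eq_fintype_card, Fintype.card_subtype, hS, Finset.filter_filter]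
  have hN0 : ∀ a b : Ω, (a = x ∧ b ≠ x) ∨ (a ≠ x ∧ b = x) → (S.filter fun s => ψ s a = b).card = 0 := by
    intro a b hab
    rw [Finset.card_eq_zero, Finset.filter_eq_empty_iff]
    intro s hs hsa
    rw [hS, Finset.mem_filter] at hs
    rcases hab with ⟨rfl, hb⟩ | ⟨ha, rfl⟩
    · exact hb (hsa.symm.trans hs.2)
    · exact ha ((ψ s).injective (hsa.trans hs.2.symm))
  have hcard : S.card = 6 * m := by
    have h1 : S.card = ∑ b : Ω, (S.filter fun s => ψ s z₀ = b).card :=
      Finset.card_eq_sum_card_fiberwise (f := fun s => ψ s z₀) (t := Finset.univ) (by intro _ _; simp)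
    rw [h1, ← Finset.sum_erase_add _ _ (Finset.mem_univ x), hN0 z₀ x (Or.inr ⟨hg, rfl⟩), add_zero,
      Finset.sum_congr rfl (fun b hb => hN z₀ b hg (Finset.ne_of_mem_erase hb)), Finset.sum_const, smul_eq_mul,
      Finset.card_erase_of_mem (Finset.mem_univ x), Finset.card_univ, h.card]
  have hsum : ∑ s ∈ S, (Finset.univ.filter fun y => ψ (s * g) y = y).card = 5 * m := by
    have h1 : ∀ s : P, (Finset.univ.filter fun y => ψ (s * g) y = y).card =
        ∑ y : Ω, if ψ s (ψ g y) = y then 1 else 0 := by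
      intro s
      rw [Finset.card_filter]
      refine Finset.sum_congr rfl fun y _ => ?_
      rw [map_mul, Equiv.Perm.mul_apply]
    rw [Finset.sum_congr rfl fun s _ => h1 s, Finset.sum_comm]
    have h3 : ∀ y : Ω, (∑ s ∈ S, if ψ s (ψ g y) = y then 1 else 0) = (S.filter fun s => ψ s (ψ g y) = y).card := by
      intro y
      rw [Finset.card_filter]
    rw [Finset.sum_congr rfl fun y _ => h3 y]
    -- the point mapped to `x`
    obtain ⟨y₀, hy₀⟩ := (ψ g).surjective x
    have hne : y₀ ≠ x := by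
      rintro rfl
      exact hg hy₀
    rw [← Finset.sum_erase_add _ _ (Finset.mem_univ x), hN0 _ x (Or.inr ⟨hg, rfl⟩), add_zero,
      ← Finset.sum_erase_add _ _ (Finset.mem_erase.2 ⟨hne, Finset.mem_univ y₀⟩), hN0 _ y₀ (Or.inl ⟨hy₀, hne⟩), add_zero,
      Finset.sum_congr rfl (fun y hy => ?_), Finset.sum_const, smul_eq_mul,
      Finset.card_erase_of_mem (Finset.mem_erase.2 ⟨hne, Finset.mem_univ y₀⟩),
      Finset.card_erase_of_mem (Finset.mem_univ x), Finset.card_univ, h.card]
    · rw [Finset.mem_erase, Finset.mem_erase] at hy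
      refine hN _ y ?_ hy.2.1
      intro h'
      exact hy.1 ((ψ g).injective (h'.trans hy₀.symm))
  have h4 : ∑ s ∈ S, LinearMap.trace F _ (actL (mt P (s * g))) = ((5 * m : ℕ) : F) - ((6 * m : ℕ) : F) := by
    rw [Finset.sum_congr rfl fun s _ => h.trace_act h2 (s * g), Finset.sum_sub_distrib, Finset.sum_const, hcard,
      ← Nat.cast_sum, hsum, nsmul_eq_mul, mul_one]
  rw [h4]
  have h5 := h.stab x z₀ hg.symm
  rw [← hm] at h5
  intro h6
  apply h5
  push_cast at h6
  linear_combination -h6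

/-- A vector fixed by the stabiliser of a point, not orthogonal to its images. -/
theorem exists_fixed (h : Pts ψ) (h2 : (2 : F) ≠ 0) (x : Ω) (g : P) (hg : ψ g x ≠ x) :
    ∃ v : Fin 3 ⊕ Fin 3 → F, (∀ s : P, ψ s x = x → act (mt P s) v = v) ∧ bil v (act (mt P g) v) ≠ 0 := by
  classical
  have : Fintype P := Fintype.ofFinite P
  set S := Finset.univ.filter (fun s : P => ψ s x = x) with hS
  have hmem : ∀ s, s ∈ S ↔ ψ s x = x := fun s => by rw [hS, Finset.mem_filter]; simp
  set e : Module.End F (Fin 3 ⊕ Fin 3 → F) := ∑ s ∈ S, actL (mt P s) with he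
  have hfix : ∀ s : P, ψ s x = x → ∀ u, act (mt P s) (e u) = e u := by
    intro s hs u
    rw [he, LinearMap.sum_apply, act_sum]
    refine Finset.sum_bij (fun t _ => s * t) ?_ ?_ ?_ ?_
    · intro t ht
      rw [hmem] at ht ⊢
      rw [map_mul, Equiv.Perm.mul_apply, ht, hs]
    · intro a _ b _ hab
      exact mul_left_cancel hab
    · intro t ht
      refine ⟨s⁻¹ * t, ?_, by group⟩
      rw [hmem] at ht ⊢
      rw [map_mul, Equiv.Perm.mul_apply, ht, map_inv, Equiv.Perm.inv_eq_iff_eq.2 hs.symm]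
    · intro t _
      rw [actL_apply, actL_apply, map_mul, act_mul]
  have hadj : ∀ u v, bil (e u) v = bil u (e v) := by
    intro u v
    rw [he, LinearMap.sum_apply, LinearMap.sum_apply, bil_sum_left, bil_sum_right]
    refine Finset.sum_bij (fun t _ => t⁻¹) ?_ ?_ ?_ ?_
    · intro t ht
      rw [hmem] at ht ⊢
      rw [map_inv, Equiv.Perm.inv_eq_iff_eq.2 ht.symm]
    · intro a _ b _ hab
      exact inv_injective hab
    · intro t ht
      refine ⟨t⁻¹, ?_, by group⟩
      rw [hmem] at ht ⊢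
      rw [map_inv, Equiv.Perm.inv_eq_iff_eq.2 ht.symm]
    · intro t _
      rw [actL_apply, actL_apply, h.act_inv]
  -- `e g e ≠ 0`
  have hne : ∃ u, e (act (mt P g) (e u)) ≠ 0 := by
    by_contra hcon
    push Not at hcon
    have h1 : (e * actL (mt P g)) * (e * actL (mt P g)) = 0 := by
      apply LinearMap.ext
      intro u
      rw [Module.End.mul_apply, Module.End.mul_apply, Module.End.mul_apply, actL_apply, actL_apply, hcon]
      rfl
    have h3 : IsNilpotent (e * actL (mt P g)) := ⟨2, by rw [pow_two, h1]⟩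
    have h4 := LinearMap.isNilpotent_trace_of_isNilpotent h3
    have h5 := h4.eq_zero
    apply h.sum_trace h2 hg
    rw [← h5, he, Finset.sum_mul, map_sum]
    refine Finset.sum_congr rfl fun s _ => ?_
    rw [map_mul, actL_mul]
  obtain ⟨u, hu⟩ := hne
  obtain ⟨w, hw⟩ : ∃ w, bil w (e (act (mt P g) (e u))) ≠ 0 := by
    by_contra hcon
    push Not at hcon
    exact hu (bil_nondeg hcon)
  rw [← hadj] at hw
  set a := e w with ha
  set c := e u with hc
  have hafix : ∀ s : P, ψ s x = x → act (mt P s) a = a := fun s hs => hfix s hs w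
  have hcfix : ∀ s : P, ψ s x = x → act (mt P s) c = c := fun s hs => hfix s hs u
  -- symmetry
  have hsym : bil a (act (mt P g) c) = bil c (act (mt P g) a) := by
    have hgx : ψ g⁻¹ x ≠ x := by
      intro h'
      rw [map_inv, Equiv.Perm.inv_eq_iff_eq] at h'
      exact hg h'.symm
    obtain ⟨s, hs1, hs2⟩ := h.two x (ψ g x) x (ψ g⁻¹ x) hg.symm hgx.symm
    have hs' : ψ (g * s * g) x = x := by
      rw [map_mul, map_mul, Equiv.Perm.mul_apply, Equiv.Perm.mul_apply, hs2, map_inv, ← Equiv.Perm.mul_apply,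
        mul_inv_cancel]
      rfl
    have hg' : g⁻¹ = s * g * (g * s * g)⁻¹ := by group
    calc bil a (act (mt P g) c) = bil (act (mt P g) c) a := bil_comm _ _
      _ = bil c (act (mt P g⁻¹) a) := h.act_inv _ _ _
      _ = bil c (act (mt P s) (act (mt P g) (act (mt P (g * s * g)⁻¹) a))) := by
          rw [← act_mul, ← act_mul, ← map_mul, ← map_mul, ← hg']
      _ = bil c (act (mt P s) (act (mt P g) a)) := by
          rw [hafix _ (by rw [map_inv, Equiv.Perm.inv_eq_iff_eq.2 hs'.symm])]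
      _ = bil (act (mt P s⁻¹) c) (act (mt P g) a) := by rw [h.act_inv, inv_inv]
      _ = _ := by rw [hcfix _ (by rw [map_inv, Equiv.Perm.inv_eq_iff_eq.2 hs1.symm])]
  by_cases haa : bil a (act (mt P g) a) = 0
  · by_cases hcc : bil c (act (mt P g) c) = 0
    · refine ⟨a + c, fun s hs => by rw [act_add, hafix s hs, hcfix s hs], ?_⟩
      rw [act_add, bil_add_left, bil_add_right, bil_add_right, haa, hcc, zero_add, add_zero, ← hsym, ← two_mul]
      exact mul_ne_zero h2 hw
    · exact ⟨c, hcfix, hcc⟩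
  · exact ⟨a, hafix, haa⟩

end Pts

/-- An equivariant family of seven vectors. -/
structure Fam (ψ : P →* Equiv.Perm Ω) (v : Ω → Fin 3 ⊕ Fin 3 → F) (b : F) : Prop where
  eqv : ∀ (g : P) (y : Ω), act (mt P g) (v y) = v (ψ g y)
  b0 : b ≠ 0
  bl : ∀ y z : Ω, y ≠ z → bil (v y) (v z) = b
  pfv : ∀ y, pf (v y) = -3 * b

theorem Pts.exists_fam [Finite P] (h : Pts ψ) (h2 : (2 : F) ≠ 0) :
    ∃ (v : Ω → Fin 3 ⊕ Fin 3 → F) (b : F), Fam ψ v b := by
  classical
  obtain ⟨x, x', hx'⟩ : ∃ x x' : Ω, x ≠ x' := by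
    have : 1 < Fintype.card Ω := by rw [h.card]; norm_num
    exact Fintype.one_lt_card_iff.1 this
  obtain ⟨g, hg1, hg2⟩ := h.two x x' x' x hx' hx'.symm
  have hg : ψ g x ≠ x := by rw [hg1]; exact hx'.symm
  obtain ⟨u, hu, hu0⟩ := h.exists_fixed h2 x g hg
  have htrans : ∀ y : Ω, ∃ g : P, ψ g x = y := by
    intro y
    by_cases hy : y = x
    · exact ⟨1, by rw [map_one, hy]; rfl⟩
    · obtain ⟨g, hg, -⟩ := h.two x y y x (Ne.symm hy) hy
      exact ⟨g, hg⟩
  choose k hk using htrans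
  have key : ∀ (t : P) (y : Ω), ψ t x = y → act (mt P t) u = act (mt P (k y)) u := by
    intro t y hty
    have h1 : ψ ((k y)⁻¹ * t) x = x := by
      rw [map_mul, Equiv.Perm.mul_apply, hty, map_inv, Equiv.Perm.inv_eq_iff_eq.2 (hk y).symm]
    have h3 : act (mt P t) u = act (mt P (k y)) (act (mt P ((k y)⁻¹ * t)) u) := by
      rw [← act_mul, ← map_mul, mul_inv_cancel_left]
    rw [h3, hu _ h1]
  set v : Ω → Fin 3 ⊕ Fin 3 → F := fun y => act (mt P (k y)) u with hv
  have heqv : ∀ (g : P) (y : Ω), act (mt P g) (v y) = v (ψ g y) := by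
    intro t y
    rw [hv]
    simp only
    rw [← act_mul, ← map_mul]
    exact key _ _ (by rw [map_mul, Equiv.Perm.mul_apply, hk])
  have hb : ∀ y z : Ω, y ≠ z → bil (v y) (v z) = bil u (act (mt P g) u) := by
    intro y z hyz
    obtain ⟨t, ht1, ht2⟩ := h.two x (ψ g x) y z hg.symm hyz
    have e1 : v y = act (mt P t) u := (key t y ht1).symm
    have e2 : v z = act (mt P t) (act (mt P g) u) := by
      rw [← act_mul, ← map_mul]
      exact (key _ z (by rw [map_mul, Equiv.Perm.mul_apply, ht2])).symm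
    rw [e1, e2, bil_act, h.det, one_mul]
  have hsum : ∑ y, v y = 0 := by
    apply h.nofix
    intro t
    rw [act_sum]
    refine (Finset.sum_congr rfl fun y _ => heqv t y).trans ?_
    exact Equiv.sum_comp (ψ t) v
  refine ⟨v, bil u (act (mt P g) u), heqv, hu0, hb, ?_⟩
  intro y
  have h1 : bil (∑ z, v z) (v y) = 0 := by rw [hsum, bil_zero_left]
  rw [bil_sum_left, ← Finset.sum_erase_add _ _ (Finset.mem_univ y),
    Finset.sum_congr rfl (fun z hz => hb z y (Finset.ne_of_mem_erase hz)), Finset.sum_const, bil_self,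
    Finset.card_erase_of_mem (Finset.mem_univ y), Finset.card_univ, h.card, nsmul_eq_mul] at h1
  push_cast at h1
  apply mul_left_cancel₀ h2
  linear_combination h1

namespace Fam

variable {v : Ω → Fin 3 ⊕ Fin 3 → F} {b : F}

theorem indep (h : Pts ψ) (h7 : (7 : F) ≠ 0) (hv : Fam ψ v b) (x : Ω) :
    LinearIndependent F (fun y : {y : Ω // y ≠ x} => v y) := by
  rw [Fintype.linearIndependent_iff]
  intro c hc y
  have h0 : ∀ z : Ω, ∑ y : {y : Ω // y ≠ x}, c y * bil (v y) (v z) = 0 := by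
    intro z
    have : bil (∑ y : {y : Ω // y ≠ x}, c y • v y) (v z) = 0 := by rw [hc, bil_zero_left]
    rw [bil_sum_left] at this
    rw [← this]
    exact Finset.sum_congr rfl fun y _ => (bil_smul_left _ _ _).symm
  have h1 : ∑ y : {y : Ω // y ≠ x}, c y = 0 := by
    have := h0 x
    rw [Finset.sum_congr rfl (fun y _ => by rw [hv.bl y x y.2]), ← Finset.sum_mul] at this
    exact (mul_eq_zero.1 this).resolve_right hv.b0
  have h2 := h0 y
  rw [← Finset.sum_erase_add _ _ (Finset.mem_univ y)] at h1 h2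
  rw [Finset.sum_congr rfl (fun z hz => by
    rw [hv.bl z y (fun h' => (Finset.ne_of_mem_erase hz) (Subtype.ext h'))]), ← Finset.sum_mul, bil_self, hv.pfv] at h2
  have h3 : b * (7 * c y) = 0 := by linear_combination b * h1 - h2
  exact (mul_eq_zero.1 ((mul_eq_zero.1 h3).resolve_left hv.b0)).resolve_left h7

theorem card_ne (h : Pts ψ) (x : Ω) : Fintype.card {y : Ω // y ≠ x} = 6 := by
  rw [Fintype.card_subtype_compl, h.card, Fintype.card_subtype_eq]

theorem span (h : Pts ψ) (h7 : (7 : F) ≠ 0) (hv : Fam ψ v b) (x : Ω) :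
    Submodule.span F (Set.range (fun y : {y : Ω // y ≠ x} => v y)) = ⊤ :=
  (hv.indep h h7 x).span_eq_top_of_card_eq_finrank' (by rw [card_ne h]; simp)

/-- two matrices acting in the same way on the seven vectors -/
theorem ext_act (h : Pts ψ) (h7 : (7 : F) ≠ 0) (hv : Fam ψ v b) {f : Module.End F (Fin 3 ⊕ Fin 3 → F)}
    (hf : ∀ y, f (v y) = v y) : f = 1 := by
  obtain ⟨x⟩ : Nonempty Ω := Fintype.card_pos_iff.1 (by rw [h.card]; norm_num)
  apply LinearMap.ext_on (hv.span h h7 x)
  rintro _ ⟨y, rfl⟩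
  exact hf y

theorem sum_eq (h : Pts ψ) (hv : Fam ψ v b) : ∑ y, v y = 0 := by
  apply h.nofix
  intro t
  rw [act_sum]
  refine (Finset.sum_congr rfl fun y _ => hv.eqv t y).trans ?_
  exact Equiv.sum_comp (ψ t) v

/-- The vectors fixed by the stabiliser of a point are the multiples of the corresponding vector. -/
theorem unique (h : Pts ψ) (h7 : (7 : F) ≠ 0) (hv : Fam ψ v b) (x : Ω) {w : Fin 3 ⊕ Fin 3 → F}
    (hw : ∀ s : P, ψ s x = x → act (mt P s) w = w) : ∃ c : F, w = c • v x := by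
  have hmem : w ∈ Submodule.span F (Set.range (fun y : {y : Ω // y ≠ x} => v y)) := by
    rw [hv.span h h7 x]; trivial
  obtain ⟨c, hc⟩ := (Submodule.mem_span_range_iff_exists_fun F).1 hmem
  obtain ⟨y₀⟩ : Nonempty {y : Ω // y ≠ x} := Fintype.card_pos_iff.1 (by rw [card_ne h]; norm_num)
  have hconst : ∀ y : {y : Ω // y ≠ x}, c y = c y₀ := by
    intro y
    obtain ⟨s, hs1, hs2⟩ := h.two x y x y₀ y.2.symm y₀.2.symm
    have h1 := hw s hs1
    rw [← hc, act_sum] at h1
    -- the permutation of the six points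
    have hmp : ∀ z : Ω, z ≠ x ↔ ψ s z ≠ x := by
      intro z
      rw [not_iff_not]
      constructor
      · rintro rfl; exact hs1
      · intro h'; exact (ψ s).injective (h'.trans hs1.symm)
    let e : {y : Ω // y ≠ x} ≃ {y : Ω // y ≠ x} := (ψ s).subtypeEquiv hmp
    have he : ∀ z, ((e z : {y : Ω // y ≠ x}) : Ω) = ψ s z := fun z => rfl
    have h2 : ∑ z : {y : Ω // y ≠ x}, act (mt P s) (c z • v z) = ∑ z : {y : Ω // y ≠ x}, c (e.symm z) • v z := by
      rw [← Equiv.sum_comp e (fun z => c (e.symm z) • v z)]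
      refine Finset.sum_congr rfl fun z _ => ?_
      rw [act_smul, hv.eqv, e.symm_apply_apply, he]
    rw [h2, ← sub_eq_zero, ← Finset.sum_sub_distrib] at h1
    have h3 := (Fintype.linearIndependent_iff.1 (hv.indep h h7 x)) (fun z => c (e.symm z) - c z) (by
      rw [← h1]
      exact Finset.sum_congr rfl fun z _ => sub_smul _ _ _) y₀
    have h4 : e.symm y₀ = y := by
      rw [Equiv.symm_apply_eq]
      exact Subtype.ext hs2.symm
    rw [h4] at h3
    exact sub_eq_zero.1 h3
  refine ⟨- c y₀, ?_⟩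
  have h5 := hv.sum_eq h
  rw [← Finset.sum_erase_add _ _ (Finset.mem_univ x)] at h5
  have h6 : ∑ y : {y : Ω // y ≠ x}, v y = ∑ y ∈ Finset.univ.erase x, v y := by
    refine (Finset.sum_subtype (Finset.univ.erase x) ?_ v).symm
    intro y
    simp
  rw [← hc, Finset.sum_congr rfl (fun y _ => by rw [hconst y]), ← Finset.smul_sum, h6,
    eq_neg_of_add_eq_zero_left h5, smul_neg, neg_smul]

/-- the vectors are pairwise independent -/
theorem inj_of_smul (h : Pts ψ) (h7 : (7 : F) ≠ 0) (hv : Fam ψ v b) {y z : Ω} {c : F} (hyz : v y = c • v z) : y = z := by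
  by_contra hne
  obtain ⟨x, hxy, hxz⟩ : ∃ x : Ω, x ≠ y ∧ x ≠ z := by
    by_contra hcon
    push Not at hcon
    have h1 : (Finset.univ : Finset Ω) ⊆ {y, z} := by
      intro x _
      by_cases hx : x = y
      · simp [hx]
      · simp [hcon x hx]
    have h2 := Finset.card_le_card h1
    rw [Finset.card_univ, h.card] at h2
    have := h2.trans Finset.card_le_two
    omega
  have h1 := hv.indep h h7 x
  have h2 := (Fintype.linearIndependent_iff.1 h1) (fun t => (if (t : Ω) = y then 1 else 0) - (if (t : Ω) = z then c else 0)) (by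
    have e1 : ∑ t : {y : Ω // y ≠ x}, ((if (t : Ω) = y then (1 : F) else 0) - (if (t : Ω) = z then c else 0)) • v t =
        ∑ t : {y : Ω // y ≠ x}, (if t = ⟨y, hxy.symm⟩ then v t else 0) -
          ∑ t : {y : Ω // y ≠ x}, (if t = ⟨z, hxz.symm⟩ then c • v t else 0) := by
      rw [← Finset.sum_sub_distrib]
      refine Finset.sum_congr rfl fun t _ => ?_
      rw [sub_smul, ite_smul, ite_smul, one_smul, zero_smul]
      simp only [Subtype.ext_iff]
    rw [e1, Finset.sum_ite_eq', Finset.sum_ite_eq', if_pos (Finset.mem_univ _), if_pos (Finset.mem_univ _), hyz,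
      sub_self]) ⟨y, hxy.symm⟩
  simp only [if_true, if_neg hne, sub_zero] at h2
  exact one_ne_zero h2

end Fam

end Cfsg.Agent.H908.KL
end

-- part: H908/SevenOver
section
/-!
# The stabiliser of the seven vectors up to sign
-/

set_option autoImplicit false
set_option linter.unusedSectionVars false

namespace Cfsg.Agent.H908.KL

open Matrix Cfsg Cfsg.Geo Cfsg.Agent.LieClassical.KleinSix
open scoped MatrixGroups

variable {F : Type*} [Field F] {P : Subgroup (GL (Fin 4) F)} {Ω : Type*} [Fintype Ω] [DecidableEq Ω]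
  {ψ : P →* Equiv.Perm Ω} {v : Ω → Fin 3 ⊕ Fin 3 → F} {b : F}

/-- `g` permutes the vectors up to a common sign -/
def Perms (v : Ω → Fin 3 ⊕ Fin 3 → F) (g : Matrix (Fin 4) (Fin 4) F) : Prop :=
  ∃ ε : F, ε * ε = 1 ∧ ∃ π : Equiv.Perm Ω, ∀ y, act g (v y) = ε • v (π y)

/-- The stabiliser. -/
def ovr (v : Ω → Fin 3 ⊕ Fin 3 → F) : Subgroup (GL (Fin 4) F) where
  carrier := {g | Perms v (g : Matrix (Fin 4) (Fin 4) F)}
  mul_mem' := by
    rintro g g' ⟨ε, hε, π, h⟩ ⟨ε', hε', π', h'⟩
    refine ⟨ε' * ε, ?_, π * π', fun y => ?_⟩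
    · calc ε' * ε * (ε' * ε) = (ε' * ε') * (ε * ε) := by ring
        _ = 1 := by rw [hε, hε', one_mul]
    · rw [Matrix.GeneralLinearGroup.coe_mul, act_mul, h', act_smul, h, smul_smul, Equiv.Perm.mul_apply]
  one_mem' := ⟨1, one_mul 1, 1, fun y => by
    rw [Matrix.GeneralLinearGroup.coe_one, act_one, one_smul]; rfl⟩
  inv_mem' := by
    rintro g ⟨ε, hε, π, h⟩
    refine ⟨ε, hε, π⁻¹, fun y => ?_⟩
    have h1 := h (π⁻¹ y)
    have h2 : π (π⁻¹ y) = y := by rw [← Equiv.Perm.mul_apply, mul_inv_cancel]; rfl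
    rw [h2] at h1
    have h3 : v y = ε • act (g : Matrix (Fin 4) (Fin 4) F) (v (π⁻¹ y)) := by
      rw [h1, smul_smul, hε, one_smul]
    rw [h3, act_smul, ← act_mul, ← Matrix.GeneralLinearGroup.coe_mul, inv_mul_cancel,
      Matrix.GeneralLinearGroup.coe_one, act_one]

theorem mem_ovr {g : GL (Fin 4) F} : g ∈ ovr v ↔ Perms v (g : Matrix (Fin 4) (Fin 4) F) := Iff.rfl

theorem exists_ne (h : Pts ψ) (x y z : Ω) : ∃ t : Ω, t ≠ x ∧ t ≠ y ∧ t ≠ z := by
  by_contra hcon
  push Not at hcon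
  have h1 : (Finset.univ : Finset Ω) ⊆ {x, y, z} := by
    intro t _
    by_cases hx : t = x
    · simp [hx]
    · by_cases hy : t = y
      · simp [hy]
      · simp [hcon t hx hy]
  have h2 := Finset.card_le_card h1
  rw [Finset.card_univ, h.card] at h2
  have := h2.trans Finset.card_le_three
  omega

/-- elements of the stabiliser acting quadratically on the skew matrices are scalars. -/
theorem no_transvection (h : Pts ψ) (h2 : (2 : F) ≠ 0) (h7 : (7 : F) ≠ 0) (hv : Fam ψ v b)
    {g : Matrix (Fin 4) (Fin 4) F} (hg : Perms v g)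
    (hsq : ∀ u : Fin 3 ⊕ Fin 3 → F, act g (act g u) + u = (2 : F) • act g u) : ∀ u, act g u = u := by
  obtain ⟨ε, hε, π, hπ⟩ := hg
  have hb0 := hv.b0
  have h1 : ∀ y, v (π (π y)) + v y = (2 * ε) • v (π y) := by
    intro y
    have := hsq (v y)
    rw [hπ, act_smul, hπ, smul_smul, hε, one_smul, smul_smul] at this
    exact this
  have h3 : ∀ y, π y = y := by
    intro y
    by_contra hne
    obtain ⟨z, hz1, hz2, hz3⟩ := exists_ne h y (π y) (π (π y))
    have e1 := congrArg (fun u => bil u (v z)) (h1 y)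
    have e2 := congrArg (fun u => bil u (v y)) (h1 y)
    simp only [bil_add_left, bil_smul_left] at e1 e2
    rw [hv.bl _ _ hz3.symm, hv.bl _ _ hz1.symm, hv.bl _ _ hz2.symm] at e1
    have e3 : ε = 1 := by
      have : (2 * b) * (ε - 1) = 0 := by linear_combination -e1
      exact sub_eq_zero.1 ((mul_eq_zero.1 this).resolve_left (mul_ne_zero h2 hb0))
    subst e3
    rw [bil_self, hv.pfv, hv.bl _ _ hne] at e2
    by_cases hyy : π (π y) = y
    · rw [hyy, bil_self, hv.pfv] at e2
      have : (2 * 7 : F) * b = 0 := by linear_combination -e2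
      exact (mul_ne_zero (mul_ne_zero h2 h7) hb0) this
    · rw [hv.bl _ _ hyy] at e2
      have : (7 : F) * b = 0 := by linear_combination -e2
      exact (mul_ne_zero h7 hb0) this
  have h4 : ∀ y : Ω, ε = 1 := by
    intro y
    obtain ⟨z, hz1, -, -⟩ := exists_ne h y y y
    have e1 := congrArg (fun u => bil u (v z)) (h1 y)
    rw [h3, h3] at e1
    simp only [bil_add_left, bil_smul_left] at e1
    rw [hv.bl _ _ hz1.symm] at e1
    have : (2 * b) * (ε - 1) = 0 := by linear_combination -e1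
    exact sub_eq_zero.1 ((mul_eq_zero.1 this).resolve_left (mul_ne_zero h2 hb0))
  have h5 : actL g = 1 := by
    apply hv.ext_act h h7
    intro y
    rw [actL_apply, hπ, h3, h4 y, one_smul]
  intro u
  have := congrArg (fun f : Module.End F (Fin 3 ⊕ Fin 3 → F) => f u) h5
  simpa using this

theorem pf_sub (hv : Fam ψ v b) {x y : Ω} (hxy : x ≠ y) : pf (v x - v y) = -7 * b := by
  have e1 := bil_eq (v x) (-v y)
  have e2 : pf (-v y) = pf (v y) := by simp only [pf, Pi.neg_apply]; ring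
  have e3 : bil (v x) (-v y) = - bil (v x) (v y) := by
    rw [← neg_one_smul F (v y), bil_smul_right]; ring
  rw [← sub_eq_add_neg, e2, e3, hv.pfv, hv.pfv, hv.bl _ _ hxy] at e1
  linear_combination -e1

theorem rfl_sub (hv : Fam ψ v b) {x y : Ω} (hxy : x ≠ y) (z : Ω) :
    rfl' (v x - v y) (v z) = (-7 * b) • v (Equiv.swap x y z) := by
  rw [rfl', pf_sub hv hxy, bil_sub_left]
  by_cases hzx : z = x
  · subst hzx
    rw [Equiv.swap_apply_left, bil_self, hv.pfv, hv.bl _ _ hxy.symm]
    module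
  · by_cases hzy : z = y
    · subst hzy
      rw [Equiv.swap_apply_right, bil_self, hv.pfv, hv.bl _ _ hxy]
      module
    · rw [Equiv.swap_apply_of_ne_of_ne hzx hzy, hv.bl _ _ (Ne.symm hzx), hv.bl _ _ (Ne.symm hzy)]
      module

theorem rfl_smul_right (w z : Fin 3 ⊕ Fin 3 → F) (c : F) : rfl' w (c • z) = c • rfl' w z := by
  rw [rfl', rfl', bil_smul_right]; module

/-- the three-cycle -/
noncomputable def cyc (v : Ω → Fin 3 ⊕ Fin 3 → F) (b : F) (x y z : Ω) : Matrix (Fin 4) (Fin 4) F :=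
  rr (-7 * b) (v x - v y) (v y - v z)

theorem N_ne_zero (h7 : (7 : F) ≠ 0) (hv : Fam ψ v b) : -7 * b ≠ 0 := mul_ne_zero (neg_ne_zero.2 h7) hv.b0

theorem det_cyc (h7 : (7 : F) ≠ 0) (hv : Fam ψ v b) {x y z : Ω} (hxy : x ≠ y) (hyz : y ≠ z) :
    (cyc v b x y z).det = 1 := det_rr (N_ne_zero h7 hv) (pf_sub hv hxy) (pf_sub hv hyz)

theorem act_cyc (h7 : (7 : F) ≠ 0) (hv : Fam ψ v b) {x y z : Ω} (hxy : x ≠ y) (hyz : y ≠ z) (t : Ω) :
    act (cyc v b x y z) (v t) = v (Equiv.swap x y (Equiv.swap y z t)) := by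
  have hN := N_ne_zero h7 hv
  rw [cyc, act_rr, rfl_sub hv hyz, rfl_smul_right, rfl_sub hv hxy, smul_smul, smul_smul]
  have : (-7 * b)⁻¹ * (-7 * b)⁻¹ * (-7 * b) * (-7 * b) = 1 := by
    rw [mul_assoc, mul_assoc, inv_mul_cancel_left₀ hN, inv_mul_cancel₀ hN]
  rw [this, one_smul]

theorem perms_cyc (h7 : (7 : F) ≠ 0) (hv : Fam ψ v b) {x y z : Ω} (hxy : x ≠ y) (hyz : y ≠ z) :
    Perms v (cyc v b x y z) :=
  ⟨1, one_mul 1, Equiv.swap x y * Equiv.swap y z, fun t => by rw [act_cyc h7 hv hxy hyz, one_smul]; rfl⟩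

/-- the three-cycle is not in `P` modulo scalars. -/
theorem cyc_not_mem (h : Pts ψ) (h7 : (7 : F) ≠ 0) (hv : Fam ψ v b)
    (h4 : ∀ g : P, (Finset.univ.filter fun y => ψ g y = y).card ≠ 4)
    {x y z : Ω} (hxy : x ≠ y) (hyz : y ≠ z) (hxz : x ≠ z) (g : P) (c : F) : cyc v b x y z ≠ c • mt P g := by
  intro heq
  have h1 : ∀ t, Equiv.swap x y (Equiv.swap y z t) = ψ g t := by
    intro t
    have e1 := act_cyc h7 hv hxy hyz t
    rw [heq, act_smul_left, hv.eqv] at e1
    exact hv.inj_of_smul h h7 e1.symm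
  apply h4 g
  have h3 : (Finset.univ.filter fun y => ψ g y = y) = Finset.univ \ {x, y, z} := by
    ext t
    rw [Finset.mem_filter, Finset.mem_sdiff, ← h1 t]
    simp only [Finset.mem_univ, true_and, Finset.mem_insert, Finset.mem_singleton, not_or]
    constructor
    · intro ht
      refine ⟨?_, ?_, ?_⟩
      · rintro rfl
        rw [Equiv.swap_apply_of_ne_of_ne hxy hxz, Equiv.swap_apply_left] at ht
        exact hxy ht.symm
      · rintro rfl
        rw [Equiv.swap_apply_left, Equiv.swap_apply_of_ne_of_ne hxz.symm hyz.symm] at ht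
        exact hyz ht.symm
      · rintro rfl
        rw [Equiv.swap_apply_right, Equiv.swap_apply_right] at ht
        exact hxz ht
    · rintro ⟨ht1, ht2, ht3⟩
      rw [Equiv.swap_apply_of_ne_of_ne ht2 ht3, Equiv.swap_apply_of_ne_of_ne ht1 ht2]
  rw [h3, Finset.card_sdiff_of_subset (Finset.subset_univ _), Finset.card_univ, h.card,
    Finset.card_eq_three.2 ⟨x, y, z, hxy, hxz, hyz, rfl⟩]

/-- **Not maximal.** -/
theorem not_maximal (h : Pts ψ) (h2 : (2 : F) ≠ 0) (h7 : (7 : F) ≠ 0) (hv : Fam ψ v b)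
    (h4 : ∀ g : P, (Finset.univ.filter fun y => ψ g y = y).card ≠ 4)
    {H S : Subgroup (GL (Fin 4) F)} (hmax : IsMaximalIn S H)
    (hdet : ∀ g ∈ S, (g : Matrix (Fin 4) (Fin 4) F).det = 1)
    (hPZ : ∀ g ∈ H, ∃ (y : P) (c : F), (g : Matrix (Fin 4) (Fin 4) F) = c • mt P y)
    (ht : ∀ x y z : Ω, x ≠ y → y ≠ z → x ≠ z → ∃ t ∈ S, (t : Matrix (Fin 4) (Fin 4) F) = cyc v b x y z)
    (hτ : ∃ τ ∈ S, (∀ c : F, (τ : Matrix (Fin 4) (Fin 4) F) ≠ c • 1) ∧
      ∀ u : Fin 3 ⊕ Fin 3 → F, act (τ : Matrix (Fin 4) (Fin 4) F) (act (τ : Matrix (Fin 4) (Fin 4) F) u) + u =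
        (2 : F) • act (τ : Matrix (Fin 4) (Fin 4) F) u) : False := by
  have hle : H ≤ ovr v ⊓ S := by
    intro g hg
    refine ⟨?_, hmax.1.le hg⟩
    obtain ⟨y, c, hc⟩ := hPZ g hg
    have hd := hdet g (hmax.1.le hg)
    rw [hc, det_smul, h.det, mul_one, Fintype.card_fin] at hd
    change Perms v (g : Matrix (Fin 4) (Fin 4) F)
    refine ⟨c * c, by rw [← hd]; ring, ψ y, fun z => ?_⟩
    rw [hc, act_smul_left, hv.eqv]
  rcases hmax.2 _ hle inf_le_right with hK | hK
  · -- three-cycle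
    obtain ⟨x⟩ : Nonempty Ω := Fintype.card_pos_iff.1 (by rw [h.card]; norm_num)
    obtain ⟨y, hy, -, -⟩ := exists_ne h x x x
    obtain ⟨z, hz1, hz2, -⟩ := exists_ne h x y y
    obtain ⟨t, htS, ht⟩ := ht x y z hy.symm hz2.symm hz1.symm
    have hmem : t ∈ ovr v ⊓ S := ⟨by
      change Perms v (t : Matrix (Fin 4) (Fin 4) F)
      rw [ht]
      exact perms_cyc h7 hv hy.symm hz2.symm, htS⟩
    rw [hK] at hmem
    obtain ⟨g, c, hgc⟩ := hPZ t hmem
    rw [ht] at hgc
    exact cyc_not_mem h h7 hv h4 hy.symm hz2.symm hz1.symm g c hgc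
  · obtain ⟨τ, hτS, hτ1, hτ2⟩ := hτ
    have hmem : τ ∈ ovr v ⊓ S := by rw [hK]; exact hτS
    have h5 := no_transvection h h2 h7 hv (mem_ovr.1 hmem.1) hτ2
    obtain ⟨c, hc⟩ := scalar_of_act_eq (hdet τ hτS) h5
    refine hτ1 c ?_
    rw [hc, Matrix.scalar_apply, Matrix.smul_one_eq_diagonal]

end Cfsg.Agent.H908.KL
end

private theorem dce_f84bb8f077a8 : _root_.True := by
  try have : _root_.True := by simp only [_root_.Cfsg.Agent.H908.KL.rfl'.eq_1]
  try have : _root_.True := by simp only [_root_.Cfsg.Agent.H908.KL.cyc.eq_1]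
  try have : _root_.True := by simp only [_root_.Cfsg.Agent.H908.KL.bil.eq_1]
  try have : _root_.True := by simp only [_root_.Cfsg.Agent.H908.Psl7.q.eq_1]
  try have : _root_.True := by simp only [_root_.Cfsg.Agent.H908.KL.rr.eq_1]
  exact _root_.True.intro
end

-- part: H908/L7Main
section
prune_inst 0x200000000000000200000000000000040000804000000000000000100000000000000000000000000000000000000000000000000000000000000000000000000000000000000000000000000000000000000000000000000
set_option linter.all false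
open scoped Cfsg.Agent.FastGrp

-- part: H908/NoTriv
section
/-!
# Trivial centre: `A₇` and `L₂(7)` have no irreducible representation of degree four (characteristic not two, not seven)
-/

set_option autoImplicit false
set_option linter.unusedSectionVars false

namespace Cfsg.Agent.H908

open Cfsg Cfsg.Geo Module
open scoped MatrixGroups commutatorElement

section Lin

variable {K : Type*} [Field K] {V : Type*} [AddCommGroup V] [Module K V] [FiniteDimensional K V]

/-- An involution of determinant one in dimension four which is not `±1` has trace zero. -/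
theorem inv_trace_zero (h2 : (2 : K) ≠ 0) (h4 : finrank K V = 4) {U : End K V} (hU : U * U = 1)
    (hdet : LinearMap.det U = 1) (h1 : U ≠ 1) (h1' : U ≠ -1) : LinearMap.trace K V U = 0 := by
  set! e : End K V := (2 : K)⁻¹ • (1 - U) with he
  have he2 : IsIdempotentElem e := by
    change e * e = e
    have h3 : (1 - U) * (1 - U) = (2 : K) • (1 - U) := by
      rw [mul_sub, mul_one, sub_mul, one_mul, hU, two_smul]; abel
    rw [he, smul_mul_smul_comm, h3, smul_smul]
    congr 1
    field_simp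
  have hUe : U = 1 - (2 : K) • e := by
    rw [he, smul_smul, mul_inv_cancel₀ h2, one_smul, sub_sub_cancel]
  set! W := LinearMap.range e with hW
  have hUW : ∀ x ∈ W, U x = -x := by
    rintro _ ⟨y, rfl⟩
    have h3 : U * e = -e := by
      rw [he, mul_smul_comm, mul_sub, mul_one, hU, ← smul_neg]
      congr 1; abel
    have := congrArg (fun z : End K V => z y) h3
    simpa using this
  have hcomap : W ≤ W.comap U := by
    intro x hx
    rw [Submodule.mem_comap, hUW x hx]
    exact W.neg_mem hx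
  have hd := LinearMap.det_eq_det_mul_det W U hcomap
  have hr : U.restrict (p := W) (q := W) hcomap = -1 := by
    ext x
    simp only [LinearMap.restrict_apply, hUW x.1 x.2, _root_.LinearMap.restrict_apply, _root_.LinearMap.neg_apply, _root_.Module.End.one_apply, _root_.NegMemClass.coe_neg]
  have hq : W.mapQ W U hcomap = 1 := by
    ext x
    simp only [LinearMap.coe_comp, Function.comp_apply, Submodule.mkQ_apply, Submodule.mapQ_apply, Module.End.one_apply]
    rw [Submodule.Quotient.eq]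
    have : U x - x = -((2 : K) • e x) := by
      conv_lhs => rw [hUe]
      simp only [_root_.LinearMap.sub_apply, _root_.Module.End.one_apply, _root_.LinearMap.smul_apply, _root_.sub_sub_cancel_left]
    rw [this]
    exact W.neg_mem (W.smul_mem _ ⟨x, rfl⟩)
  have hneg : LinearMap.det (-1 : End K W) = (-1) ^ finrank K W := by
    have : (-1 : End K W) = (-1 : K) • (1 : End K W) := (neg_one_smul K (1 : End K W)).symm
    rw [this, LinearMap.det_smul, map_one, mul_one]
  have hone : LinearMap.det (1 : End K (V ⧸ W)) = 1 := map_one _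
  rw [hdet, hr, hq, hneg, hone, mul_one] at hd
  have heven : Even (finrank K W) := by
    by_contra hodd
    rw [Nat.not_even_iff_odd] at hodd
    rw [hodd.neg_one_pow] at hd
    apply h2
    linear_combination hd
  have hle : finrank K W ≤ 4 := h4 ▸ Submodule.finrank_le W
  have htr : LinearMap.trace K V e = (finrank K W : K) :=
    (LinearMap.IsIdempotentElem.isProj_range e he2).trace
  have hcases : finrank K W = 0 ∨ finrank K W = 2 ∨ finrank K W = 4 := by
    obtain ⟨k, hk⟩ := heven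
    omega
  rcases hcases with h0 | h0 | h0
  · exfalso
    have : W = ⊥ := Submodule.finrank_eq_zero.1 h0
    have he0 : e = 0 := LinearMap.range_eq_bot.1 this
    apply h1
    rw [hUe, he0, smul_zero, sub_zero]
  · rw [hUe, map_sub, map_smul, htr, h0, LinearMap.trace_one, h4]
    push_cast
    rw [smul_eq_mul]; ring
  · exfalso
    have : W = ⊤ := Submodule.eq_top_of_finrank_eq (by rw [h0, h4])
    have he1 : e = 1 := by
      ext x
      have hx : x ∈ W := by rw [this]; exact Submodule.mem_top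
      obtain ⟨y, rfl⟩ := hx
      rw [← Module.End.mul_apply, he2.eq]
      rfl
    apply h1'
    rw [hUe, he1, two_smul]
    abel

/-- The weights of a four-group and a commuting element of order three. -/
theorem no_three (h2 : (2 : K) ≠ 0) (h4 : finrank K V = 4) {U W D D' C : End K V} (hU : U * U = 1) (hW : W * W = 1)
    (hUW : U * W = W * U) (hDD : D * D' = 1) (hDD' : D' * D = 1) (hDU : D * U = W * D) (hDW : D * W = U * W * D)
    (hCU : C * U = U * C) (hCW : C * W = W * C) (hCD : C * D = D * C) (hC : C * C * C = 1) (hC1 : C ≠ 1)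
    (htU : LinearMap.trace K V U = 0) (htC : LinearMap.trace K V C = LinearMap.trace K V (C * C)) : False := by
  -- traces
  have htW : LinearMap.trace K V W = 0 := by
    have : W = D * U * D' := by rw [hDU, mul_assoc, hDD, mul_one]
    rw [this, mul_assoc, LinearMap.trace_mul_comm, mul_assoc, hDD', mul_one, htU]
  have htUW : LinearMap.trace K V (U * W) = 0 := by
    have : U * W = D * W * D' := by rw [hDW, mul_assoc, hDD, mul_one]
    rw [this, mul_assoc, LinearMap.trace_mul_comm, mul_assoc, hDD', mul_one, htW]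
  have h4' : LinearMap.trace K V (1 : End K V) = 4 := by rw [LinearMap.trace_one, h4]; norm_num
  have h40 : (4 : K) ≠ 0 := by
    have : (4 : K) = 2 * 2 := by norm_num
    rw [this]; exact mul_ne_zero h2 h2
  have hne : ∀ (α β : K), LinearMap.trace K V ((1 + α • U) * (1 + β • W)) = 4 := by
    intro α β
    have : (1 + α • U) * (1 + β • W) = 1 + β • W + α • U + (α * β) • (U * W) := by
      rw [add_mul, one_mul, mul_add, mul_one, smul_mul_smul_comm]; abel
    rw [this, map_add, map_add, map_add, map_smul, map_smul, map_smul, htU, htW, htUW, h4']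
    simp
  have hex : ∀ (α β : K), ∃ x : V, ((1 + α • U) * (1 + β • W)) x ≠ 0 := by
    intro α β
    by_contra hcon
    push Not at hcon
    have : (1 + α • U) * (1 + β • W) = 0 := by ext x; rw [hcon]; rfl
    have h5 := hne α β
    rw [this, map_zero] at h5
    exact h40 h5.symm
  have ap : ∀ {A B : End K V}, A = B → ∀ z, A z = B z := fun h z => by rw [h]
  -- eigenvectors
  obtain ⟨x0, hx0⟩ := hex 1 1
  obtain ⟨x1, hx1⟩ := hex 1 (-1)
  obtain ⟨b0, hb0⟩ : ∃ b0, b0 = ((1 + (1 : K) • U) * (1 + (1 : K) • W)) x0 := ⟨_, rfl⟩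
  obtain ⟨b1, hb1⟩ : ∃ b1, b1 = ((1 + (1 : K) • U) * (1 + (-1 : K) • W)) x1 := ⟨_, rfl⟩
  rw [← hb0] at hx0
  rw [← hb1] at hx1
  have uu : ∀ z, U (U z) = z := fun z => by
    have := ap hU z
    simpa using this
  have ww : ∀ z, W (W z) = z := fun z => by
    have := ap hW z
    simpa using this
  have wu : ∀ z, W (U z) = U (W z) := fun z => by
    have := ap hUW z
    simpa using this.symm
  have hb0' : b0 = x0 + U x0 + W x0 + U (W x0) := by
    rw [hb0]
    simp only [Module.End.mul_apply, LinearMap.add_apply, LinearMap.smul_apply, Module.End.one_apply, one_smul, map_add]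
    abel
  have hb1' : b1 = x1 + U x1 - W x1 - U (W x1) := by
    rw [hb1]
    simp only [Module.End.mul_apply, LinearMap.add_apply, LinearMap.smul_apply, Module.End.one_apply, one_smul, map_add,
      neg_one_smul, map_neg, LinearMap.neg_apply]
    abel
  have hUb0 : U b0 = b0 := by
    rw [hb0']
    simp only [map_add, uu]
    abel
  have hWb0 : W b0 = b0 := by
    rw [hb0']
    simp only [map_add, wu, ww]
    abel
  have hUb1 : U b1 = b1 := by
    rw [hb1']
    simp only [map_add, map_sub, uu]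
    abel
  have hWb1 : W b1 = -b1 := by
    rw [hb1']
    simp only [map_add, map_sub, wu, ww]
    abel
  have e1 : ∀ z, D (U z) = W (D z) := fun z => by
    have := ap hDU z
    simpa using this
  have e2 : ∀ z, D (W z) = U (W (D z)) := fun z => by
    have := ap hDW z
    simpa using this
  have e3 : ∀ z, U (W z) = W (U z) := fun z => by
    have := ap hUW z
    simpa using this
  have hWb2 : W (D b1) = D b1 := by rw [← e1, hUb1]
  have hUb2 : U (D b1) = -D b1 := by
    have := e2 b1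
    rw [hWb1, hWb2, map_neg] at this
    exact this.symm
  have hWb3 : W (D (D b1)) = -D (D b1) := by rw [← e1, hUb2, map_neg]
  have hUb3 : U (D (D b1)) = -D (D b1) := by
    have := e2 (D b1)
    rw [hWb2, hWb3, map_neg] at this
    rw [← neg_eq_iff_eq_neg.2 this]
  have hDinj : ∀ z, D z = 0 → z = 0 := by
    intro z hz
    have := ap hDD' z
    rw [Module.End.mul_apply, hz, map_zero] at this
    exact this.symm
  have hb2 : D b1 ≠ 0 := fun h => hx1 (hDinj _ h)
  have hb3 : D (D b1) ≠ 0 := fun h => hb2 (hDinj _ h)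
  have key : ∀ a0 a1 a2 a3 : K, a0 • b0 + a1 • b1 + a2 • D b1 + a3 • D (D b1) = 0 → a0 = 0 ∧ a1 = 0 ∧ a2 = 0 ∧ a3 = 0 := by
    intro a0 a1 a2 a3 h
    have f1 := congrArg U h
    have f2 := congrArg W h
    have f3 := congrArg (fun z => U (W z)) h
    simp only [map_add, map_smul, hUb0, hUb1, hUb2, hUb3, hWb0, hWb1, hWb2, hWb3, map_zero, map_neg, smul_neg, neg_neg] at f1 f2 f3
    have g : ∀ {a : K} {z : V}, z ≠ 0 → (4 * a) • z = 0 → a = 0 := by
      intro a z hz h
      rcases smul_eq_zero.1 h with h | h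
      · exact (mul_eq_zero.1 h).resolve_left h40
      · exact absurd h hz
    refine ⟨g hx0 ?_, g hx1 ?_, g hb2 ?_, g hb3 ?_⟩
    · linear_combination (norm := module) h + f1 + f2 + f3
    · linear_combination (norm := module) h + f1 - f2 - f3
    · linear_combination (norm := module) h - f1 + f2 - f3
    · linear_combination (norm := module) h - f1 - f2 + f3
  have hli : LinearIndependent K ![b0, b1, D b1, D (D b1)] := by
    rw [Fintype.linearIndependent_iff]
    intro g hg
    rw [Fin.sum_univ_four] at hg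
    obtain ⟨h0, h1, h2', h3⟩ := key (g 0) (g 1) (g 2) (g 3) hg
    intro i
    fin_cases i <;> assumption
  let B : Basis (Fin 4) K V := basisOfLinearIndependentOfCardEqFinrank hli (by rw [h4]; simp)
  have hB0 : B 0 = b0 := by simp [B]
  have hB1 : B 1 = b1 := by simp [B]
  have hB2 : B 2 = D b1 := by simp [B]
  have hB3 : B 3 = D (D b1) := by simp [B]
  have hexp : ∀ z, ∃ a0 a1 a2 a3 : K, z = a0 • b0 + a1 • b1 + a2 • D b1 + a3 • D (D b1) := by
    intro z
    refine ⟨B.repr z 0, B.repr z 1, B.repr z 2, B.repr z 3, ?_⟩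
    conv_lhs => rw [← B.sum_repr z]
    rw [Fin.sum_univ_four, hB0, hB1, hB2, hB3]
  have e4 : ∀ z, C (U z) = U (C z) := fun z => by
    have := ap hCU z
    simpa using this
  have e5 : ∀ z, C (W z) = W (C z) := fun z => by
    have := ap hCW z
    simpa using this
  have e6 : ∀ z, C (D z) = D (C z) := fun z => by
    have := ap hCD z
    simpa using this
  -- `C` is diagonal
  obtain ⟨l0, hl0⟩ : ∃ l0 : K, C b0 = l0 • b0 := by
    obtain ⟨a0, a1, a2, a3, hz⟩ := hexp (C b0)
    have f1 := e4 b0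
    have f2 := e5 b0
    rw [hUb0, hz] at f1
    rw [hWb0, hz] at f2
    simp only [map_add, map_smul, hUb0, hUb1, hUb2, hUb3, hWb0, hWb1, hWb2, hWb3, smul_neg] at f1 f2
    have g1 := key 0 0 (2 * a2) (2 * a3) (by linear_combination (norm := module) f1)
    have g2 := key 0 (2 * a1) 0 (2 * a3) (by linear_combination (norm := module) f2)
    have g : ∀ {a : K}, 2 * a = 0 → a = 0 := fun h => (mul_eq_zero.1 h).resolve_left h2
    refine ⟨a0, ?_⟩
    rw [hz, g g1.2.2.1, g g1.2.2.2, g g2.2.1]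
    simp
  obtain ⟨l, hl⟩ : ∃ l : K, C b1 = l • b1 := by
    obtain ⟨a0, a1, a2, a3, hz⟩ := hexp (C b1)
    have f1 := e4 b1
    have f2 := e5 b1
    rw [hUb1, hz] at f1
    rw [hWb1, map_neg, hz] at f2
    simp only [map_add, map_smul, hUb0, hUb1, hUb2, hUb3, hWb0, hWb1, hWb2, hWb3, smul_neg] at f1 f2
    have g1 := key 0 0 (2 * a2) (2 * a3) (by linear_combination (norm := module) f1)
    have g2 := key (2 * a0) 0 (2 * a2) 0 (by linear_combination (norm := module) (-1 : K) • f2)
    have g : ∀ {a : K}, 2 * a = 0 → a = 0 := fun h => (mul_eq_zero.1 h).resolve_left h2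
    refine ⟨a1, ?_⟩
    rw [hz, g g1.2.2.1, g g1.2.2.2, g g2.1]
    simp
  have hl2 : C (D b1) = l • D b1 := by rw [e6, hl, map_smul]
  have hl3 : C (D (D b1)) = l • D (D b1) := by rw [e6, hl2, map_smul]
  have hcube : ∀ z, C (C (C z)) = z := fun z => by
    have := ap hC z
    simpa using this
  have hl03 : l0 ^ 3 = 1 := by
    have := hcube b0
    rw [hl0, map_smul, hl0, map_smul, map_smul, hl0, smul_smul, smul_smul] at this
    have h5 : (l0 * (l0 * l0) - 1) • b0 = 0 := by rw [sub_smul, ← mul_assoc, this, one_smul, sub_self]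
    rcases smul_eq_zero.1 h5 with h6 | h6
    · linear_combination h6
    · exact absurd h6 hx0
  have hl13 : l ^ 3 = 1 := by
    have := hcube b1
    rw [hl, map_smul, hl, map_smul, map_smul, hl, smul_smul, smul_smul] at this
    have h5 : (l * (l * l) - 1) • b1 = 0 := by rw [sub_smul, ← mul_assoc, this, one_smul, sub_self]
    rcases smul_eq_zero.1 h5 with h6 | h6
    · linear_combination h6
    · exact absurd h6 hx1
  -- traces
  have htrace : ∀ (A : End K V) (m0 m : K), A b0 = m0 • b0 → A b1 = m • b1 → A (D b1) = m • D b1 →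
      A (D (D b1)) = m • D (D b1) → LinearMap.trace K V A = m0 + 3 * m := by
    intro A m0 m h0 h1 h2' h3
    rw [LinearMap.trace_eq_matrix_trace K B, Matrix.trace, Fin.sum_univ_four]
    simp only [Matrix.diag_apply, LinearMap.toMatrix_apply, hB0, hB1, hB2, hB3, h0, h1, h2', h3, map_smul]
    rw [← hB3, ← hB2, ← hB1, ← hB0]
    simp only [B.repr_self, Finsupp.smul_apply, Finsupp.single_eq_same, smul_eq_mul, mul_one]
    ring
  have t1 := htrace C l0 l hl0 hl hl2 hl3
  have t2 := htrace (C * C) (l0 * l0) (l * l) (by rw [Module.End.mul_apply, hl0, map_smul, hl0, smul_smul])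
    (by rw [Module.End.mul_apply, hl, map_smul, hl, smul_smul])
    (by rw [Module.End.mul_apply, hl2, map_smul, hl2, smul_smul])
    (by rw [Module.End.mul_apply, hl3, map_smul, hl3, smul_smul])
  rw [t1, t2] at htC
  -- algebra
  have hfin : l0 = 1 ∧ l = 1 := by
    -- `a = l0 - l0²`, `b = l - l²` satisfy `a + 3 b = 0`, `a² = -3 a'`...
    have ha : (l0 - 1) * (l0 ^ 2 + l0 + 1) = 0 := by linear_combination hl03
    have hb : (l - 1) * (l ^ 2 + l + 1) = 0 := by linear_combination hl13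
    rcases mul_eq_zero.1 ha with h5 | h5 <;> rcases mul_eq_zero.1 hb with h6 | h6
    · exact ⟨by linear_combination h5, by linear_combination h6⟩
    · -- `l0 = 1`: `3 (l - l²) = 0`, `(l - l²)² = -3`
      have hl0 : l0 = 1 := by linear_combination h5
      have h7 : 3 * (l - l * l) = 0 := by rw [hl0] at htC; linear_combination htC
      have h8 : (l - l * l) ^ 2 = -3 := by linear_combination (l ^ 2 - 3 * l + 3) * h6
      have h9 : (3 : K) = 0 := by
        have : (3 : K) * (l - l * l) ^ 2 = 0 := by linear_combination (l - l * l) * h7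
        rw [h8] at this
        have h10 : (3 : K) * 3 = 0 := by linear_combination -this
        exact (mul_self_eq_zero.1 h10)
      have h10 : (l - 1) ^ 2 = 0 := by linear_combination h6 - l * h9
      have h11 : l = 1 := by linear_combination pow_eq_zero_iff (two_ne_zero) |>.1 h10
      exact ⟨hl0, h11⟩
    · have hl : l = 1 := by linear_combination h6
      have h7 : l0 - l0 * l0 = 0 := by rw [hl] at htC; linear_combination htC
      have h8 : l0 * (1 - l0) = 0 := by linear_combination h7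
      rcases mul_eq_zero.1 h8 with h9 | h9
      · exfalso
        rw [h9] at hl03
        norm_num at hl03
      · exact ⟨by linear_combination -h9, hl⟩
    · have h7 : (l0 - l0 * l0) + 3 * (l - l * l) = 0 := by linear_combination htC
      have h8 : (l - l * l) ^ 2 = -3 := by linear_combination (l ^ 2 - 3 * l + 3) * h6
      have h9 : (l0 - l0 * l0) ^ 2 = -3 := by linear_combination (l0 ^ 2 - 3 * l0 + 3) * h5
      have h10 : (8 : K) * 3 = 0 := by
        have : (l0 - l0 * l0) ^ 2 = 9 * (l - l * l) ^ 2 := by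
          have h11 : l0 - l0 * l0 = -(3 * (l - l * l)) := by linear_combination h7
          rw [h11]; ring
        rw [h8, h9] at this
        linear_combination this
      have h3 : (3 : K) = 0 := by
        have h11 : (8 : K) = 2 * 2 * 2 := by norm_num
        rw [h11] at h10
        rcases mul_eq_zero.1 h10 with h12 | h12
        · exact absurd h12 (mul_ne_zero (mul_ne_zero h2 h2) h2)
        · exact h12
      have h12 : (l - 1) ^ 2 = 0 := by linear_combination h6 - l * h3
      have h13 : (l0 - 1) ^ 2 = 0 := by linear_combination h5 - l0 * h3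
      exact ⟨by linear_combination pow_eq_zero_iff (two_ne_zero) |>.1 h13,
        by linear_combination pow_eq_zero_iff (two_ne_zero) |>.1 h12⟩
  apply hC1
  apply B.ext
  intro i
  fin_cases i
  · change C (B 0) = B 0
    rw [hB0, hl0, hfin.1, one_smul]
  · change C (B 1) = B 1
    rw [hB1, hl, hfin.2, one_smul]
  · change C (B 2) = B 2
    rw [hB2, hl2, hfin.2, one_smul]
  · change C (B 3) = B 3
    rw [hB3, hl3, hfin.2, one_smul]

end Lin

end Cfsg.Agent.H908
end

-- part: H908/NoTrivL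
section
/-!
# Trivial centre: `L₂(7)` has no absolutely irreducible representation of degree four (characteristic not seven)
-/

set_option autoImplicit false
set_option linter.unusedSectionVars false

namespace Cfsg.Agent.H908

open Cfsg Cfsg.Geo Module
open scoped MatrixGroups commutatorElement

section Lin

variable {K : Type*} [Field K] {V : Type*} [AddCommGroup V] [Module K V] [FiniteDimensional K V]

/-- The fixed vector and the fixed functional of the Frobenius group `7:3`. -/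
theorem exists_fix (h7 : (7 : K) ≠ 0) (h4 : finrank K V = 4) {X D : End K V} (hX : X ^ 7 = 1) (hD : D ^ 3 = 1)
    (hDX : D * X = X ^ 2 * D) (hdX : LinearMap.det X = 1) (hdD : LinearMap.det D = 1) {ζ : K} {v : V}
    (hζ : ζ ^ 7 = 1) (hζ1 : ζ ≠ 1) (h0 : X v = ζ • v) (h1 : X (D v) = ζ ^ 4 • D v)
    (h2 : X (D (D v)) = ζ ^ 2 • D (D v)) (hli : LinearIndependent K ![v, D v, D (D v)]) :
    ∃ (f : V →ₗ[K] K) (w : V), f w = 1 ∧ (∀ z, f (X z) = f z) ∧ (∀ z, f (D z) = f z) ∧ X w = w ∧ D w = w ∧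
      (∀ z, ∑ k ∈ Finset.range 7, ζ ^ (4 * k) • (X ^ k) z = 0) := by
  -- a fourth basis vector
  obtain ⟨u, hu⟩ : ∃ u : V, LinearIndependent K ![u, v, D v, D (D v)] := by
    have hlt : Submodule.span K (Set.range ![v, D v, D (D v)]) ≠ ⊤ := by
      intro htop
      have h5 := finrank_span_eq_card hli
      rw [htop, finrank_top, h4] at h5
      simp at h5
    obtain ⟨u, -, hu⟩ := SetLike.exists_of_lt (lt_top_iff_ne_top.2 hlt)
    refine ⟨u, ?_⟩
    rw [show (![u, v, D v, D (D v)] : Fin 4 → V) = Fin.cons u ![v, D v, D (D v)] from rfl,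
      linearIndependent_finCons]
    exact ⟨hli, hu⟩
  let B : Basis (Fin 4) K V := basisOfLinearIndependentOfCardEqFinrank hu (by rw [h4]; simp)
  have hB0 : B 0 = u := by simp [B]
  have hB1 : B 1 = v := by simp [B]
  have hB2 : B 2 = D v := by simp [B]
  have hB3 : B 3 = D (D v) := by simp [B]
  have hDDD : ∀ z, D (D (D z)) = z := by
    intro z
    have := congrArg (fun z' : End K V => z' z) hD
    simpa only [pow_succ, Module.End.mul_apply, _root_.pow_zero, _root_.one_mul, _root_.Module.End.mul_apply, _root_.Module.End.one_apply] using this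
  have hc : ∀ (A : End K V) (i j), LinearMap.toMatrix B B A i j = B.repr (A (B j)) i :=
    fun A i j => LinearMap.toMatrix_apply _ _ _ _ _
  -- the functional
  set! f : V →ₗ[K] K := B.coord 0 with hf
  have fu : f u = 1 := by rw [hf, Basis.coord_apply, ← hB0, B.repr_self]; simp
  have fv : f v = 0 := by rw [hf, Basis.coord_apply, ← hB1, B.repr_self]; simp
  have fDv : f (D v) = 0 := by rw [hf, Basis.coord_apply, ← hB2, B.repr_self]; simp
  have fDDv : f (D (D v)) = 0 := by rw [hf, Basis.coord_apply, ← hB3, B.repr_self]; simp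
  -- `f (X u) = 1`
  have fXu : f (X u) = 1 := by
    have c1 : ∀ i, LinearMap.toMatrix B B X i 1 = if i = 1 then ζ else 0 := by
      intro i
      rw [hc, hB1, h0, ← hB1, map_smul, B.repr_self, Finsupp.smul_apply, Finsupp.single_apply, smul_eq_mul]
      simp only [eq_comm, mul_ite, mul_one, mul_zero]
    have c2 : ∀ i, LinearMap.toMatrix B B X i 2 = if i = 2 then ζ ^ 4 else 0 := by
      intro i
      rw [hc, hB2, h1, ← hB2, map_smul, B.repr_self, Finsupp.smul_apply, Finsupp.single_apply, smul_eq_mul]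
      simp only [eq_comm, mul_ite, mul_one, mul_zero]
    have c3 : ∀ i, LinearMap.toMatrix B B X i 3 = if i = 3 then ζ ^ 2 else 0 := by
      intro i
      rw [hc, hB3, h2, ← hB3, map_smul, B.repr_self, Finsupp.smul_apply, Finsupp.single_apply, smul_eq_mul]
      simp only [eq_comm, mul_ite, mul_one, mul_zero]
    rw [← LinearMap.det_toMatrix B] at hdX
    set M := LinearMap.toMatrix B B X with hM
    have hdet' : M.det = M 0 0 * ζ ^ 7 := by
      have hMM : M = !![M 0 0, 0, 0, 0; M 1 0, ζ, 0, 0; M 2 0, 0, ζ ^ 4, 0; M 3 0, 0, 0, ζ ^ 2] := by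
        ext i j
        fin_cases j
        · fin_cases i <;> rfl
        · have := c1 i
          fin_cases i <;> simpa using this
        · have := c2 i
          fin_cases i <;> simpa using this
        · have := c3 i
          fin_cases i <;> simpa using this
      rw [hMM, Matrix.det_succ_row_zero, Fin.sum_univ_four]
      simp only [Matrix.det_fin_three, Fin.succAbove, _root_.Nat.succ_eq_add_one, _root_.Nat.reduceAdd, _root_.Fin.isValue, _root_.Fin.coe_ofNat_eq_mod, _root_.Nat.zero_mod, _root_.pow_zero, _root_.Matrix.of_apply, _root_.Matrix.cons_val', _root_.Matrix.cons_val_zero, _root_.Matrix.cons_val_fin_one, _root_.one_mul, _root_.Fin.succAbove_zero, _root_.Matrix.det_fin_three, _root_.Matrix.submatrix_apply, _root_.Fin.succ_zero_eq_one, _root_.Matrix.cons_val_one, _root_.Fin.succ_one_eq_two, _root_.Matrix.cons_val, _root_.Fin.reduceSucc, _root_.MulZeroClass.mul_zero, _root_.sub_zero, _root_.MulZeroClass.zero_mul, _root_.add_zero, _root_.Nat.one_mod, _root_.pow_one,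 _root_.Fin.succAbove, _root_.Fin.castSucc_zero, _root_.zero_lt_one, ↓ _root_.reduceIte, _root_.Fin.castSucc_one, _root_.lt_self_iff_false, _root_.Fin.reduceCastSucc, _root_.Fin.lt_one_iff, _root_.Fin.reduceEq, _root_.Nat.reduceMod, _root_.even_two, _root_.Even.neg_pow, _root_.one_pow, _root_.Fin.reduceLT, _root_.sub_self, _root_.zero_sub, _root_.mul_neg, _root_.neg_zero, _root_.Nat.mod_succ, _root_.zero_add, _root_.mul_eq_mul_left_iff]
      left
      ring
    have h5 : M 0 0 = f (X u) := by rw [hM, hc, hB0, hf, Basis.coord_apply]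
    rw [hdX, hζ, mul_one, h5] at hdet'
    exact hdet'.symm
  have fDu : f (D u) = 1 := by
    have c1 : ∀ i, LinearMap.toMatrix B B D i 1 = if i = 2 then 1 else 0 := by
      intro i
      rw [hc, hB1, ← hB2, B.repr_self, Finsupp.single_apply]
      simp only [eq_comm]
    have c2 : ∀ i, LinearMap.toMatrix B B D i 2 = if i = 3 then 1 else 0 := by
      intro i
      rw [hc, hB2, ← hB3, B.repr_self, Finsupp.single_apply]
      simp only [eq_comm]
    have c3 : ∀ i, LinearMap.toMatrix B B D i 3 = if i = 1 then 1 else 0 := by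
      intro i
      rw [hc, hB3, hDDD, ← hB1, B.repr_self, Finsupp.single_apply]
      simp only [eq_comm]
    rw [← LinearMap.det_toMatrix B] at hdD
    set M := LinearMap.toMatrix B B D with hM
    have hdet' : M.det = M 0 0 := by
      have hMM : M = !![M 0 0, 0, 0, 0; M 1 0, 0, 0, 1; M 2 0, 1, 0, 0; M 3 0, 0, 1, 0] := by
        ext i j
        fin_cases j
        · fin_cases i <;> rfl
        · have := c1 i
          fin_cases i <;> simpa using this
        · have := c2 i
          fin_cases i <;> simpa using this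
        · have := c3 i
          fin_cases i <;> simpa using this
      rw [hMM, Matrix.det_succ_row_zero, Fin.sum_univ_four]
      simp only [Matrix.det_fin_three, Fin.succAbove, _root_.Nat.succ_eq_add_one, _root_.Nat.reduceAdd, _root_.Fin.isValue, _root_.Fin.coe_ofNat_eq_mod, _root_.Nat.zero_mod, _root_.pow_zero, _root_.Matrix.of_apply, _root_.Matrix.cons_val', _root_.Matrix.cons_val_zero, _root_.Matrix.cons_val_fin_one, _root_.one_mul, _root_.Fin.succAbove_zero, _root_.Matrix.det_fin_three, _root_.Matrix.submatrix_apply, _root_.Fin.succ_zero_eq_one, _root_.Matrix.cons_val_one, _root_.Fin.succ_one_eq_two, _root_.Matrix.cons_val, _root_.MulZeroClass.mul_zero, _root_.Fin.reduceSucc, _root_.mul_one, _root_.sub_self, _root_.add_zero, _root_.zero_add, _root_.sub_zero, _root_.Nat.one_mod, _root_.pow_one, _root_.Fin.succAbove, _root_.Fin.castSucc_zero, _root_.zero_lt_one, ↓ _root_.reduceIte, _root_.Fin.castSucc_one, _root_.lt_self_iff_false, _root_.Fin.reduceCastSucc,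 _root_.Fin.lt_one_iff, _root_.Fin.reduceEq, _root_.MulZeroClass.zero_mul, _root_.Nat.reduceMod, _root_.even_two, _root_.Even.neg_pow, _root_.one_pow, _root_.Fin.reduceLT, _root_.zero_sub, _root_.mul_neg, _root_.neg_zero, _root_.Nat.mod_succ]
    have h5 : M 0 0 = f (D u) := by rw [hM, hc, hB0, hf, Basis.coord_apply]
    rw [hdD, h5] at hdet'
    exact hdet'.symm
  have hext : ∀ g₁ g₂ : V →ₗ[K] K, g₁ u = g₂ u → g₁ v = g₂ v → g₁ (D v) = g₂ (D v) → g₁ (D (D v)) = g₂ (D (D v)) →
      g₁ = g₂ := by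
    intro g₁ g₂ e0 e1 e2 e3
    apply B.ext
    intro i
    fin_cases i
    · change g₁ (B 0) = g₂ (B 0); rwa [hB0]
    · change g₁ (B 1) = g₂ (B 1); rwa [hB1]
    · change g₁ (B 2) = g₂ (B 2); rwa [hB2]
    · change g₁ (B 3) = g₂ (B 3); rwa [hB3]
  have hfX : ∀ z, f (X z) = f z := by
    have : f ∘ₗ X = f := by
      apply hext
      · rw [LinearMap.comp_apply, fXu, fu]
      · rw [LinearMap.comp_apply, h0, map_smul, fv, smul_zero]
      · rw [LinearMap.comp_apply, h1, map_smul, fDv, smul_zero]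
      · rw [LinearMap.comp_apply, h2, map_smul, fDDv, smul_zero]
    intro z
    rw [← LinearMap.comp_apply, this]
  have hfD : ∀ z, f (D z) = f z := by
    have : f ∘ₗ D = f := by
      apply hext
      · rw [LinearMap.comp_apply, fDu, fu]
      · rw [LinearMap.comp_apply, fDv, fv]
      · rw [LinearMap.comp_apply, fDDv, fDv]
      · rw [LinearMap.comp_apply, hDDD, fv, fDDv]
    intro z
    rw [← LinearMap.comp_apply, this]
  -- sums
  have hX7 : ∀ z, X (X (X (X (X (X (X z)))))) = z := by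
    intro z
    have := congrArg (fun z' : End K V => z' z) hX
    simpa only [pow_succ, Module.End.mul_apply, _root_.pow_zero, _root_.one_mul, _root_.Module.End.mul_apply, _root_.Module.End.one_apply] using this
  have hDX' : ∀ z, D (X z) = X (X (D z)) := by
    intro z
    have := congrArg (fun z' : End K V => z' z) hDX
    simpa [pow_succ, Module.End.mul_apply] using this
  set! E : V → V := fun z => z + X z + X (X z) + X (X (X z)) + X (X (X (X z))) + X (X (X (X (X z)))) +
    X (X (X (X (X (X z))))) with hE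
  have hXE : ∀ z, X (E z) = E z := by
    intro z
    simp only [hE, map_add]
    rw [hX7]; abel
  have hDE : ∀ z, D (E z) = E (D z) := by
    intro z
    simp only [hE, map_add, hDX', hX7]
    abel
  have geom : ∀ ω : K, ω ^ 7 = 1 → ω ≠ 1 → 1 + ω + ω ^ 2 + ω ^ 3 + ω ^ 4 + ω ^ 5 + ω ^ 6 = 0 := by
    intro ω h h'
    have : (ω - 1) * (1 + ω + ω ^ 2 + ω ^ 3 + ω ^ 4 + ω ^ 5 + ω ^ 6) = 0 := by linear_combination h
    exact (mul_eq_zero.1 this).resolve_left (sub_ne_zero.2 h')
  have hp : ∀ k : ℕ, ¬ 7 ∣ k → ζ ^ k ≠ 1 := by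
    intro k hk h
    have h7' : Fact (Nat.Prime 7) := ⟨by norm_num⟩
    have ho : orderOf ζ = 7 := orderOf_eq_prime hζ hζ1
    exact hk (by rw [← ho]; exact orderOf_dvd_of_pow_eq_one h)
  have hkill : ∀ {z : V} {ω : K}, X z = ω • z → ω ^ 7 = 1 → ω ≠ 1 → E z = 0 := by
    intro z ω hz h h'
    simp only [hE, hz, map_smul, smul_smul]
    have := geom ω h h'
    have h5 : (1 + ω + ω ^ 2 + ω ^ 3 + ω ^ 4 + ω ^ 5 + ω ^ 6) • z = 0 := by rw [this, zero_smul]
    rw [← h5]
    module
  have hEadd : ∀ a b, E (a + b) = E a + E b := by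
    intro a b; simp only [hE, map_add]; abel
  have hEsmul : ∀ (c : K) a, E (c • a) = c • E a := by
    intro c a; simp only [hE, map_smul, smul_add]
  have hEv : E v = 0 := hkill h0 hζ hζ1
  have hEDv : E (D v) = 0 := hkill h1 (by rw [← pow_mul, mul_comm, pow_mul, hζ, one_pow]) (hp 4 (by norm_num))
  have hEDDv : E (D (D v)) = 0 := hkill h2 (by rw [← pow_mul, mul_comm, pow_mul, hζ, one_pow]) (hp 2 (by norm_num))
  have hexp : ∀ z, ∃ a1 a2 a3 : K, z = f z • u + a1 • v + a2 • D v + a3 • D (D v) := by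
    intro z
    refine ⟨B.repr z 1, B.repr z 2, B.repr z 3, ?_⟩
    conv_lhs => rw [← B.sum_repr z]
    rw [Fin.sum_univ_four, hB0, hB1, hB2, hB3, hf, Basis.coord_apply]
  have hEz : ∀ z, E z = f z • E u := by
    intro z
    obtain ⟨a1, a2, a3, hz⟩ := hexp z
    conv_lhs => rw [hz]
    rw [hEadd, hEadd, hEadd, hEsmul, hEsmul, hEsmul, hEsmul, hEv, hEDv, hEDDv]
    simp
  have hfE : f (E u) = 7 := by
    simp only [hE, map_add, hfX, fu]
    norm_num
  refine ⟨f, (7 : K)⁻¹ • E u, ?_, hfX, hfD, ?_, ?_, ?_⟩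
  · rw [map_smul, hfE, smul_eq_mul, inv_mul_cancel₀ h7]
  · rw [map_smul, hXE]
  · rw [map_smul, hDE, hEz (D u), fDu, one_smul]
  · -- the value `ζ³` is not an eigenvalue
    intro z
    have hsum : ∀ {z : V} {ω : K}, X z = ω • z → (ζ ^ 4 * ω) ^ 7 = 1 → ζ ^ 4 * ω ≠ 1 →
        ∑ k ∈ Finset.range 7, ζ ^ (4 * k) • (X ^ k) z = 0 := by
      intro z ω hz h h'
      have hk : ∀ k : ℕ, (X ^ k) z = ω ^ k • z := by
        intro k
        induction k with
        | zero => simp
        | succ k ih => rw [pow_succ', Module.End.mul_apply, ih, map_smul, hz, smul_smul, pow_succ]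
      have := geom _ h h'
      simp only [hk, smul_smul, Finset.sum_range_succ, Finset.sum_range_zero]
      have h5 : (1 + (ζ ^ 4 * ω) + (ζ ^ 4 * ω) ^ 2 + (ζ ^ 4 * ω) ^ 3 + (ζ ^ 4 * ω) ^ 4 + (ζ ^ 4 * ω) ^ 5 +
        (ζ ^ 4 * ω) ^ 6) • z = 0 := by rw [this, zero_smul]
      refine Eq.trans ?_ h5
      module
    have hw : X (E u) = (1 : K) • E u := by rw [hXE, one_smul]
    have hz : ∃ a0 a1 a2 a3 : K, z = a0 • E u + a1 • v + a2 • D v + a3 • D (D v) := by
      obtain ⟨b1, b2, b3, hb⟩ := hexp (E u)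
      obtain ⟨a1, a2, a3, ha⟩ := hexp z
      rw [hfE] at hb
      have hu' : u = (7 : K)⁻¹ • (E u - b1 • v - b2 • D v - b3 • D (D v)) := by
        have : E u - b1 • v - b2 • D v - b3 • D (D v) = (7 : K) • u := by
          conv_lhs => rw [hb]
          module
        rw [this, smul_smul, inv_mul_cancel₀ h7, one_smul]
      refine ⟨f z * 7⁻¹, a1 - f z * 7⁻¹ * b1, a2 - f z * 7⁻¹ * b2, a3 - f z * 7⁻¹ * b3, ?_⟩
      conv_lhs => rw [ha, hu']
      module
    obtain ⟨a0, a1, a2, a3, hz⟩ := hz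
    have hpw : ∀ k : ℕ, (ζ ^ k) ^ 7 = 1 := fun k => by rw [← pow_mul, mul_comm, pow_mul, hζ, one_pow]
    have s0 := hsum hw (by rw [mul_one]; exact hpw 4) (by rw [mul_one]; exact hp 4 (by norm_num))
    have s1 := hsum h0 (by rw [← pow_succ]; exact hpw 5) (by rw [← pow_succ]; exact hp 5 (by norm_num))
    have s2 := hsum h1 (by rw [← pow_add]; exact hpw 8) (by rw [← pow_add]; exact hp 8 (by norm_num))
    have s3 := hsum h2 (by rw [← pow_add]; exact hpw 6) (by rw [← pow_add]; exact hp 6 (by norm_num))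
    have hlin : ∀ (a b : K) (x y : V), ∑ k ∈ Finset.range 7, ζ ^ (4 * k) • (X ^ k) (a • x + b • y) =
        a • (∑ k ∈ Finset.range 7, ζ ^ (4 * k) • (X ^ k) x) + b • (∑ k ∈ Finset.range 7, ζ ^ (4 * k) • (X ^ k) y) := by
      intro a b x y
      rw [Finset.smul_sum, Finset.smul_sum, ← Finset.sum_add_distrib]
      refine Finset.sum_congr rfl fun k _ => ?_
      rw [map_add, map_smul, map_smul]
      module
    have e1 := hlin a0 a1 (E u) v
    have e2 := hlin 1 a2 (a0 • E u + a1 • v) (D v)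
    have e3 := hlin 1 a3 (a0 • E u + a1 • v + a2 • D v) (D (D v))
    rw [s0, s1, smul_zero, smul_zero, add_zero] at e1
    rw [one_smul, s2, e1, smul_zero, smul_zero, add_zero] at e2
    rw [one_smul, s3, e2, smul_zero, smul_zero, add_zero] at e3
    rw [hz]
    exact e3

end Lin

section Group

variable {F : Type*} [Field F] {P : Subgroup (GL (Fin 4) F)}

/-- the endomorphisms over `K` are spanned by an absolutely irreducible group over `F`. -/
theorem span_ext (K : Type*) [Field K] [Algebra F K] (hP : ActsAbsolutelyIrreducibly (matrixSet P)) :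
    Submodule.span K (Set.range fun g : P => ext K (mt P g)) = ⊤ := by
  have h1 : ∀ M : Matrix (Fin 4) (Fin 4) F, ext K M ∈ Submodule.span K (Set.range fun g : P => ext K (mt P g)) := by
    intro M
    have hM : M ∈ Submodule.span F (Set.range ((Units.coeHom (Matrix (Fin 4) (Fin 4) F)).comp P.subtype)) := by
      rw [H906.span_subtype hP]; trivial
    refine Submodule.span_induction ?_ ?_ ?_ ?_ hM
    · rintro _ ⟨g, rfl⟩
      exact Submodule.subset_span ⟨g, rfl⟩
    · rw [map_zero]; exact Submodule.zero_mem _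
    · intro x y _ _ hx hy
      rw [map_add]; exact Submodule.add_mem _ hx hy
    · intro c x _ hx
      rw [ext_smul]; exact Submodule.smul_mem _ _ hx
  rw [eq_top_iff]
  intro A _
  have h2 : A = ∑ i, ∑ j, (LinearMap.toMatrix' A i j) • ext K (Matrix.single i j (1 : F)) := by
    apply LinearMap.toMatrix'.injective
    rw [map_sum]
    simp only [map_sum, map_smul, ext_apply, LinearMap.toMatrix'_toLin']
    have : ∀ i j : Fin 4, (Matrix.single i j (1 : F)).map (algebraMap F K) = Matrix.single i j (1 : K) := by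
      intro i j
      rw [Matrix.map_single, map_one]
    simp only [this]
    conv_lhs => rw [Matrix.matrix_eq_sum_single (LinearMap.toMatrix' A)]
    simp only [Matrix.smul_single, _root_.LinearMap.toMatrix'_apply, _root_.Matrix.smul_single, _root_.smul_eq_mul, _root_.mul_one]
  rw [h2]
  exact Submodule.sum_mem _ fun i _ => Submodule.sum_mem _ fun j _ => Submodule.smul_mem _ _ (h1 _)

/-- no fixed vector -/
theorem no_fixed (K : Type*) [Field K] [Algebra F K] (hP : ActsAbsolutelyIrreducibly (matrixSet P))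
    {w : Fin 4 → K} (hw : w ≠ 0) (hfix : ∀ g : P, ext K (mt P g) w = w) : False := by
  have h1 : ∀ A : Module.End K (Fin 4 → K), ∃ c : K, A w = c • w := by
    intro A
    have hA : A ∈ Submodule.span K (Set.range fun g : P => ext K (mt P g)) := by rw [span_ext K hP]; trivial
    refine Submodule.span_induction ?_ ?_ ?_ ?_ hA
    · rintro _ ⟨g, rfl⟩
      exact ⟨1, by rw [one_smul]; exact hfix g⟩
    · exact ⟨0, by simp⟩
    · rintro x y _ _ ⟨c, hc⟩ ⟨d, hd⟩
      exact ⟨c + d, by rw [LinearMap.add_apply, hc, hd, add_smul]⟩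
    · rintro a x _ ⟨c, hc⟩
      exact ⟨a * c, by rw [LinearMap.smul_apply, hc, smul_smul]⟩
  obtain ⟨i, hi⟩ : ∃ i, w i ≠ 0 := by
    by_contra hcon
    push Not at hcon
    exact hw (funext hcon)
  -- the map `z ↦ (w i)⁻¹ z_i e_j`
  obtain ⟨j, hj⟩ := exists_ne i
  obtain ⟨c, hc⟩ := h1 ((LinearMap.single K (fun _ => K) j).comp (LinearMap.proj i))
  have h2 := congrFun hc i
  have h3 := congrFun hc j
  simp only [LinearMap.comp_apply, LinearMap.proj_apply, LinearMap.coe_single, Pi.single_eq_same, Pi.smul_apply,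
    smul_eq_mul] at h2 h3
  rw [Pi.single_eq_of_ne (Ne.symm hj)] at h2
  rcases mul_eq_zero.1 h2.symm with h4 | h4
  · rw [h4, zero_mul] at h3
    exact hi h3
  · exact hi h4

/-- no invariant functional on an orbit -/
theorem eq_zero_of_functional (K : Type*) [Field K] [Algebra F K] (hP : ActsAbsolutelyIrreducibly (matrixSet P))
    {f : (Fin 4 → K) →ₗ[K] K} (hf : f ≠ 0) {z : Fin 4 → K} (hz : ∀ g : P, f (ext K (mt P g) z) = 0) : z = 0 := by
  by_contra hz0
  have h1 : ∀ A : Module.End K (Fin 4 → K), f (A z) = 0 := by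
    intro A
    have hA : A ∈ Submodule.span K (Set.range fun g : P => ext K (mt P g)) := by rw [span_ext K hP]; trivial
    refine Submodule.span_induction ?_ ?_ ?_ ?_ hA
    · rintro _ ⟨g, rfl⟩
      exact hz g
    · simp
    · intro x y _ _ hx hy
      rw [LinearMap.add_apply, map_add, hx, hy, add_zero]
    · intro a x _ hx
      rw [LinearMap.smul_apply, map_smul, hx, smul_zero]
  apply hf
  ext y
  obtain ⟨i, hi⟩ : ∃ i, z i ≠ 0 := by
    by_contra hcon
    push Not at hcon
    exact hz0 (funext hcon)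
  have h2 := h1 ((LinearMap.single K (fun _ => K) y).comp (LinearMap.proj i))
  simp only [LinearMap.comp_apply, LinearMap.proj_apply, LinearMap.coe_single] at h2
  have h3 : (Pi.single y (z i) : Fin 4 → K) = z i • Pi.single y 1 := by
    rw [← Pi.single_smul, smul_eq_mul, mul_one]
  rw [h3, map_smul, smul_eq_mul] at h2
  simpa only [_root_.LinearMap.coe_comp, _root_.LinearMap.coe_single, _root_.Function.comp_apply, _root_.LinearMap.zero_comp, _root_.LinearMap.zero_apply] using (mul_eq_zero.1 h2).resolve_left hi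

variable {T : Type*} [Group T] {φ : P →* T}

/-- **`L₂(7)`, trivial centre.** -/
theorem no_fano [Finite F] (h : Cov P φ) (hinj : Function.Injective φ) (hP : ActsAbsolutelyIrreducibly (matrixSet P))
    (h7 : (7 : F) ≠ 0) (D : Fano T)
    (bru : ∀ t : T, (∃ k l : ℕ, t = D.x ^ k * D.d ^ l) ∨ ∃ k l m : ℕ, t = D.x ^ k * D.d ^ l * D.s * D.x ^ m)
    (hs : ∀ m : ℕ, 0 < m → m < 7 → ¬ ∃ k l : ℕ, D.s * D.x ^ m * D.s = D.x ^ k * D.d ^ l) : False := by
  classical
  obtain ⟨X, hX⟩ := h.surj D.x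
  obtain ⟨E, hE⟩ := h.surj D.d
  obtain ⟨S, hS⟩ := h.surj D.s
  have hX7 : X ^ 7 = 1 := hinj (by rw [map_pow, hX, D.hx, map_one])
  have hX1 : X ≠ 1 := by
    intro h'
    apply D.hx1
    rw [← hX, h', map_one]
  have hE3 : E ^ 3 = 1 := hinj (by rw [map_pow, hE, D.hd, map_one])
  have hEX : E * X = X ^ 2 * E := hinj (by
    rw [map_mul, map_mul, map_pow, hE, hX, ← D.hdx]
    group)
  have hSS : S * S = 1 := hinj (by rw [map_mul, hS, D.hs, map_one])
  set! K := AlgebraicClosure F
  set! e := ext (F := F) K with he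
  set! ρ : P → Module.End K (Fin 4 → K) := fun g => e (mt P g) with hρ
  have ρmul : ∀ a b : P, ρ (a * b) = ρ a * ρ b := fun a b => by rw [hρ]; simp only [map_mul]
  have ρone : ρ 1 = 1 := by rw [hρ]; simp only [map_one]
  have ρpow : ∀ (a : P) (n : ℕ), ρ (a ^ n) = ρ a ^ n := fun a n => by rw [hρ]; simp only [map_pow]
  have h7K : (7 : K) ≠ 0 := by
    have := (map_ne_zero (algebraMap F K)).2 h7
    rwa [map_ofNat] at this
  have h4 : finrank K (Fin 4 → K) = 4 := by simp
  have hdet : ∀ g : P, LinearMap.det (ρ g) = 1 := fun g => by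
    rw [hρ]
    simp only
    rw [he, det_ext, h.det, map_one]
  obtain ⟨ζ, v, hζ, hζ1, -, h0, h1, h2, hli⟩ := exists_seven (K := K) (X := ρ X) (D := ρ E) h7K
    (by rw [← ρpow, hX7, ρone])
    (by
      intro h'
      apply hX1
      apply mt_injective
      apply ext_injective K
      rw [map_one, map_one]
      exact h')
    (by rw [← ρpow, hE3, ρone]) (by rw [← ρmul, hEX, ρmul, ρpow])
  obtain ⟨f, w, fw, fX, fE, Xw, Ew, hsum⟩ := exists_fix h7K h4 (X := ρ X) (D := ρ E)
    (by rw [← ρpow, hX7, ρone]) (by rw [← ρpow, hE3, ρone]) (by rw [← ρmul, hEX, ρmul, ρpow]) (hdet X) (hdet E)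
    hζ hζ1 h0 h1 h2 hli
  have fXk : ∀ (k : ℕ) z, f ((ρ X ^ k) z) = f z := by
    intro k
    induction k with
    | zero => intro z; simp
    | succ k ih => intro z; rw [pow_succ', Module.End.mul_apply, fX, ih]
  have fEk : ∀ (k : ℕ) z, f ((ρ E ^ k) z) = f z := by
    intro k
    induction k with
    | zero => intro z; simp
    | succ k ih => intro z; rw [pow_succ', Module.End.mul_apply, fE, ih]
  have wXk : ∀ k : ℕ, (ρ X ^ k) w = w := by
    intro k
    induction k with
    | zero => simp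
    | succ k ih => rw [pow_succ, Module.End.mul_apply, Xw, ih]
  have wEk : ∀ k : ℕ, (ρ E ^ k) w = w := by
    intro k
    induction k with
    | zero => simp
    | succ k ih => rw [pow_succ, Module.End.mul_apply, Ew, ih]
  set! β := f (ρ S w) with hβ
  have val1 : ∀ g : P, (∃ k l : ℕ, φ g = D.x ^ k * D.d ^ l) → f (ρ g w) = 1 := by
    rintro g ⟨k, l, hg⟩
    have : g = X ^ k * E ^ l := hinj (by rw [hg, map_mul, map_pow, map_pow, hX, hE])
    rw [this, ρmul, ρpow, ρpow, Module.End.mul_apply, fXk, wEk, fw]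
  have val2 : ∀ g : P, (∃ k l m : ℕ, φ g = D.x ^ k * D.d ^ l * D.s * D.x ^ m) → f (ρ g w) = β := by
    rintro g ⟨k, l, m, hg⟩
    have : g = X ^ k * E ^ l * S * X ^ m := hinj (by
      rw [hg, map_mul, map_mul, map_mul, map_pow, map_pow, map_pow, hX, hE, hS])
    rw [this, ρmul, ρmul, ρmul, ρpow, ρpow, ρpow, Module.End.mul_apply, Module.End.mul_apply, Module.End.mul_apply,
      fXk, fEk, wXk]
  -- `β = 1`
  have hβ1 : β = 1 := by
    have h5 := hsum (ρ S w)
    have h6 := congrArg (fun z => f (ρ S z)) h5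
    simp only [map_sum, map_smul, map_zero] at h6
    have h8 : ∀ k ∈ Finset.range 7, ζ ^ (4 * k) • f (ρ S ((ρ X ^ k) (ρ S w))) =
        ζ ^ (4 * k) * (if k = 0 then 1 else β) := by
      intro k hk
      rw [smul_eq_mul]
      (with_reducible congr 1)
      have h9 : ρ S ((ρ X ^ k) (ρ S w)) = ρ (S * X ^ k * S) w := by
        rw [ρmul, ρmul, ρpow, Module.End.mul_apply, Module.End.mul_apply]
      rw [h9]
      split_ifs with h10
      · subst h10
        rw [pow_zero, mul_one, hSS, ρone, Module.End.one_apply, fw]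
      · apply val2
        have h11 : φ (S * X ^ k * S) = D.s * D.x ^ k * D.s := by rw [map_mul, map_mul, map_pow, hS, hX]
        rw [h11]
        exact (bru _).resolve_left (hs k (by omega) (Finset.mem_range.1 hk))
    rw [Finset.sum_congr rfl h8] at h6
    simp only [Finset.sum_range_succ, Finset.sum_range_zero] at h6
    norm_num only [_root_.pow_zero, _root_.ite_true, _root_.mul_one, _root_.zero_add, _root_.ite_false] at h6
    have h12 : (ζ ^ 4 - 1) * (1 + ζ ^ 4 + ζ ^ 8 + ζ ^ 12 + ζ ^ 16 + ζ ^ 20 + ζ ^ 24) = 0 := by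
      have : (ζ ^ 7) ^ 4 = 1 := by rw [hζ, one_pow]
      linear_combination this
    have h13 : ζ ^ 4 ≠ 1 := by
      intro h14
      apply hζ1
      have : ζ = (ζ ^ 4) ^ 2 * (ζ ^ 7)⁻¹ := by
        rw [hζ, inv_one, mul_one, ← pow_mul, show ζ ^ (4 * 2) = ζ ^ 7 * ζ by ring, hζ, one_mul]
      rw [this, h14, hζ]; simp
    have h14 := (mul_eq_zero.1 h12).resolve_left (sub_ne_zero.2 h13)
    linear_combination (-1) * h6 + β * h14
  have hall : ∀ g : P, f (ρ g w) = 1 := by
    intro g
    rcases bru (φ g) with h5 | h5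
    · exact val1 g h5
    · rw [val2 g h5, hβ1]
  have hf0 : f ≠ 0 := by
    intro h'
    rw [h'] at fw
    simp at fw
  have hw0 : w ≠ 0 := by
    intro h'
    rw [h', map_zero] at fw
    exact zero_ne_one fw
  refine no_fixed K hP hw0 (fun g => ?_)
  have h5 : ρ g w - w = 0 := by
    refine eq_zero_of_functional K hP hf0 (fun g' => ?_)
    rw [map_sub, map_sub]
    have h6 : ext K (mt P g') (ρ g w) = ρ (g' * g) w := by rw [ρmul, Module.End.mul_apply]
    rw [h6]
    change f (ρ (g' * g) w) - f (ρ g' w) = 0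
    rw [hall, hall, sub_self]
  exact sub_eq_zero.1 h5

end Group

end Cfsg.Agent.H908
end

-- part: H908/EndAlt
section
/-!
# Traces for `A₅`, `A₆`, `A₇`, `PSL₂(7)` in dimension four, odd characteristic
-/

set_option autoImplicit false
set_option linter.unusedSectionVars false

namespace Cfsg.Agent.H908

open Cfsg Cfsg.Geo Module
open scoped MatrixGroups commutatorElement

variable {F : Type*} [Field F] [Finite F] {P : Subgroup (GL (Fin 4) F)}

/-- `A₆`: all traces are real. -/
theorem a6_real (h2 : (2 : F) ≠ 0) {φ : P →* Alt.A6} (h : Cov P φ) : ∀ y : P, tr y⁻¹ = tr y := by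
  intro y
  refine h.dih_real h2 Alt.dih6 (fun _ => True) (fun y _ => ?_) (fun _ y _ => Alt.real_A6 _) y trivial
  rcases Alt.cls_A6 (φ y) with h1 | h1 | h1
  · exact Or.inl ⟨h1, Alt.real_A6 _⟩
  · exact Or.inr (Or.inl h1)
  · exact Or.inr (Or.inr h1)

/-- `A₅`: all traces are real. -/
theorem a5_real (h2 : (2 : F) ≠ 0) {φ : P →* Alt.A5} (h : Cov P φ) : ∀ y : P, tr y⁻¹ = tr y := by
  have hfin : Finite P := Cov.finite_P (P := P)
  obtain ⟨u, hu⟩ := h.surj Alt.a5
  obtain ⟨v, hv⟩ := h.surj Alt.b5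
  -- the Sylow 2-subgroup
  let D : Subgroup Alt.A5 :=
    { carrier := {t | ∃ i j : ℕ, t = Alt.a5 ^ i * Alt.b5 ^ j}
      mul_mem' := by
        rintro _ _ ⟨i, j, rfl⟩ ⟨i', j', rfl⟩
        have hc : Commute Alt.a5 Alt.b5 := by change Alt.a5 * Alt.b5 = Alt.b5 * Alt.a5; decide
        refine ⟨i + i', j + j', ?_⟩
        rw [pow_add, pow_add]
        calc Alt.a5 ^ i * Alt.b5 ^ j * (Alt.a5 ^ i' * Alt.b5 ^ j') = Alt.a5 ^ i * (Alt.b5 ^ j * Alt.a5 ^ i') * Alt.b5 ^ j' := by group
          _ = Alt.a5 ^ i * (Alt.a5 ^ i' * Alt.b5 ^ j) * Alt.b5 ^ j' := by rw [(hc.symm.pow_pow j i').eq]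
          _ = _ := by group
      one_mem' := ⟨0, 0, by simp⟩
      inv_mem' := by
        rintro _ ⟨i, j, rfl⟩
        have hc : Commute Alt.a5 Alt.b5 := by change Alt.a5 * Alt.b5 = Alt.b5 * Alt.a5; decide
        refine ⟨i, j, ?_⟩
        have h1 : (Alt.b5 ^ j)⁻¹ = Alt.b5 ^ j := by
          rw [inv_eq_iff_mul_eq_one, ← pow_add, ← two_mul, pow_mul, show Alt.b5 ^ 2 = 1 by decide, one_pow]
        have h2 : (Alt.a5 ^ i)⁻¹ = Alt.a5 ^ i := by
          rw [inv_eq_iff_mul_eq_one, ← pow_add, ← two_mul, pow_mul, show Alt.a5 ^ 2 = 1 by decide, one_pow]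
        rw [mul_inv_rev, h1, h2, (hc.symm.pow_pow j i).eq] }
  have haD : Alt.a5 ∈ D := ⟨1, 0, by simp⟩
  have hbD : Alt.b5 ∈ D := ⟨0, 1, by simp⟩
  have hD : IsPGroup 2 D := by
    rintro ⟨_, i, j, rfl⟩
    refine ⟨1, Subtype.ext ?_⟩
    have hc : Commute Alt.a5 Alt.b5 := by change Alt.a5 * Alt.b5 = Alt.b5 * Alt.a5; decide
    change (Alt.a5 ^ i * Alt.b5 ^ j) ^ 2 ^ 1 = 1
    rw [pow_one, (hc.pow_pow i j).mul_pow, ← pow_mul, ← pow_mul, mul_comm i, mul_comm j, pow_mul, pow_mul,
      show Alt.a5 ^ 2 = 1 by decide, show Alt.b5 ^ 2 = 1 by decide, one_pow, one_pow, one_mul]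
  have hidx : ¬ 2 ∣ D.index := by
    have hfac : Fact (Nat.Prime 2) := ⟨Nat.prime_two⟩
    obtain ⟨n, hn⟩ := IsPGroup.iff_card.1 hD
    have hn2 : 2 ≤ n := by
      by_contra hlt
      have hcard : Nat.card D ≤ 2 := by
        rw [hn]
        calc 2 ^ n ≤ 2 ^ 1 := Nat.pow_le_pow_right (by norm_num) (by omega)
          _ = 2 := by norm_num
      have h4 : Subgroup.zpowers Alt.a5 ≤ D := by rwa [Subgroup.zpowers_le]
      have h5 : Nat.card (Subgroup.zpowers Alt.a5) = 2 := by
        rw [Nat.card_zpowers]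
        exact Alt.order_of_pow Nat.prime_two (by decide) (by decide)
      have h7 : Subgroup.zpowers Alt.a5 = D := Subgroup.eq_of_le_of_card_ge h4 (by rw [h5]; exact hcard)
      have h8 : Alt.b5 ∈ Subgroup.zpowers Alt.a5 := by rw [h7]; exact hbD
      obtain ⟨k, hk⟩ := Subgroup.mem_zpowers_iff.1 h8
      rcases Int.even_or_odd' k with ⟨m, hm | hm⟩
      · rw [hm, zpow_mul, show Alt.a5 ^ (2 : ℤ) = 1 by decide, one_zpow] at hk
        exact absurd hk (by decide)
      · rw [hm, zpow_add, zpow_mul, show Alt.a5 ^ (2 : ℤ) = 1 by decide, one_zpow, one_mul, zpow_one] at hk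
        exact absurd hk (by decide)
    intro hdvd
    have h8 : Nat.card D * D.index = 4 * 15 := by rw [← Alt.card_A5, Subgroup.card_mul_index]
    obtain ⟨e, he⟩ := hdvd
    obtain ⟨f, hf⟩ : (4 : ℕ) ∣ Nat.card D := by
      rw [hn, show (4 : ℕ) = 2 ^ 2 by norm_num]
      exact pow_dvd_pow 2 hn2
    rw [hf, he] at h8
    have h9 : 15 = 2 * (f * e) := by linarith only [h8]
    omega
  have key : ∀ x : P, φ x = 1 → x = 1 ∨ x = ⁅v, u⁆ := by
    intro x hx
    refine ker_of_klein h.perf h.surj h.ker_le_center h.isPGroup_ker hD hidx (a := u) (b := v)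
      (by rwa [hu]) (by rwa [hv]) (by rw [hu, hv]; exact fun t ht => ht) (by rw [hu]; decide)
      (by rw [hu, hv]; decide) hx
  intro y
  by_cases hinj : Function.Injective φ
  · obtain ⟨g, hg⟩ := isConj_iff.1 (Alt.real_A5 (φ y))
    obtain ⟨x, rfl⟩ := h.surj g
    have : x * y * x⁻¹ = y⁻¹ := by
      apply hinj
      rw [map_mul, map_mul, map_inv, map_inv, hg]
    rw [← this, tr_conj]
  · -- the commutator is not trivial
    have hc1 : ⁅v, u⁆ ≠ 1 := by
      intro hc
      apply hinj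
      rw [injective_iff_map_eq_one]
      intro x hx
      rcases key x hx with h3 | h3
      · exact h3
      · rw [h3, hc]
    have anti : mt P v * mt P u = -(mt P u * mt P v) := by
      rcases h.comm_or_anti (x := v) (y := u) (by rw [hu, hv]; decide) (by rw [hv]; decide) with h3 | h3
      · exfalso
        apply hc1
        rw [commutatorElement_eq_one_iff_mul_comm]
        apply mt_injective
        rw [map_mul, map_mul, h3]
      · exact h3
    have hm1 : mt P ⁅v, u⁆ = -1 := by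
      have h3 : ⁅v, u⁆ = (v * u) * (u * v)⁻¹ := by rw [commutatorElement_def]; group
      rw [h3, map_mul, map_mul, anti, neg_mul, ← map_mul, ← map_mul, mul_inv_cancel, map_one]
    have hPm : Pm φ := by
      intro x hx
      rcases key x hx with h3 | h3
      · left; rw [h3, map_one]
      · right; rw [h3, hm1]
    rcases Alt.cls_A5 (φ y) with h3 | h3
    · exact h.tr_inv_of_odd hPm h3 (Alt.real_A5 _)
    · -- lifts of involutions have trace zero
      have hu0 : tr u = 0 := h.tr_zero_of_anti h2 (y := v) (by rw [anti, neg_neg])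
      have gen : ∀ y : P, IsConj Alt.a5 (φ y) → tr y = 0 := by
        intro y hy
        obtain ⟨g, hg⟩ := isConj_iff.1 hy
        obtain ⟨x, rfl⟩ := h.surj g
        have hk : φ (y * (x * u * x⁻¹)⁻¹) = 1 := by
          rw [map_mul, map_inv, map_mul, map_mul, map_inv, hu, hg, mul_inv_cancel]
        have hy' : y = (y * (x * u * x⁻¹)⁻¹) * (x * u * x⁻¹) := by group
        have h3 : tr y = tr u ∨ tr y = - tr u := by
          rcases hPm _ hk with h4 | h4
          · left
            rw [← tr_conj x u]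
            unfold tr
            conv_lhs => rw [hy', map_mul, h4, one_mul]
          · right
            rw [← tr_conj x u]
            unfold tr
            conv_lhs => rw [hy', map_mul, h4, neg_one_mul, Matrix.trace_neg]
        rcases h3 with h3 | h3
        · rw [h3, hu0]
        · rw [h3, hu0, neg_zero]
      rw [gen y h3, gen y⁻¹ (by
        rw [map_inv]
        have h4 := isConj_inv_inv h3
        rwa [show Alt.a5⁻¹ = Alt.a5 by decide] at h4)]

/-- `A₇` has no faithful representation of degree four in odd characteristic with trivial scalars. -/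
theorem a7_not_injective (h2 : (2 : F) ≠ 0) {φ : P →* Alt.A7} (h : Cov P φ) : ¬ Function.Injective φ := by
  intro hinj
  obtain ⟨u, hu⟩ := h.surj Alt.u7
  obtain ⟨w, hw⟩ := h.surj Alt.w7
  obtain ⟨c, hc⟩ := h.surj Alt.c3
  obtain ⟨d, hd⟩ := h.surj (Alt.mk (Equiv.swap 4 5 * Equiv.swap 5 6) (by decide))
  set! e := ext (F := F) F with he
  have eq : ∀ {a b : P}, φ a = φ b → e (mt P a) = e (mt P b) := fun hab => by rw [hinj hab]
  have mul : ∀ a b : P, e (mt P (a * b)) = e (mt P a) * e (mt P b) := fun a b => by rw [map_mul, map_mul]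
  have one : e (mt P 1) = 1 := by rw [map_one, map_one]
  have inj : ∀ {a b : P}, e (mt P a) = e (mt P b) → a = b := fun hab => mt_injective (ext_injective F hab)
  have tre : ∀ a : P, LinearMap.trace F _ (e (mt P a)) = tr a := fun a => by
    rw [he, trace_ext]; rfl
  have det : ∀ a : P, LinearMap.det (e (mt P a)) = 1 := fun a => by
    rw [he, det_ext, h.det, map_one]
  have h4 : finrank F (Fin 4 → F) = 4 := by simp
  refine no_three (K := F) (V := Fin 4 → F) h2 h4 (U := e (mt P u)) (W := e (mt P w)) (D := e (mt P d))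
    (D' := e (mt P d⁻¹)) (C := e (mt P c)) ?_ ?_ ?_ ?_ ?_ ?_ ?_ ?_ ?_ ?_ ?_ ?_ ?_ ?_
  · rw [← mul, ← one]; exact eq (by rw [map_mul, hu, map_one]; decide)
  · rw [← mul, ← one]; exact eq (by rw [map_mul, hw, map_one]; decide)
  · rw [← mul, ← mul]; exact eq (by rw [map_mul, map_mul, hu, hw]; decide)
  · rw [← mul, mul_inv_cancel, one]
  · rw [← mul, inv_mul_cancel, one]
  · rw [← mul, ← mul]; exact eq (by rw [map_mul, map_mul, hu, hw, hd]; decide)
  · rw [← mul, ← mul, ← mul]; exact eq (by rw [map_mul, map_mul, map_mul, hu, hw, hd]; decide)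
  · rw [← mul, ← mul]; exact eq (by rw [map_mul, map_mul, hu, hc]; decide)
  · rw [← mul, ← mul]; exact eq (by rw [map_mul, map_mul, hw, hc]; decide)
  · rw [← mul, ← mul]; exact eq (by rw [map_mul, map_mul, hd, hc]; decide)
  · rw [← mul, ← mul, ← one]; exact eq (by rw [map_mul, map_mul, hc, map_one]; decide)
  · intro h'
    rw [← one] at h'
    have := congrArg φ (inj h')
    rw [hc, map_one] at this
    exact absurd this (by decide)
  · apply inv_trace_zero h2 h4
    · rw [← mul, ← one]; exact eq (by rw [map_mul, hu, map_one]; decide)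
    · exact det u
    · intro h'
      rw [← one] at h'
      have := congrArg φ (inj h')
      rw [hu, map_one] at this
      exact absurd this (by decide)
    · intro h'
      have h5 : mt P u = -1 := by
        apply ext_injective F
        rw [map_neg, map_one]
        exact h'
      have h6 : φ u = 1 := (h.ker u).2 ⟨-1, by rw [h5, neg_one_smul]⟩
      rw [hu] at h6
      exact absurd h6 (by decide)
  · rw [← mul, tre, tre]
    have h5 : IsConj (φ c) (φ (c * c)) := by
      rw [map_mul, hc]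
      exact isConj_iff.2 ⟨Alt.mk (Equiv.swap 1 2 * Equiv.swap 3 4) (by decide), by decide⟩
    obtain ⟨g, hg⟩ := isConj_iff.1 h5
    obtain ⟨x, rfl⟩ := h.surj g
    have : x * c * x⁻¹ = c * c := by
      apply hinj
      rw [map_mul, map_mul, map_inv, hg]
    rw [← this, tr_conj]

/-- **`A₇`.** -/
theorem a7_traces (h2 : (2 : F) ≠ 0) {φ : P →* Alt.A7} (h : Cov P φ) (p : ℕ) [Fact p.Prime] [CharP F p]
    (y : P) (hy : (orderOf y).Coprime p) :
    (p = 7 → tr y⁻¹ = tr y) ∧ (p % 7 = 1 ∨ p % 7 = 2 ∨ p % 7 = 4 → tr y ^ p = tr y) ∧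
      (p % 7 = 3 ∨ p % 7 = 5 ∨ p % 7 = 6 → tr y ^ p = tr y⁻¹) :=
  h.seven_traces h2 Alt.seven (a7_not_injective h2 h) p y hy

end Cfsg.Agent.H908
end

-- part: H908/L7Five
section
/-!
# `PSL₂(7)`: the classes, and the traces of the elements of order three and seven in dimension four
-/

set_option autoImplicit false
set_option linter.unusedSectionVars false

namespace Cfsg.Agent.H908

open Cfsg Cfsg.Geo Module
open scoped MatrixGroups commutatorElement

namespace Psl7

theorem five (t : T) : t = 1 ∨ IsConj fano.i t ∨ IsConj fano.d t ∨ IsConj (fano.s * fano.i) t ∨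
    IsConj fano.x t ∨ (IsConj fano.x⁻¹ t :) := by
  have key : ∀ {a b c d : ZMod 7} {h}, (a + d = 0 ∨ a + d = -1 ∨ a + d = 2 ∨ a + d = -3) →
      π (q a b c d h) = 1 ∨ IsConj fano.i (π (q a b c d h)) ∨ IsConj fano.d (π (q a b c d h)) ∨
        IsConj (fano.s * fano.i) (π (q a b c d h)) ∨ IsConj fano.x (π (q a b c d h)) ∨
        (IsConj fano.x⁻¹ (π (q a b c d h)) :) := by
    intro a b c d h htr
    rcases htr with htr | htr | htr | htr
    · right; left
      change IsConj (π I) _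
      unfold I
      apply conj_map
      apply isConj_of_trace
      · decide
      · decide
      · rw [htr]; decide
    · right; right; left
      change IsConj (π D) _
      unfold D
      apply conj_map
      apply isConj_of_trace
      · decide
      · decide
      · rw [htr]; decide
    · rcases unip_conj (h := h) htr with h1 | h1 | h1
      · left
        rw [h1, map_one]
      · right; right; right; right; left
        exact conj_map h1
      · right; right; right; right; right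
        have := conj_map h1
        rw [map_inv] at this
        exact this
    · right; right; right; left
      change IsConj (π W * π I) _
      rw [← map_mul]
      unfold W I
      rw [q_mul]
      apply conj_map
      apply isConj_of_trace
      · decide
      · decide
      · rw [htr]; decide
  obtain ⟨A, rfl⟩ := π_surj t
  obtain ⟨a, b, c, d, h, rfl⟩ := eq_q A
  have h1 : π (q a b c d h) = π (q (-a) (-b) (-c) (-d) (by linear_combination h)) := by
    rw [← neg_q, π_neg]
  rcases traces (a + d) with h2 | (h2 | h2) | (h2 | h2) | (h2 | h2)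
  · exact key (Or.inl h2)
  · rw [h1]; exact key (Or.inr (Or.inl (by linear_combination -h2)))
  · exact key (Or.inr (Or.inl h2))
  · exact key (Or.inr (Or.inr (Or.inl h2)))
  · rw [h1]; exact key (Or.inr (Or.inr (Or.inl (by linear_combination -h2))))
  · rw [h1]; exact key (Or.inr (Or.inr (Or.inr (by linear_combination -h2))))
  · exact key (Or.inr (Or.inr (Or.inr h2)))

end Psl7

section Op
variable {K : Type*} [Field K] {V : Type*} [AddCommGroup V] [Module K V] [FiniteDimensional K V]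

/-- three independent eigenvectors in dimension four -/
theorem trace_of_three (h4 : finrank K V = 4) {Y : End K V} {v₁ v₂ v₃ : V} {a b c : K}
    (hli : LinearIndependent K ![v₁, v₂, v₃]) (h1 : Y v₁ = a • v₁) (h2 : Y v₂ = b • v₂) (h3 : Y v₃ = c • v₃)
    (habc : a * b * c = 1) (hdet : LinearMap.det Y = 1) : LinearMap.trace K V Y = 1 + a + b + c := by
  obtain ⟨u, hu⟩ : ∃ u : V, LinearIndependent K ![u, v₁, v₂, v₃] := by
    have hlt : Submodule.span K (Set.range ![v₁, v₂, v₃]) ≠ ⊤ := by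
      intro htop
      have h5 := finrank_span_eq_card hli
      rw [htop, finrank_top, h4] at h5
      simp at h5
    obtain ⟨u, -, hu⟩ := SetLike.exists_of_lt (lt_top_iff_ne_top.2 hlt)
    refine ⟨u, ?_⟩
    rw [show (![u, v₁, v₂, v₃] : Fin 4 → V) = Fin.cons u ![v₁, v₂, v₃] from rfl,
      linearIndependent_finCons]
    exact ⟨hli, hu⟩
  let B : Basis (Fin 4) K V := basisOfLinearIndependentOfCardEqFinrank hu (by rw [h4]; simp)
  have hB1 : B 1 = v₁ := by simp [B]
  have hB2 : B 2 = v₂ := by simp [B]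
  have hB3 : B 3 = v₃ := by simp [B]
  have hc : ∀ i j, LinearMap.toMatrix B B Y i j = B.repr (Y (B j)) i := fun i j => LinearMap.toMatrix_apply _ _ _ _ _
  have c1 : ∀ i, LinearMap.toMatrix B B Y i 1 = if i = 1 then a else 0 := by
    intro i
    rw [hc, hB1, h1, ← hB1, map_smul, B.repr_self, Finsupp.smul_apply, Finsupp.single_apply]
    by_cases hi : i = 1
    · subst hi; simp
    · rw [if_neg hi, if_neg (Ne.symm hi)]; simp
  have c2 : ∀ i, LinearMap.toMatrix B B Y i 2 = if i = 2 then b else 0 := by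
    intro i
    rw [hc, hB2, h2, ← hB2, map_smul, B.repr_self, Finsupp.smul_apply, Finsupp.single_apply]
    by_cases hi : i = 2
    · subst hi; simp
    · rw [if_neg hi, if_neg (Ne.symm hi)]; simp
  have c3 : ∀ i, LinearMap.toMatrix B B Y i 3 = if i = 3 then c else 0 := by
    intro i
    rw [hc, hB3, h3, ← hB3, map_smul, B.repr_self, Finsupp.smul_apply, Finsupp.single_apply]
    by_cases hi : i = 3
    · subst hi; simp
    · rw [if_neg hi, if_neg (Ne.symm hi)]; simp
  rw [← LinearMap.det_toMatrix B] at hdet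
  rw [LinearMap.trace_eq_matrix_trace K B]
  set M := LinearMap.toMatrix B B Y with hM
  have hdet' : M.det = M 0 0 * (a * b * c) := by
    have hMM : M = !![M 0 0, 0, 0, 0; M 1 0, a, 0, 0; M 2 0, 0, b, 0; M 3 0, 0, 0, c] := by
      ext i j
      fin_cases j
      · fin_cases i <;> rfl
      · have := c1 i
        fin_cases i <;> simpa using this
      · have := c2 i
        fin_cases i <;> simpa using this
      · have := c3 i
        fin_cases i <;> simpa using this
    rw [hMM, Matrix.det_succ_row_zero, Fin.sum_univ_four]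
    simp only [Matrix.det_fin_three, Fin.succAbove, _root_.Nat.succ_eq_add_one, _root_.Nat.reduceAdd, _root_.Fin.isValue, _root_.Fin.coe_ofNat_eq_mod, _root_.Nat.zero_mod, _root_.pow_zero, _root_.Matrix.of_apply, _root_.Matrix.cons_val', _root_.Matrix.cons_val_zero, _root_.Matrix.cons_val_fin_one, _root_.one_mul, _root_.Fin.succAbove_zero, _root_.Matrix.det_fin_three, _root_.Matrix.submatrix_apply, _root_.Fin.succ_zero_eq_one, _root_.Matrix.cons_val_one, _root_.Fin.succ_one_eq_two, _root_.Matrix.cons_val, _root_.Fin.reduceSucc, _root_.MulZeroClass.mul_zero, _root_.sub_zero, _root_.MulZeroClass.zero_mul, _root_.add_zero, _root_.Nat.one_mod, _root_.pow_one, _root_.Fin.succAbove, _root_.Fin.castSucc_zero, _root_.zero_lt_one, ↓ _root_.reduceIte, _root_.Fin.castSucc_one, _root_.lt_self_iff_false, _root_.Fin.reduceCastSucc, _root_.Fin.lt_one_iff, _root_.Fin.reduceEq, _root_.Nat.reduceMod, _root_.even_two, _root_.Even.neg_pow, _root_.one_pow, _root_.Fin.reduceLT, _root_.sub_self,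 _root_.zero_sub, _root_.mul_neg, _root_.neg_zero, _root_.Nat.mod_succ, _root_.zero_add]
  rw [hdet', habc, mul_one] at hdet
  rw [Matrix.trace, Fin.sum_univ_four]
  simp only [Matrix.diag_apply]
  rw [c1 1, c2 2, c3 3, hdet]
  simp

/-- the traces of `X` and `X⁻¹` -/
theorem seven_op [IsAlgClosed K] (h4 : finrank K V = 4) (h7 : (7 : K) ≠ 0) {X D : End K V} (hX : X ^ 7 = 1)
    (hX1 : X ≠ 1) (hD : D ^ 3 = 1) (hDX : D * X = X ^ 2 * D) (hdet : LinearMap.det X = 1) :
    LinearMap.trace K V X + LinearMap.trace K V (X ^ 6) = 1 ∧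
      LinearMap.trace K V X * LinearMap.trace K V (X ^ 6) = 2 := by
  obtain ⟨ζ, v, hζ, hζ1, hv, h1, h2, h3, hli⟩ := exists_seven h7 hX hX1 hD hDX
  have hs : 1 + ζ + ζ ^ 2 + ζ ^ 3 + ζ ^ 4 + ζ ^ 5 + ζ ^ 6 = 0 := by
    have : (ζ - 1) * (1 + ζ + ζ ^ 2 + ζ ^ 3 + ζ ^ 4 + ζ ^ 5 + ζ ^ 6) = 0 := by
      linear_combination hζ
    exact (mul_eq_zero.1 this).resolve_left (sub_ne_zero.2 hζ1)
  have hpow : ∀ {c : K} {w : V}, X w = c • w → (X ^ 6) w = c ^ 6 • w := by
    intro c w hw
    have : ∀ n : ℕ, (X ^ n) w = c ^ n • w := by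
      intro n
      induction n with
      | zero => simp
      | succ n ih => rw [pow_succ', Module.End.mul_apply, ih, map_smul, hw, smul_smul, ← pow_succ]
    exact this 6
  have e1 := trace_of_three h4 hli h1 h2 h3 (by
    calc ζ * ζ ^ 4 * ζ ^ 2 = ζ ^ 7 := by ring
      _ = 1 := hζ) hdet
  have e2 := trace_of_three h4 hli (hpow h1) (hpow h2) (hpow h3) (by
    calc ζ ^ 6 * (ζ ^ 4) ^ 6 * (ζ ^ 2) ^ 6 = (ζ ^ 7) ^ 6 := by ring
      _ = 1 := by rw [hζ, one_pow]) (by rw [map_pow, hdet, one_pow])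
  have e3 : (ζ ^ 4) ^ 6 = ζ ^ 3 := by
    calc (ζ ^ 4) ^ 6 = (ζ ^ 7) ^ 3 * ζ ^ 3 := by ring
      _ = ζ ^ 3 := by rw [hζ, one_pow, one_mul]
  have e4 : (ζ ^ 2) ^ 6 = ζ ^ 5 := by
    calc (ζ ^ 2) ^ 6 = ζ ^ 7 * ζ ^ 5 := by ring
      _ = ζ ^ 5 := by rw [hζ, one_mul]
  rw [e3, e4] at e2
  rw [e1, e2]
  refine ⟨by linear_combination hs, ?_⟩
  linear_combination (3 + ζ + ζ ^ 2 + ζ ^ 3) * hζ + 2 * hs

end Op

end Cfsg.Agent.H908
end

-- part: H908/L3Two
section
/-!
# `PSL₃(2)` on the seven points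
-/

set_option autoImplicit false
set_option linter.unusedSectionVars false

namespace Cfsg.Agent.H908.L3Two

open Matrix

abbrev S3 := Matrix.SpecialLinearGroup (Fin 3) (ZMod 2)
abbrev T3 := ProjectiveSpecialLinearGroup (Fin 3) (ZMod 2)

/-- the points -/
abbrev Pt := {v : Fin 3 → ZMod 2 // v ≠ 0}

theorem inv_mul (g : S3) : ((g⁻¹ : S3) : Matrix (Fin 3) (Fin 3) (ZMod 2)) * (g : Matrix (Fin 3) (Fin 3) (ZMod 2)) = 1 := by
  rw [← Matrix.SpecialLinearGroup.coe_mul, inv_mul_cancel, Matrix.SpecialLinearGroup.coe_one]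

theorem mul_inv (g : S3) : (g : Matrix (Fin 3) (Fin 3) (ZMod 2)) * ((g⁻¹ : S3) : Matrix (Fin 3) (Fin 3) (ZMod 2)) = 1 := by
  rw [← Matrix.SpecialLinearGroup.coe_mul, mul_inv_cancel, Matrix.SpecialLinearGroup.coe_one]

/-- the action on points -/
def perm : S3 →* Equiv.Perm Pt where
  toFun g :=
    { toFun := fun v => ⟨(g : Matrix (Fin 3) (Fin 3) (ZMod 2)) *ᵥ v.1, fun h => v.2 (by
        have h1 := congrArg (fun w => ((g⁻¹ : S3) : Matrix (Fin 3) (Fin 3) (ZMod 2)) *ᵥ w) h
        simpa only [mulVec_mulVec, mulVec_zero, inv_mul, one_mulVec] using h1)⟩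
      invFun := fun v => ⟨((g⁻¹ : S3) : Matrix (Fin 3) (Fin 3) (ZMod 2)) *ᵥ v.1, fun h => v.2 (by
        have h1 := congrArg (fun w => (g : Matrix (Fin 3) (Fin 3) (ZMod 2)) *ᵥ w) h
        simpa only [mulVec_mulVec, mulVec_zero, mul_inv, one_mulVec] using h1)⟩
      left_inv := fun v => Subtype.ext (by
        simp only [mulVec_mulVec, inv_mul, one_mulVec])
      right_inv := fun v => Subtype.ext (by
        simp only [mulVec_mulVec, mul_inv, one_mulVec]) }
  map_one' := by
    apply Equiv.ext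
    intro v
    apply Subtype.ext
    change (1 : Matrix (Fin 3) (Fin 3) (ZMod 2)) *ᵥ v.1 = v.1
    rw [one_mulVec]
  map_mul' g h := by
    apply Equiv.ext
    intro v
    apply Subtype.ext
    change ((g * h : S3) : Matrix (Fin 3) (Fin 3) (ZMod 2)) *ᵥ v.1 = (g : Matrix (Fin 3) (Fin 3) (ZMod 2)) *ᵥ ((h : Matrix (Fin 3) (Fin 3) (ZMod 2)) *ᵥ v.1)
    rw [mulVec_mulVec, Matrix.SpecialLinearGroup.coe_mul]

theorem perm_apply (g : S3) (v : Pt) : ((perm g v : Pt) : Fin 3 → ZMod 2) = (g : Matrix (Fin 3) (Fin 3) (ZMod 2)) *ᵥ v.1 := rfl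

theorem card_pt : Fintype.card Pt = 7 := by decide

/-- the centre is trivial -/
theorem center_eq : Subgroup.center S3 = ⊥ := by
  rw [eq_bot_iff]
  intro g hg
  rw [Matrix.SpecialLinearGroup.mem_center_iff] at hg
  obtain ⟨r, hr, hg⟩ := hg
  have h0 : ∀ r : ZMod 2, r ^ Fintype.card (Fin 3) = 1 → r = 1 := by decide
  have h1 : r = 1 := h0 r hr
  subst h1
  rw [Subgroup.mem_bot]
  apply Subtype.ext
  rw [← hg]
  simp

/-- the action of `PSL₃(2)` -/
def ψ : T3 →* Equiv.Perm Pt := QuotientGroup.lift _ perm (by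
  intro g hg
  rw [center_eq, Subgroup.mem_bot] at hg
  rw [hg]
  exact one_mem _)

theorem ψ_mk (g : S3) : ψ (QuotientGroup.mk' _ g) = perm g := rfl

theorem mk_surj : Function.Surjective (QuotientGroup.mk' (Subgroup.center S3)) := QuotientGroup.mk'_surjective _

/-! ### double transitivity -/

theorem trans' : ∀ x0 x1 x2 y0 y1 y2 : Fin 2, (x0 ≠ 0 ∨ x1 ≠ 0 ∨ x2 ≠ 0) → (y0 ≠ 0 ∨ y1 ≠ 0 ∨ y2 ≠ 0) →
    (x0 ≠ y0 ∨ x1 ≠ y1 ∨ x2 ≠ y2) → ∃ z0 z1 z2 : Fin 2,
      x0 * (y1 * z2 - y2 * z1) - y0 * (x1 * z2 - x2 * z1) + z0 * (x1 * y2 - x2 * y1) = 1 := by decide +kernel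

theorem trans2 : ∀ x0 x1 x2 y0 y1 y2 : ZMod 2, (x0 ≠ 0 ∨ x1 ≠ 0 ∨ x2 ≠ 0) → (y0 ≠ 0 ∨ y1 ≠ 0 ∨ y2 ≠ 0) →
    (x0 ≠ y0 ∨ x1 ≠ y1 ∨ x2 ≠ y2) → ∃ z0 z1 z2 : ZMod 2,
      x0 * (y1 * z2 - y2 * z1) - y0 * (x1 * z2 - x2 * z1) + z0 * (x1 * y2 - x2 * y1) = 1 := trans'

theorem ne_iff {x y : Fin 3 → ZMod 2} (h : x ≠ y) : x 0 ≠ y 0 ∨ x 1 ≠ y 1 ∨ x 2 ≠ y 2 := by
  by_contra hcon
  push Not at hcon
  apply h
  funext i
  fin_cases i
  · exact hcon.1
  · exact hcon.2.1
  · exact hcon.2.2

def e0 : Pt := ⟨![1, 0, 0], by decide⟩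
def e1 : Pt := ⟨![0, 1, 0], by decide⟩

theorem exists_frame {x y : Pt} (hxy : x ≠ y) : ∃ g : S3, perm g e0 = x ∧ perm g e1 = y := by
  obtain ⟨z0, z1, z2, hz⟩ := trans2 (x.1 0) (x.1 1) (x.1 2) (y.1 0) (y.1 1) (y.1 2) (ne_iff x.2) (ne_iff y.2)
    (ne_iff fun h => hxy (Subtype.ext h))
  refine ⟨⟨!![x.1 0, y.1 0, z0; x.1 1, y.1 1, z1; x.1 2, y.1 2, z2], ?_⟩, ?_, ?_⟩
  · rw [det_fin_three]
    simp only [of_apply, cons_val', cons_val_zero, cons_val_one, cons_val, cons_val_fin_one]
    rw [← hz]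
    ring
  · apply Subtype.ext
    change !![x.1 0, y.1 0, z0; x.1 1, y.1 1, z1; x.1 2, y.1 2, z2] *ᵥ ![1, 0, 0] = x.1
    funext i
    (revert i; simp only [mulVec, dotProduct, Fin.sum_univ_three, _root_.Fin.forall_fin_succ, _root_.ne_eq, Fin.isValue, _root_.Matrix.of_apply, _root_.Matrix.cons_val', _root_.Matrix.cons_val_fin_one, _root_.Matrix.cons_val_zero, _root_.mul_one, _root_.Matrix.cons_val_one, _root_.MulZeroClass.mul_zero, _root_.add_zero, _root_.Matrix.cons_val, _root_.Matrix.cons_val_succ, _root_.Fin.succ_zero_eq_one, _root_.Fin.succ_one_eq_two, _root_.IsEmpty.forall_iff, _root_.and_self])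
  · apply Subtype.ext
    change !![x.1 0, y.1 0, z0; x.1 1, y.1 1, z1; x.1 2, y.1 2, z2] *ᵥ ![0, 1, 0] = y.1
    funext i
    (revert i; simp only [mulVec, dotProduct, Fin.sum_univ_three, _root_.Fin.forall_fin_succ, _root_.ne_eq, Fin.isValue, _root_.Matrix.of_apply, _root_.Matrix.cons_val', _root_.Matrix.cons_val_fin_one, _root_.Matrix.cons_val_zero, _root_.MulZeroClass.mul_zero, _root_.Matrix.cons_val_one, _root_.mul_one, _root_.zero_add, _root_.Matrix.cons_val, _root_.add_zero, _root_.Matrix.cons_val_succ, _root_.Fin.succ_zero_eq_one, _root_.Fin.succ_one_eq_two, _root_.IsEmpty.forall_iff, _root_.and_self])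

theorem two (x y z w : Pt) (hxy : x ≠ y) (hzw : z ≠ w) : ∃ t : T3, ψ t x = z ∧ ψ t y = w := by
  obtain ⟨g, hg0, hg1⟩ := exists_frame hxy
  obtain ⟨h, hh0, hh1⟩ := exists_frame hzw
  refine ⟨QuotientGroup.mk' _ (h * g⁻¹), ?_, ?_⟩
  · rw [ψ_mk, map_mul, Equiv.Perm.mul_apply, map_inv, Equiv.Perm.inv_eq_iff_eq.2 hg0.symm, hh0]
  · rw [ψ_mk, map_mul, Equiv.Perm.mul_apply, map_inv, Equiv.Perm.inv_eq_iff_eq.2 hg1.symm, hh1]

end Cfsg.Agent.H908.L3Two
end

-- part: H908/L3Fix
section
/-!
# `PSL₃(2)` on the seven points: fixed points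
-/

set_option autoImplicit false
set_option linter.unusedSectionVars false

namespace Cfsg.Agent.H908.L3Two

open Matrix

/-- rows -/
abbrev R (A : Type) := A × A × A

section
variable {A : Type} [Add A] [Mul A]

def row (r : R A) (m : R (R A)) : R A :=
  (r.1 * m.1.1 + r.2.1 * m.2.1.1 + r.2.2 * m.2.2.1, r.1 * m.1.2.1 + r.2.1 * m.2.1.2.1 + r.2.2 * m.2.2.2.1,
    r.1 * m.1.2.2 + r.2.1 * m.2.1.2.2 + r.2.2 * m.2.2.2.2)

def mulR (p q : R (R A)) : R (R A) := (row p.1 q, row p.2.1 q, row p.2.2 q)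

def dot (r v : R A) : A := r.1 * v.1 + r.2.1 * v.2.1 + r.2.2 * v.2.2

def app (m : R (R A)) (v : R A) : R A := (dot m.1 v, dot m.2.1 v, dot m.2.2 v)

end

def oneR : R (R (Fin 2)) := ((1, 0, 0), (0, 1, 0), (0, 0, 1))

def cnt (m : R (R (Fin 2))) : ℕ := ((Finset.univ : Finset (R (Fin 2))).filter fun v => v ≠ (0, 0, 0) ∧ app m v = v).card

theorem c2' : ∀ a b c : Fin 2 × Fin 2 × Fin 2, mulR (a, b, c) (a, b, c) = oneR → (a, b, c) ≠ oneR →
    cnt (a, b, c) = 3 := by decide +kernel

theorem c3' : ∀ a b c : Fin 2 × Fin 2 × Fin 2, mulR (mulR (a, b, c) (a, b, c)) (a, b, c) = oneR → (a, b, c) ≠ oneR →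
    cnt (a, b, c) = 1 := by decide +kernel

def chk (m n : R (R (Fin 2))) : Bool := if mulR n n = oneR then (if n = oneR then true else decide (cnt m = 1)) else true

theorem c4' : ∀ a b c : Fin 2 × Fin 2 × Fin 2, chk (a, b, c) (mulR (a, b, c) (a, b, c)) = true := by decide +kernel

theorem chk_spec {m n : R (R (Fin 2))} (h : chk m n = true) (h1 : mulR n n = oneR) (h2 : n ≠ oneR) : cnt m = 1 := by
  unfold chk at h
  rw [if_pos h1, if_neg h2] at h
  exact of_decide_eq_true h

theorem c2 (m : R (R (Fin 2))) : mulR m m = oneR → m ≠ oneR → cnt m = 3 := c2' m.1 m.2.1 m.2.2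

theorem c3 (m : R (R (Fin 2))) : mulR (mulR m m) m = oneR → m ≠ oneR → cnt m = 1 := c3' m.1 m.2.1 m.2.2

theorem c4 (m : R (R (Fin 2))) : mulR (mulR m m) (mulR m m) = oneR → mulR m m ≠ oneR → cnt m = 1 :=
  chk_spec (c4' m.1 m.2.1 m.2.2)

/-- the tuple of a matrix -/
def toR (M : Matrix (Fin 3) (Fin 3) (ZMod 2)) : R (R (ZMod 2)) :=
  ((M 0 0, M 0 1, M 0 2), (M 1 0, M 1 1, M 1 2), (M 2 0, M 2 1, M 2 2))

theorem toR_mul (M N : Matrix (Fin 3) (Fin 3) (ZMod 2)) : toR (M * N) = mulR (toR M) (toR N) := by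
  simp only [toR, mulR, row, Matrix.mul_apply, Fin.sum_univ_three]

theorem toR_inj {M N : Matrix (Fin 3) (Fin 3) (ZMod 2)} (h : toR M = toR N) : M = N := by
  simp only [toR, Prod.mk.injEq] at h
  obtain ⟨⟨h1, h2, h3⟩, ⟨h4, h5, h6⟩, h7, h8, h9⟩ := h
  ext i j
  fin_cases i <;> fin_cases j <;> assumption

theorem card_fix (g : S3) : (Finset.univ.filter fun y : Pt => perm g y = y).card =
    cnt (toR (g : Matrix (Fin 3) (Fin 3) (ZMod 2))) := by
  refine Finset.card_bij (fun y _ => ((y.1 0, y.1 1, y.1 2) : R (ZMod 2))) ?_ ?_ ?_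
  · intro y hy
    rw [Finset.mem_filter] at hy
    have h1 := congrArg Subtype.val hy.2
    rw [perm_apply] at h1
    apply Finset.mem_filter.2
    refine ⟨Finset.mem_univ _, ?_, ?_⟩
    · intro h2
      apply y.2
      have h3 := congrArg (fun r : R (ZMod 2) => r.1) h2
      have h4 := congrArg (fun r : R (ZMod 2) => r.2.1) h2
      have h5 := congrArg (fun r : R (ZMod 2) => r.2.2) h2
      funext i
      fin_cases i
      · exact h3
      · exact h4
      · exact h5
    · have h2 := congrFun h1 0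
      have h3 := congrFun h1 1
      have h4 := congrFun h1 2
      simp only [mulVec, dotProduct, Fin.sum_univ_three] at h2 h3 h4
      exact Prod.ext h2 (Prod.ext h3 h4)
  · intro a _ b _ hab
    have h3 := congrArg (fun r : R (ZMod 2) => r.1) hab
    have h4 := congrArg (fun r : R (ZMod 2) => r.2.1) hab
    have h5 := congrArg (fun r : R (ZMod 2) => r.2.2) hab
    apply Subtype.ext
    funext i
    fin_cases i
    · exact h3
    · exact h4
    · exact h5
  · intro r hr
    obtain ⟨-, hr0, hr1⟩ := Finset.mem_filter.1 hr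
    let w : Fin 3 → ZMod 2 := ![r.1, r.2.1, r.2.2]
    have hw : w ≠ 0 := by
      intro h
      apply hr0
      have h3 := congrFun h 0
      have h4 := congrFun h 1
      have h5 := congrFun h 2
      exact Prod.ext h3 (Prod.ext h4 h5)
    refine ⟨⟨w, hw⟩, ?_, rfl⟩
    apply Finset.mem_filter.2
    refine ⟨Finset.mem_univ _, ?_⟩
    apply Subtype.ext
    rw [perm_apply]
    have h2 := congrArg (fun r : R (ZMod 2) => r.1) hr1
    have h3 := congrArg (fun r : R (ZMod 2) => r.2.1) hr1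
    have h4 := congrArg (fun r : R (ZMod 2) => r.2.2) hr1
    funext i
    rw [mulVec, dotProduct, Fin.sum_univ_three]
    fin_cases i
    · exact h2
    · exact h3
    · exact h4

theorem mk_eq_one {g : S3} (h : QuotientGroup.mk' (Subgroup.center S3) g = 1) : g = 1 := by
  have : g ∈ (QuotientGroup.mk' (Subgroup.center S3)).ker := h
  rwa [QuotientGroup.ker_mk', center_eq, Subgroup.mem_bot] at this

theorem c2m {M : Matrix (Fin 3) (Fin 3) (ZMod 2)} (h : M * M = 1) (h1 : M ≠ 1) : cnt (toR M) = 3 :=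
  c2 (toR M) ((toR_mul M M).symm.trans (congrArg toR h)) (fun h3 => h1 (toR_inj h3))

theorem c3m {M : Matrix (Fin 3) (Fin 3) (ZMod 2)} (h : M * M * M = 1) (h1 : M ≠ 1) : cnt (toR M) = 1 :=
  c3 (toR M) (((congrArg (fun r => mulR r (toR M)) (toR_mul M M)).symm.trans (toR_mul (M * M) M).symm).trans
    (congrArg toR h)) (fun h3 => h1 (toR_inj h3))

theorem c4m {M : Matrix (Fin 3) (Fin 3) (ZMod 2)} (h : M * M * (M * M) = 1) (h1 : M * M ≠ 1) : cnt (toR M) = 1 :=
  c4 (toR M) (((congrArg (fun r => mulR r r) (toR_mul M M)).symm.trans (toR_mul (M * M) (M * M)).symm).trans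
    (congrArg toR h)) (fun h3 => h1 (toR_inj ((toR_mul M M).trans h3)))

theorem fix_two (t : T3) (h : t * t = 1) (h1 : t ≠ 1) : (Finset.univ.filter fun y : Pt => ψ t y = y).card = 3 := by
  obtain ⟨g, rfl⟩ := mk_surj t
  rw [← map_mul] at h
  have h2 := mk_eq_one h
  refine (card_fix g).trans (c2m ?_ ?_)
  · rw [← Matrix.SpecialLinearGroup.coe_mul, h2, Matrix.SpecialLinearGroup.coe_one]
  · intro h3
    apply h1
    have : g = 1 := Subtype.ext h3
    rw [this, map_one]

theorem fix_three (t : T3) (h : t * t * t = 1) (h1 : t ≠ 1) : (Finset.univ.filter fun y : Pt => ψ t y = y).card = 1 := by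
  obtain ⟨g, rfl⟩ := mk_surj t
  rw [← map_mul, ← map_mul] at h
  have h2 := mk_eq_one h
  refine (card_fix g).trans (c3m ?_ ?_)
  · rw [← Matrix.SpecialLinearGroup.coe_mul, ← Matrix.SpecialLinearGroup.coe_mul, h2, Matrix.SpecialLinearGroup.coe_one]
  · intro h3
    apply h1
    have : g = 1 := Subtype.ext h3
    rw [this, map_one]

theorem fix_four (t : T3) (h : t * t * (t * t) = 1) (h1 : t * t ≠ 1) :
    (Finset.univ.filter fun y : Pt => ψ t y = y).card = 1 := by
  obtain ⟨g, rfl⟩ := mk_surj t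
  rw [← map_mul, ← map_mul] at h
  have h2 := mk_eq_one h
  refine (card_fix g).trans (c4m ?_ ?_)
  · rw [← Matrix.SpecialLinearGroup.coe_mul, ← Matrix.SpecialLinearGroup.coe_mul, h2, Matrix.SpecialLinearGroup.coe_one]
  · intro h3
    apply h1
    rw [← Matrix.SpecialLinearGroup.coe_mul] at h3
    have : g * g = 1 := Subtype.ext h3
    rw [← map_mul, this, map_one]

theorem fix_one : (Finset.univ.filter fun y : Pt => ψ 1 y = y).card = 7 := by
  rw [map_one]
  simp only [card_pt, _root_.Equiv.Perm.coe_one, _root_.id_eq, _root_.Finset.filter_true, _root_.Finset.card_univ, _root_.Fintype.card_subtype_compl, _root_.Fintype.card_pi, _root_.ZMod.card, _root_.Finset.prod_const, _root_.Fintype.card_fin, _root_.Nat.reducePow, _root_.Fintype.card_unique, _root_.Nat.add_one_sub_one]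

theorem ψ_injective : Function.Injective ψ := by
  rw [injective_iff_map_eq_one]
  intro t ht
  obtain ⟨g, rfl⟩ := mk_surj t
  rw [ψ_mk] at ht
  have h1 : ∀ i : Fin 3, (g : Matrix (Fin 3) (Fin 3) (ZMod 2)) *ᵥ Pi.single i 1 = Pi.single i 1 := by
    intro i
    have h2 : (Pi.single i 1 : Fin 3 → ZMod 2) ≠ 0 := by
      rw [Ne, Pi.single_eq_zero_iff]; decide
    have h3 := congrArg (fun σ : Equiv.Perm Pt => (σ ⟨Pi.single i 1, h2⟩).1) ht
    exact h3
  have h4 : (g : Matrix (Fin 3) (Fin 3) (ZMod 2)) = 1 := by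
    ext i j
    have := congrFun (h1 j) i
    rw [mulVec_single_one, col_apply] at this
    rw [this, one_apply, Pi.single_apply]
  have : g = 1 := Subtype.ext h4
  rw [this, map_one]

theorem fix_seven (t : T3) (h : t ^ 7 = 1) (h1 : t ≠ 1) : (Finset.univ.filter fun y : Pt => ψ t y = y).card = 0 := by
  have hp : Fact (Nat.Prime 7) := ⟨by norm_num⟩
  have ho : orderOf (ψ t) = 7 := orderOf_eq_prime (by rw [← map_pow, h, map_one]) (fun h2 => h1 (ψ_injective (by
    rw [h2, map_one])))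
  have h2 : (ψ t).IsCycle := Equiv.Perm.isCycle_of_prime_order' (by rw [ho]; exact hp.out) (by
    rw [card_pt, ho]; norm_num)
  have h3 : (ψ t).support.card = 7 := by rw [← h2.orderOf, ho]
  have h4 : (ψ t).support = Finset.univ := by
    rw [← Finset.card_eq_iff_eq_univ, h3, card_pt]
  rw [Finset.card_eq_zero, Finset.filter_eq_empty_iff]
  intro y _ hy
  have : y ∈ (ψ t).support := by rw [h4]; exact Finset.mem_univ _
  exact (Equiv.Perm.mem_support.1 this) hy

end Cfsg.Agent.H908.L3Two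
end

-- part: H908/L7Pts
section
/-!
# `L₂(7)` in dimension four, odd characteristic: the seven points
-/

set_option autoImplicit false
set_option linter.unusedSectionVars false

namespace Cfsg.Agent.H908

open Cfsg Cfsg.Geo Module
open scoped MatrixGroups commutatorElement

namespace Cov

variable {F : Type*} [Field F] {T : Type*} [Group T] {P : Subgroup (GL (Fin 4) F)} {φ : P →* T}

/-- conjugate images: equal up to conjugation and sign -/
theorem shape (h : Cov P φ) (hp : Pm φ) {Y y : P} (hc : IsConj (φ Y) (φ y)) :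
    (tr y = tr Y ∨ tr y = - tr Y) ∧ tr y ^ 2 - tr (y * y) = tr Y ^ 2 - tr (Y * Y) := by
  obtain ⟨g, hg⟩ := isConj_iff.1 hc
  obtain ⟨x, rfl⟩ := h.surj g
  set! Y' := x * Y * x⁻¹ with hY'
  have e1 : tr Y' = tr Y := tr_conj x Y
  have e2 : tr (Y' * Y') = tr (Y * Y) := by
    rw [← tr_conj x (Y * Y), hY']
    (with_reducible congr 1)
    group
  have hk : φ (y * Y'⁻¹) = 1 := by
    rw [map_mul, map_inv, hY', map_mul, map_mul, map_inv, hg, mul_inv_cancel]
  have hy' : y = (y * Y'⁻¹) * Y' := by group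
  rcases hp _ hk with h1 | h1
  · have h2 : mt P y = mt P Y' := by
      conv_lhs => rw [hy', map_mul, h1, one_mul]
    have h3 : y = Y' := mt_injective h2
    rw [← e1, ← e2, h3]
    exact ⟨Or.inl rfl, rfl⟩
  · have h2 : mt P y = - mt P Y' := by
      conv_lhs => rw [hy', map_mul, h1, neg_one_mul]
    have h3 : tr y = - tr Y' := by
      unfold tr
      rw [h2, Matrix.trace_neg]
    have h4 : tr (y * y) = tr (Y' * Y') := by
      unfold tr
      rw [map_mul, map_mul, h2, neg_mul_neg]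
    rw [← e1, ← e2, h4, h3]
    exact ⟨Or.inr rfl, by ring⟩

variable [Finite F]

/-- lifts of the elements of orders three and seven -/
theorem fano_lift (h : Cov P φ) (D : Fano T) : ∃ X E : P, φ X = D.x ∧ φ E = D.d ∧ X ^ 7 = 1 ∧ E ^ 3 = 1 ∧ X ≠ 1 ∧
    E * X * E⁻¹ = X ^ 2 ∧ (∀ S : P, φ S = D.s → S * E * S⁻¹ = E⁻¹) := by
  have hxodd : Odd (orderOf D.x) := by
    rw [D.orderOf_x]; decide
  have hdodd : Odd (orderOf D.d) := by
    have : orderOf D.d ∣ 3 := orderOf_dvd_of_pow_eq_one D.hd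
    exact Odd.of_dvd_nat (by decide) this
  obtain ⟨X, hX, hXo⟩ := h.exists_lift D.x hxodd
  obtain ⟨E, hE, hEo⟩ := h.exists_lift D.d hdodd
  have hXodd : Odd (orderOf X) := by rwa [hXo]
  have hEodd : Odd (orderOf E) := by rwa [hEo]
  have hX7 : X ^ 7 = 1 := by
    apply orderOf_dvd_iff_pow_eq_one.1
    rw [hXo]
    exact orderOf_dvd_of_pow_eq_one D.hx
  have hE3 : E ^ 3 = 1 := by
    apply orderOf_dvd_iff_pow_eq_one.1
    rw [hEo]
    exact orderOf_dvd_of_pow_eq_one D.hd
  refine ⟨X, E, hX, hE, hX7, hE3, ?_, ?_, ?_⟩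
  · rintro rfl
    apply D.hx1
    rw [← hX, map_one]
  · apply h.conj_lift _ hXodd (odd_orderOf_pow hXodd 2)
    rw [map_mul, map_mul, map_inv, map_pow, hE, hX, D.hdx]
  · intro S hS
    apply h.conj_lift _ hEodd (by rwa [orderOf_inv])
    rw [map_mul, map_mul, map_inv, map_inv, hS, hE, D.hsd]

/-- the traces of the lifts of the elements of orders three and seven -/
theorem fano_traces (h : Cov P φ) (h7 : (7 : F) ≠ 0) (D : Fano T) : ∃ X E : P, φ X = D.x ∧ φ E = D.d ∧
    Odd (orderOf X) ∧ tr E = 1 ∧ tr (E * E) = 1 ∧ tr X + tr X⁻¹ = 1 ∧ tr X * tr X⁻¹ = 2 ∧ tr (X * X) = tr X ∧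
    tr (X⁻¹ * X⁻¹) = tr X⁻¹ := by
  obtain ⟨X, E, hX, hE, hX7, hE3, hX1, hEX, hSE⟩ := h.fano_lift D
  obtain ⟨S, hS⟩ := h.surj D.s
  have hSE := hSE S hS
  have hEE : E * E = E⁻¹ := by rw [eq_inv_iff_mul_eq_one, ← pow_two, ← pow_succ, hE3]
  have hXinv : X⁻¹ = X ^ 6 := by rw [inv_eq_iff_mul_eq_one, ← pow_succ', hX7]
  set! K := AlgebraicClosure F
  set! e := ext (F := F) K with he
  have h7' : (7 : K) ≠ 0 := by
    have := (map_ne_zero (algebraMap F K)).2 h7
    rwa [map_ofNat] at this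
  have h4 : finrank K (Fin 4 → K) = 4 := by simp
  have eX : e (mt P X) ^ 7 = 1 := by rw [← map_pow, ← map_pow, hX7, map_one, map_one]
  have eX1 : e (mt P X) ≠ 1 := by
    intro h'
    apply hX1
    apply mt_injective
    apply ext_injective K
    rw [map_one, map_one]
    exact h'
  have eE : e (mt P E) ^ 3 = 1 := by rw [← map_pow, ← map_pow, hE3, map_one, map_one]
  have eEX : e (mt P E) * e (mt P X) = e (mt P X) ^ 2 * e (mt P E) := by
    rw [← map_mul, ← map_pow, ← map_mul, ← map_mul, ← map_pow, ← map_mul]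
    (with_reducible congr 2)
    rw [← hEX]
    group
  have hdet : ∀ g : P, LinearMap.det (e (mt P g)) = 1 := fun g => by
    rw [he, det_ext, h.det, map_one]
  have htr : ∀ g : P, LinearMap.trace K _ (e (mt P g)) = algebraMap F K (tr g) := fun g => by
    rw [he, trace_ext]; rfl
  obtain ⟨ζ, v, -, -, -, -, -, -, hli⟩ := exists_seven h7' eX eX1 eE eEX
  have t1 := trace_eq_one h4 eE (hdet E) hli
  rw [htr] at t1
  have t2 : tr E = 1 := by
    apply (algebraMap F K).injective
    rw [t1, map_one]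
  obtain ⟨s1, s2⟩ := seven_op h4 h7' eX eX1 eE eEX (hdet X)
  rw [← map_pow, ← map_pow, ← hXinv, htr, htr] at s1 s2
  refine ⟨X, E, hX, hE, ?_, t2, ?_, ?_, ?_, ?_, ?_⟩
  · have : orderOf X ∣ 7 := orderOf_dvd_of_pow_eq_one hX7
    exact Odd.of_dvd_nat (by decide) this
  · rw [hEE, ← hSE, tr_conj, t2]
  · apply (algebraMap F K).injective
    rw [map_add, map_one]
    exact s1
  · apply (algebraMap F K).injective
    rw [map_mul, map_ofNat]
    exact s2
  · rw [← pow_two, ← hEX, tr_conj]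
  · have : X⁻¹ * X⁻¹ = E * X⁻¹ * E⁻¹ := by
      have h1 : (X ^ 2)⁻¹ = X⁻¹ * X⁻¹ := by group
      rw [← h1, ← hEX]
      group
    rw [this, tr_conj]

end Cov

section L7
variable {F : Type*} [Field F] [Finite F] {P : Subgroup (GL (Fin 4) F)} {φ : P →* Psl7.T}

/-- the action on seven points -/
def pts (φ : P →* Psl7.T) (θ : Psl7.T ≃* L3Two.T3) : P →* Equiv.Perm L3Two.Pt :=
  L3Two.ψ.comp (θ.toMonoidHom.comp φ)

/-- the number of fixed points and the trace on skew matrices -/
theorem fix_cases (h : Cov P φ) (t : Cov.Two φ) (h2 : (2 : F) ≠ 0) (h7 : (7 : F) ≠ 0) (θ : Psl7.T ≃* L3Two.T3) (y : P) :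
    ∃ n : ℕ, (Finset.univ.filter fun z => pts φ θ y z = z).card = n ∧ tr y ^ 2 - tr (y * y) = 2 * ((n : F) - 1) ∧
      n ≠ 4 ∧ (2 ≤ n → y ^ 4 = 1) := by
  obtain ⟨X, E, hX, hE, hXo, tE, tEE, tXa, tXm, tXX, tXX'⟩ := h.fano_traces h7 Psl7.fano
  have hs4 : ∀ z : P, φ z * φ z = 1 → z ^ 4 = 1 := by
    intro z hz
    have h1 : φ (z * z) = 1 := by rw [map_mul, hz]
    have h3 := t.pm.sq h1
    calc z ^ 4 = z * z * (z * z) := by rw [← pow_two (z * z), ← pow_two z, ← pow_mul]
      _ = 1 := h3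
  have hinv : ∀ {z : P}, φ z * φ z = 1 → φ z ≠ 1 → tr z = 0 := by
    intro z hz hz1
    exact t.tr_mixed h h2 ((Psl7.fano.dih 21 Psl7.card_T (by decide) Psl7.inv_conj).mixed_of_sq
      (by rw [pow_two, hz]) hz1)
  have hexp : ∀ z : P, pts φ θ z = L3Two.ψ (θ (φ z)) := fun z => rfl
  rcases Psl7.five (φ y) with h1 | h1 | h1 | h1 | h1 | h1
  · refine ⟨7, ?_, ?_, by norm_num, fun _ => hs4 y (by rw [h1, one_mul])⟩
    · rw [hexp, h1, map_one]
      exact L3Two.fix_one
    · have h3 := h.shape t.pm (Y := 1) (y := y) (by rw [h1, map_one])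
      rw [h3.2]
      have : tr (1 : P) = 4 := by
        unfold tr
        rw [map_one, Matrix.trace_one, Fintype.card_fin]
        norm_num
      rw [one_mul, this]
      norm_num
  · have hyy : φ y * φ y = 1 := by
      obtain ⟨c, hc⟩ := isConj_iff.1 h1
      rw [← hc]
      calc c * Psl7.fano.i * c⁻¹ * (c * Psl7.fano.i * c⁻¹) = c * (Psl7.fano.i * Psl7.fano.i) * c⁻¹ := by group
        _ = 1 := by rw [Psl7.fano.hi]; group
    have hy1 : φ y ≠ 1 := by
      intro h'
      rw [h', isConj_one_left] at h1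
      exact Psl7.fano.hi1 h1
    refine ⟨3, ?_, ?_, by norm_num, fun _ => hs4 y hyy⟩
    · rw [hexp]
      exact L3Two.fix_two _ (by rw [← map_mul, hyy, map_one]) (by
        intro h'
        exact hy1 (by rw [← map_one θ] at h'; exact θ.injective h'))
    · have h3 : tr (y * y) = -4 := by
        unfold tr
        rw [t.sq y hy1 (by rw [pow_two, hyy]), Matrix.trace_neg, Matrix.trace_one, Fintype.card_fin]
        norm_num
      rw [hinv hyy hy1, h3]
      norm_num
  · refine ⟨1, ?_, ?_, by norm_num, by norm_num only [_root_.IsEmpty.forall_iff]⟩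
    · rw [hexp]
      obtain ⟨c, hc⟩ := isConj_iff.1 h1
      have hd3 : Psl7.fano.d * Psl7.fano.d * Psl7.fano.d = 1 := by
        rw [← Psl7.fano.hd, pow_succ, pow_two]
      refine L3Two.fix_three _ ?_ ?_
      · rw [← map_mul, ← map_mul, ← hc]
        have : c * Psl7.fano.d * c⁻¹ * (c * Psl7.fano.d * c⁻¹) * (c * Psl7.fano.d * c⁻¹) =
          c * (Psl7.fano.d * Psl7.fano.d * Psl7.fano.d) * c⁻¹ := by group
        rw [this, hd3, mul_one, mul_inv_cancel, map_one]
      · intro h'
        have h3 : φ y = 1 := by rw [← map_one θ] at h'; exact θ.injective h'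
        rw [h3, isConj_one_left] at h1
        have h4 := Psl7.fano.hdi
        rw [h1] at h4
        exact Psl7.fano.hne (by simpa using h4)
    · have h3 := (h.shape t.pm (Y := E) (y := y) (by rw [hE]; exact h1)).2
      rw [h3, tE, tEE]
      norm_num
  · obtain ⟨c, hc⟩ := isConj_iff.1 h1
    have hsq := Psl7.fano.sq_a
    have hji : (Psl7.fano.j * Psl7.fano.i) * (Psl7.fano.j * Psl7.fano.i) = 1 := by
      calc Psl7.fano.j * Psl7.fano.i * (Psl7.fano.j * Psl7.fano.i) =
            Psl7.fano.j * (Psl7.fano.i * Psl7.fano.j) * Psl7.fano.i := by group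
        _ = Psl7.fano.j * (Psl7.fano.j * Psl7.fano.i) * Psl7.fano.i := by rw [Psl7.fano.hij]
        _ = (Psl7.fano.j * Psl7.fano.j) * (Psl7.fano.i * Psl7.fano.i) := by group
        _ = 1 := by rw [Psl7.fano.hj, Psl7.fano.hi, one_mul]
    have hji1 : Psl7.fano.j * Psl7.fano.i ≠ 1 := by
      intro h'
      apply Psl7.fano.hne
      calc Psl7.fano.i = Psl7.fano.j * Psl7.fano.j * Psl7.fano.i := by rw [Psl7.fano.hj, one_mul]
        _ = Psl7.fano.j * (Psl7.fano.j * Psl7.fano.i) := by group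
        _ = Psl7.fano.j := by rw [h', mul_one]
    have e1 : φ y * φ y = c * (Psl7.fano.j * Psl7.fano.i) * c⁻¹ := by
      rw [← hc, ← hsq, pow_two]
      group
    have e2 : φ y * φ y ≠ 1 := by
      rw [e1]
      intro h'
      apply hji1
      rw [mul_inv_eq_one] at h'
      exact (mul_left_cancel (h'.trans (mul_one c).symm) :)
    have e3 : φ y * φ y * (φ y * φ y) = 1 := by
      rw [e1]
      calc c * (Psl7.fano.j * Psl7.fano.i) * c⁻¹ * (c * (Psl7.fano.j * Psl7.fano.i) * c⁻¹) =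
            c * ((Psl7.fano.j * Psl7.fano.i) * (Psl7.fano.j * Psl7.fano.i)) * c⁻¹ := by group
        _ = 1 := by rw [hji]; group
    refine ⟨1, ?_, ?_, by norm_num, by norm_num only [_root_.IsEmpty.forall_iff]⟩
    · rw [hexp]
      refine L3Two.fix_four _ ?_ ?_
      · rw [← map_mul, ← map_mul, e3, map_one]
      · rw [← map_mul]
        intro h'
        exact e2 (by rw [← map_one θ] at h'; exact θ.injective h')
    · have e4 : tr y = 0 := t.tr_si h h2 h7 Psl7.fano h1
      have e5 : tr (y * y) = 0 := hinv (by rw [map_mul]; exact e3) (by rw [map_mul]; exact e2)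
      rw [e4, e5]
      norm_num
  · refine ⟨0, ?_, ?_, by norm_num, by norm_num only [_root_.IsEmpty.forall_iff]⟩
    · rw [hexp]
      obtain ⟨c, hc⟩ := isConj_iff.1 h1
      refine L3Two.fix_seven _ ?_ ?_
      · rw [← map_pow, ← hc, conj_pow, Psl7.fano.hx, mul_one, mul_inv_cancel, map_one]
      · intro h'
        have h3 : φ y = 1 := by rw [← map_one θ] at h'; exact θ.injective h'
        rw [h3, isConj_one_left] at h1
        exact Psl7.fano.hx1 h1
    · have h3 := (h.shape t.pm (Y := X) (y := y) (by rw [hX]; exact h1)).2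
      rw [h3, tXX]
      push_cast
      linear_combination (tr X) * tXa - tXm
  · refine ⟨0, ?_, ?_, by norm_num, by norm_num only [_root_.IsEmpty.forall_iff]⟩
    · rw [hexp]
      obtain ⟨c, hc⟩ := isConj_iff.1 h1
      refine L3Two.fix_seven _ ?_ ?_
      · rw [← map_pow, ← hc, conj_pow, inv_pow, Psl7.fano.hx, inv_one, mul_one, mul_inv_cancel, map_one]
      · intro h'
        have h3 : φ y = 1 := by rw [← map_one θ] at h'; exact θ.injective h'
        rw [h3, isConj_one_left, inv_eq_one] at h1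
        exact Psl7.fano.hx1 h1
    · have h3 := (h.shape t.pm (Y := X⁻¹) (y := y) (by rw [map_inv, hX]; exact h1)).2
      rw [h3, tXX']
      push_cast
      linear_combination (tr X⁻¹) * tXa - tXm

end L7

end Cfsg.Agent.H908
end

-- part: H908/L7Aut
section
/-!
# Automorphisms of `PSL₂(7)`; automorphisms induced by the normaliser
-/

set_option autoImplicit false
set_option linter.unusedSectionVars false

namespace Cfsg.Agent.H908

open Cfsg Cfsg.Geo
open scoped MatrixGroups

section Gen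
variable {F : Type*} [Field F] {T : Type*} [Group T] {P : Subgroup (GL (Fin 4) F)} {φ : P →* T}

/-- The automorphism of the quotient induced by an element of the normaliser. -/
theorem exists_aut [Finite T] (hC : Cov P φ) {g : GL (Fin 4) F} (hn : ∀ x ∈ P, g * x * g⁻¹ ∈ P)
    (hn' : ∀ x ∈ P, g⁻¹ * x * g ∈ P) :
    ∃ α : MulAut T, ∀ (x : P), α (φ x) = φ ⟨g * x * g⁻¹, hn x x.2⟩ := by
  let c : P →* P :=
    { toFun := fun x => ⟨g * x * g⁻¹, hn x x.2⟩
      map_one' := Subtype.ext (by simp)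
      map_mul' := fun x y => Subtype.ext (by
        change g * (x * y : GL (Fin 4) F) * g⁻¹ = g * x * g⁻¹ * (g * y * g⁻¹)
        group) }
  let f : P →* T := φ.comp c
  have hker : φ.ker ≤ f.ker := by
    intro x hx
    rw [MonoidHom.mem_ker] at hx ⊢
    obtain ⟨r, hr⟩ := (hC.ker x).1 hx
    have h1 : c x = x := by
      apply Subtype.ext
      change g * (x : GL (Fin 4) F) * g⁻¹ = x
      apply Units.ext
      rw [Matrix.GeneralLinearGroup.coe_mul, Matrix.GeneralLinearGroup.coe_mul]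
      have h2 : ((x : GL (Fin 4) F) : Matrix (Fin 4) (Fin 4) F) = r • 1 := hr
      rw [h2, mul_smul_comm, mul_one, smul_mul_assoc, ← Matrix.GeneralLinearGroup.coe_mul, mul_inv_cancel,
        Matrix.GeneralLinearGroup.coe_one]
    change φ (c x) = 1
    rw [h1, hx]
  let α₀ : T →* T := φ.liftOfSurjective hC.surj ⟨f, hker⟩
  have hα : ∀ x, α₀ (φ x) = f x := fun x => φ.liftOfRightInverse_comp_apply _ _ ⟨f, hker⟩ x
  have hsurj : Function.Surjective α₀ := by
    intro t
    obtain ⟨y, rfl⟩ := hC.surj t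
    refine ⟨φ ⟨g⁻¹ * y * g, hn' y y.2⟩, ?_⟩
    rw [hα]
    change φ (c _) = φ y
    congr 1
    apply Subtype.ext
    change g * (g⁻¹ * (y : GL (Fin 4) F) * g) * g⁻¹ = y
    group
  have hbij : Function.Bijective α₀ := (Finite.injective_iff_surjective.2 hsurj).bijective_of_nat_card_le le_rfl
  exact ⟨MulEquiv.ofBijective α₀ hbij, fun x => hα x⟩

end Gen

namespace Psl7

open Matrix Cfsg.Agent.ClassicalGeometry.AutPSL.Auto Cfsg.Agent.ClassicalGeometry.AutPSL.Main
  Cfsg.Agent.ClassicalGeometry.AutPSL.Root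

theorem cj_eq {A : GL (Fin 2) (ZMod 7)} {B : S} {r : ZMod 7}
    (h : (A : Matrix (Fin 2) (Fin 2) (ZMod 7)) = r • (B : Matrix (Fin 2) (Fin 2) (ZMod 7))) (g : S) :
    cj A g = B * g * B⁻¹ := by
  rw [eq_mul_inv_iff_mul_eq]
  apply Subtype.ext
  change (A : Matrix (Fin 2) (Fin 2) (ZMod 7)) * g.1 * ((A⁻¹ : GL (Fin 2) (ZMod 7)) : Matrix (Fin 2) (Fin 2) (ZMod 7)) *
    B.1 = B.1 * g.1
  have hr : r ≠ 0 := by
    rintro rfl
    have h1 := A.isUnit.ne_zero
    exact h1 (by rw [h, zero_smul])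
  have h2 : (B.1 : Matrix (Fin 2) (Fin 2) (ZMod 7)) = r⁻¹ • (A : Matrix (Fin 2) (Fin 2) (ZMod 7)) := by
    rw [h, smul_smul, inv_mul_cancel₀ hr, one_smul]
  rw [h2, mul_smul_comm, mul_assoc, ← Units.val_mul, inv_mul_cancel, Units.val_one, mul_one, smul_mul_assoc]

theorem squares : ∀ u : ZMod 7, u ≠ 0 → ∃ r : ZMod 7, r ≠ 0 ∧ (u = r * r ∨ u = -(r * r)) := by decide

theorem exists_B {A : GL (Fin 2) (ZMod 7)} {r : ZMod 7} (hr : r ≠ 0)
    (h : (A : Matrix (Fin 2) (Fin 2) (ZMod 7)).det = r * r) :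
    ∃ B : S, (A : Matrix (Fin 2) (Fin 2) (ZMod 7)) = r • (B : Matrix (Fin 2) (Fin 2) (ZMod 7)) := by
  refine ⟨⟨r⁻¹ • (A : Matrix (Fin 2) (Fin 2) (ZMod 7)), ?_⟩, ?_⟩
  · rw [det_smul, h, Fintype.card_fin]
    field_simp
  · change _ = r • (r⁻¹ • (A : Matrix (Fin 2) (Fin 2) (ZMod 7)))
    rw [smul_smul, mul_inv_cancel₀ hr, one_smul]

/-- the outer element -/
def N : GL (Fin 2) (ZMod 7) := ⟨!![-1, 0; 0, 1], !![-1, 0; 0, 1], by
  rw [mul_fin_two]; ext i j; (revert i j; simp only [_root_.Fin.forall_fin_succ, _root_.mul_neg, _root_.mul_one, _root_.neg_neg, _root_.MulZeroClass.mul_zero, _root_.add_zero, _root_.neg_zero, _root_.zero_add, _root_.Matrix.of_apply, _root_.Matrix.cons_val', _root_.Matrix.cons_val_fin_one, Fin.isValue, _root_.Matrix.cons_val_zero, _root_.Matrix.cons_val_succ, _root_.IsEmpty.forall_iff, _root_.and_true, _root_.Matrix.one_apply_eq, Nat.reduceAdd, _root_.Fin.succ_zero_eq_one, _root_.ne_eq, _root_.zero_ne_one, _root_.not_false_eq_true, _root_.Matrix.one_apply_ne,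 _root_.and_self, _root_.Fin.succ_ne_zero, _root_.true_and]), by
  rw [mul_fin_two]; ext i j; (revert i j; simp only [_root_.Fin.forall_fin_succ, _root_.mul_neg, _root_.mul_one, _root_.neg_neg, _root_.MulZeroClass.mul_zero, _root_.add_zero, _root_.neg_zero, _root_.zero_add, _root_.Matrix.of_apply, _root_.Matrix.cons_val', _root_.Matrix.cons_val_fin_one, Fin.isValue, _root_.Matrix.cons_val_zero, _root_.Matrix.cons_val_succ, _root_.IsEmpty.forall_iff, _root_.and_true, _root_.Matrix.one_apply_eq, Nat.reduceAdd, _root_.Fin.succ_zero_eq_one, _root_.ne_eq, _root_.zero_ne_one, _root_.not_false_eq_true, _root_.Matrix.one_apply_ne, _root_.and_self, _root_.Fin.succ_ne_zero, _root_.true_and])⟩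

theorem cj_N : cj N X = X⁻¹ := by
  rw [X_inv]
  apply Subtype.ext
  change (!![-1, 0; 0, 1] : Matrix (Fin 2) (Fin 2) (ZMod 7)) * !![1, 1; 0, 1] * !![-1, 0; 0, 1] = !![1, -1; 0, 1]
  rw [mul_fin_two, mul_fin_two]
  ext i j
  (revert i j; simp [_root_.Fin.forall_fin_succ])

/-- Automorphisms of `PSL₂(7)`. -/
theorem aut (α : MulAut T) : (∃ c : T, ∀ t, α t = c * t * c⁻¹) ∨ IsConj (α (π X)) (π X)⁻¹ := by
  have hp : Fact (Nat.Prime 7) := ⟨by norm_num⟩
  obtain ⟨A, σ, rfl⟩ := surj_two 7 α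
  have hσ : σ = 1 := by
    ext x
    have : (σ : ZMod 7 →+* ZMod 7) = RingHom.id _ := Subsingleton.elim _ _
    exact congrArg (fun f : ZMod 7 →+* ZMod 7 => f x) this
  rw [hσ, map_one, mul_one]
  have hpr : ∀ g : S, lift (cj A) (π g) = π (cj A g) := fun g => lift_pr _ _
  have hdet : (A : Matrix (Fin 2) (Fin 2) (ZMod 7)).det ≠ 0 :=
    ((Matrix.isUnit_iff_isUnit_det _).1 A.isUnit).ne_zero
  obtain ⟨r, hr, h | h⟩ := squares _ hdet
  · left
    obtain ⟨B, hB⟩ := exists_B hr h
    refine ⟨π B, fun t => ?_⟩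
    obtain ⟨g, rfl⟩ := π_surj t
    rw [hpr, cj_eq hB, map_mul, map_mul, map_inv]
  · right
    obtain ⟨B, hB⟩ := exists_B (A := A * N⁻¹) hr (by
      rw [Units.val_mul, det_mul, h]
      have : ((N⁻¹ : GL (Fin 2) (ZMod 7)) : Matrix (Fin 2) (Fin 2) (ZMod 7)) = !![-1, 0; 0, 1] := rfl
      rw [this, det_fin_two_of]
      ring)
    rw [hpr]
    have h1 : cj A X = B * X⁻¹ * B⁻¹ := by
      have h2 : A = A * N⁻¹ * N := by group
      rw [← cj_eq hB, ← cj_N]
      conv_lhs => rw [h2, map_mul]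
      rfl
    rw [h1, map_mul, map_mul, map_inv, map_inv]
    exact (isConj_iff.2 ⟨π B, rfl⟩ : (IsConj ((π X)⁻¹) _ :)).symm

end Psl7

end Cfsg.Agent.H908
end

-- part: H908/SevenUni
section
/-!
# The three-cycle is unitary
-/

set_option autoImplicit false
set_option linter.unusedSectionVars false

namespace Cfsg.Agent.H908.KL

open Matrix Cfsg Cfsg.Geo Cfsg.Agent.LieClassical.KleinSix Cfsg.Agent.LieClassical.HermBasic
  Cfsg.Agent.ClassicalGeometry.HermParabolic
open scoped MatrixGroups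

variable {F : Type*} [Field F]

/-- transvection-like elements -/
theorem act_sq_vec (e f : Fin 4 → F) (hef : f ⬝ᵥ e = 0) (u : Fin 3 ⊕ Fin 3 → F) :
    act (1 + vecMulVec e f) (act (1 + vecMulVec e f) u) + u = (2 : F) • act (1 + vecMulVec e f) u := by
  apply act_sq
  · rw [add_sub_cancel_left, vecMulVec_mul_vecMulVec, hef]
    simp
  · intro v
    rw [add_sub_cancel_left]
    ext i j
    simp only [Matrix.mul_apply, Fin.sum_univ_four, sk, vecMulVec_apply, _root_.Cfsg.Agent.LieClassical.KleinSix.sk, _root_.Fin.isValue, _root_.Matrix.transpose_vecMulVec, _root_.Matrix.mul_apply, _root_.Matrix.vecMulVec_apply, _root_.Matrix.of_apply, _root_.Matrix.cons_val', _root_.Matrix.cons_val_fin_one, _root_.Fin.sum_univ_four, _root_.Matrix.cons_val_zero, _root_.Matrix.cons_val_one, _root_.Matrix.cons_val, _root_.MulZeroClass.mul_zero, _root_.mul_neg, _root_.zero_add, _root_.add_zero, _root_.Matrix.zero_apply]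
    ring

theorem det_vec (e f : Fin 4 → F) (hef : f ⬝ᵥ e = 0) : (1 + vecMulVec e f).det = 1 := by
  rw [vecMulVec_eq Unit, det_one_add_replicateCol_mul_replicateRow, hef, add_zero]

section
variable [Fintype F] {q : ℕ} (hF : Fintype.card F = q ^ 2)

/-- the Frobenius map on vectors -/
def fr (u : Fin 3 ⊕ Fin 3 → F) : Fin 3 ⊕ Fin 3 → F := fun i => conj hF (u i)

theorem sk_fr (u : Fin 3 ⊕ Fin 3 → F) : sk (fr hF u) = (sk u).map (conj hF) := by
  ext i j
  (revert i j; simp only [sk, fr, _root_.Fin.forall_fin_succ, Fin.isValue, _root_.Matrix.of_apply, _root_.Matrix.cons_val', _root_.Matrix.cons_val_fin_one, _root_.Matrix.map_apply, _root_.Matrix.cons_val_zero, _root_.Matrix.cons_val_succ, _root_.forall_const, _root_.map_zero, _root_.and_self, _root_.map_neg, _root_.implies_true])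

theorem pf_fr (u : Fin 3 ⊕ Fin 3 → F) : pf (fr hF u) = conj hF (pf u) := by
  simp only [pf, fr, _root_.Cfsg.Agent.LieClassical.KleinSix.pf, _root_.Cfsg.Agent.H908.KL.fr, _root_.Fin.isValue, _root_.map_add, _root_.map_mul]

theorem hodge_fr (u : Fin 3 ⊕ Fin 3 → F) : hodge (fr hF u) = fr hF (hodge u) := rfl

theorem fr_sub (u v : Fin 3 ⊕ Fin 3 → F) : fr hF (u - v) = fr hF u - fr hF v := by
  funext i
  simp [fr]

/-- the semilinear map commuting with the special unitary group -/
def star' (u : Fin 3 ⊕ Fin 3 → F) : Fin 3 ⊕ Fin 3 → F := hodge (fr hF u)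

theorem star_act {g : Matrix (Fin 4) (Fin 4) F} (hg : gᵀ * g.map (conj hF) = 1) (hdet : g.det = 1)
    (u : Fin 3 ⊕ Fin 3 → F) : act g (star' hF u) = star' hF (act g u) := by
  have h1 : gᵀ * sk (hodge (act g (star' hF u))) * g = gᵀ * sk (hodge (star' hF (act g u))) * g := by
    rw [hodge_act, hdet, one_smul, star', hodge_hodge, star', hodge_hodge, sk_fr, sk_fr, sk_act, Matrix.map_mul,
      Matrix.map_mul, Matrix.transpose_map]
    have e1 : (g.map (conj hF))ᵀ * g = 1 := by
      have := congrArg Matrix.transpose hg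
      rwa [transpose_mul, transpose_transpose, transpose_one] at this
    calc (sk u).map (conj hF) = 1 * (sk u).map (conj hF) * 1 := by rw [one_mul, mul_one]
      _ = (gᵀ * g.map (conj hF)) * (sk u).map (conj hF) * ((g.map (conj hF))ᵀ * g) := by rw [hg, e1]
      _ = _ := by noncomm_ring
  have hu : IsUnit g := (Matrix.isUnit_iff_isUnit_det g).2 (by rw [hdet]; exact isUnit_one)
  have huT : IsUnit gᵀ := (Matrix.isUnit_iff_isUnit_det gᵀ).2 (by rw [det_transpose, hdet]; exact isUnit_one)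
  have h2 := hu.mul_right_cancel h1
  have h3 := huT.mul_left_cancel h2
  have h4 := sk_injective h3
  rw [← hodge_hodge (act g (star' hF u)), h4, hodge_hodge]

variable {P : Subgroup (GL (Fin 4) F)} {Ω : Type*} [Fintype Ω] [DecidableEq Ω]
  {ψ : P →* Equiv.Perm Ω} {v : Ω → Fin 3 ⊕ Fin 3 → F} {b : F}

theorem star_fam (h : Pts ψ) (h7 : (7 : F) ≠ 0) (hv : Fam ψ v b) (hP : P ≤ GU 4 F q) :
    ∃ c : F, ∀ y, star' hF (v y) = c • v y := by
  have hcomm : ∀ (g : P) (u : Fin 3 ⊕ Fin 3 → F), act (mt P g) (star' hF u) = star' hF (act (mt P g) u) :=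
    fun g u => star_act hF ((mem_GU_iff_matrix hF (g : GL (Fin 4) F)).1 (hP g.2)) (h.det g) u
  obtain ⟨x⟩ : Nonempty Ω := Fintype.card_pos_iff.1 (by rw [h.card]; norm_num)
  obtain ⟨c, hc⟩ := hv.unique h h7 x (w := star' hF (v x)) (fun s hs => by rw [hcomm, hv.eqv, hs])
  refine ⟨c, fun y => ?_⟩
  obtain ⟨g, hg⟩ : ∃ g : P, ψ g x = y := by
    by_cases hy : y = x
    · exact ⟨1, by rw [map_one, hy]; rfl⟩
    · obtain ⟨g, hg, -⟩ := h.two x y y x (Ne.symm hy) hy
      exact ⟨g, hg⟩
  rw [← hg, ← hv.eqv, ← hcomm, hc, act_smul]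

theorem cyc_unitary (h : Pts ψ) (h7 : (7 : F) ≠ 0) (hv : Fam ψ v b) (hP : P ≤ GU 4 F q) {x y z : Ω}
    (hxy : x ≠ y) (hyz : y ≠ z) : (cyc v b x y z)ᵀ * (cyc v b x y z).map (conj hF) = 1 := by
  obtain ⟨c, hc⟩ := star_fam hF h h7 hv hP
  have hc' : ∀ y, fr hF (v y) = c • hodge (v y) := by
    intro y
    have := congrArg hodge (hc y)
    rwa [star', hodge_hodge, hodge_smul] at this
  set! u := v x - v y with hu
  set! w := v y - v z with hw
  have eu : fr hF u = c • hodge u := by
    rw [hu, fr_sub, hc', hc', hodge_sub, smul_sub]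
  have ew : fr hF w = c • hodge w := by
    rw [hw, fr_sub, hc', hc', hodge_sub, smul_sub]
  have pu : pf u = -7 * b := pf_sub hv hxy
  have pw : pf w = -7 * b := pf_sub hv hyz
  have hN := N_ne_zero h7 hv
  have hpfc : ∀ (a : F) (t : Fin 3 ⊕ Fin 3 → F), pf (a • t) = a ^ 2 * pf t := by
    intro a t
    simp only [pf, Pi.smul_apply, smul_eq_mul]
    ring
  have hNq : conj hF (-7 * b) = c ^ 2 * (-7 * b) := by
    rw [← pu, ← pf_fr, eu, hpfc, pf_hodge]
  have hc0 : c ≠ 0 := by
    rintro rfl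
    rw [zero_pow two_ne_zero, zero_mul] at hNq
    exact hN ((map_eq_zero_iff _ (conj hF).injective).1 hNq)
  have e1 : (cyc v b x y z)ᵀ = (-7 * b)⁻¹ • (sk (hodge w) * sk u) := by
    rw [cyc, rr, transpose_smul, transpose_mul, transpose_sk, transpose_sk, neg_mul_neg]
  have e2 : (cyc v b x y z).map (conj hF) = (-7 * b)⁻¹ • (sk (hodge u) * sk w) := by
    rw [cyc, rr, Matrix.map_smul' (conj hF) _ _ (fun a b => map_mul (conj hF) a b)]
    rw [Matrix.map_mul, ← sk_fr, ← sk_fr, ← hodge_fr, eu, ew, hodge_smul, hodge_hodge, sk_smul, sk_smul,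
      smul_mul_smul_comm, smul_smul, map_inv₀, hNq]
    congr 1
    field_simp
  rw [e1, e2, smul_mul_smul_comm]
  have e3 : sk (hodge w) * sk u * (sk (hodge u) * sk w) = (-7 * b * (-7 * b)) • (1 : Matrix (Fin 4) (Fin 4) F) := by
    have : sk (hodge w) * sk u * (sk (hodge u) * sk w) = sk (hodge w) * (sk u * sk (hodge u)) * sk w := by
      noncomm_ring
    rw [this, sk_mul_hodge, mul_smul_comm, smul_mul_assoc, mul_one, hodge_mul_sk, smul_smul, pu, pw]
    congr 1
    ring
  rw [e3, smul_smul]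
  have : (-7 * b)⁻¹ * (-7 * b)⁻¹ * (-7 * b * (-7 * b)) = 1 := by
    rw [mul_assoc, inv_mul_cancel_left₀ hN, inv_mul_cancel₀ hN]
  rw [this, one_smul]

/-- a unitary transvection -/
theorem exists_unitary_transvection : ∃ (e f : Fin 4 → F), f ⬝ᵥ e = 0 ∧ e ≠ 0 ∧ f ≠ 0 ∧
    (1 + vecMulVec e f)ᵀ * (1 + vecMulVec e f).map (conj hF) = 1 := by
  obtain ⟨a, ha0, ha⟩ := exists_trace_zero_ne hF
  obtain ⟨ζ, hζ⟩ := _root_.Cfsg.Agent.LieClassical.HermBasic.exists_norm_eq hF (c := -1) (by
    have := (conj hF).map_neg 1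
    rw [map_one] at this
    exact this)
  set! e : Fin 4 → F := ![1, ζ, 0, 0] with he
  set! e' : Fin 4 → F := ![1, ζ ^ q, 0, 0] with he'
  have hee : e' ⬝ᵥ e = 0 := by
    simp only [he, he', dotProduct, Fin.sum_univ_four, cons_val_zero, cons_val_one, cons_val]
    linear_combination hζ
  have hee' : e ⬝ᵥ e' = 0 := by rw [dotProduct_comm, hee]
  have hq : q ≠ 0 := by
    rintro rfl
    simp at hF
  have ec : (fun i => conj hF (e i)) = e' := by
    funext i
    (revert i; simp only [he, he', conj_apply, hq, _root_.Fin.forall_fin_succ, Fin.isValue, _root_.Matrix.cons_val_zero, _root_.one_pow, _root_.Matrix.cons_val_succ, _root_.ne_eq, _root_.not_false_eq_true, _root_.zero_pow, _root_.Matrix.cons_val_fin_one, _root_.implies_true, _root_.and_self])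
  have ec' : (fun i => conj hF (e' i)) = e := by
    rw [← ec]
    funext i
    simp only [conj_apply]
    exact pow_q_pow_q hF (e i)
  refine ⟨e, a • e', by rw [smul_dotProduct, hee, smul_zero], ?_, ?_, ?_⟩
  · intro h
    have := congrFun h 0
    simp [he] at this
  · intro h
    have := congrFun h 0
    simp [he', ha0] at this
  · have e1 : (1 + vecMulVec e (a • e'))ᵀ = 1 + a • vecMulVec e' e := by
      rw [transpose_add, transpose_one, transpose_vecMulVec, smul_vecMulVec]
    have e2 : (1 + vecMulVec e (a • e')).map (conj hF) = 1 + (conj hF a) • vecMulVec e' e := by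
      ext i j
      have h1 := congrFun ec i
      have h2 := congrFun ec' j
      change conj hF (e i) = e' i at h1
      change conj hF (e' j) = e j at h2
      rw [Matrix.map_apply, Matrix.add_apply, Matrix.add_apply, vecMulVec_apply, Matrix.smul_apply, vecMulVec_apply,
        Pi.smul_apply, smul_eq_mul, smul_eq_mul, map_add, map_mul, map_mul, h1, h2]
      by_cases hij : i = j
      · subst hij
        rw [one_apply_eq, map_one]
        ring
      · rw [one_apply_ne hij, map_zero]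
        ring
    rw [e1, e2, add_mul, mul_add, mul_add, one_mul, mul_one, one_mul, smul_mul_smul_comm, vecMulVec_mul_vecMulVec, hee']
    have : conj hF a = - a := by
      rw [conj_apply]
      linear_combination ha
    rw [this]
    simp

end

end Cfsg.Agent.H908.KL
end

-- part: H908/L7Not
section
/-!
# A core `L₂(7)` in dimension four does not give a maximal subgroup
-/

set_option autoImplicit false
set_option linter.unusedSectionVars false

namespace Cfsg.Agent.H908

open Cfsg Cfsg.Geo Module Cfsg.Agent.LieClassical.KleinSix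
open scoped MatrixGroups commutatorElement

variable {F : Type*} [Field F] {P : Subgroup (GL (Fin 4) F)}

/-- an invariant skew matrix gives real traces. -/
theorem real_of_skew (hP : ActsAbsolutelyIrreducibly (matrixSet P)) {u : Fin 3 ⊕ Fin 3 → F} (hu : u ≠ 0)
    (hfix : ∀ g : P, act (mt P g) u = u) :
    ∀ g ∈ P, ((g⁻¹ : GL (Fin 4) F) : Matrix (Fin 4) (Fin 4) F).trace = (g : Matrix (Fin 4) (Fin 4) F).trace := by
  set! A := sk u with hA
  have hA0 : A ≠ 0 := by
    intro h
    apply hu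
    apply sk_injective
    rw [← hA, h]
    ext i j
    (revert i j; simp only [sk, _root_.Fin.forall_fin_succ, _root_.Matrix.zero_apply, _root_.Pi.zero_apply, _root_.neg_zero, _root_.Matrix.of_apply, _root_.Matrix.cons_val', _root_.Matrix.cons_val_fin_one, Fin.isValue, _root_.Matrix.cons_val_zero, _root_.Matrix.cons_val_succ, _root_.forall_const, _root_.and_self, _root_.implies_true])
  have hgA : ∀ g : P, mt P g * A * (mt P g).transpose = A := by
    intro g
    rw [hA, ← sk_act, hfix]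
  have hinv : ∀ g : P, mt P g * A = A * (mt P g⁻¹).transpose := by
    intro g
    have h1 : (mt P g).transpose * (mt P g⁻¹).transpose = 1 := by
      rw [← Matrix.transpose_mul, ← map_mul, inv_mul_cancel, map_one, Matrix.transpose_one]
    calc mt P g * A = mt P g * A * ((mt P g).transpose * (mt P g⁻¹).transpose) := by rw [h1, mul_one]
      _ = mt P g * A * (mt P g).transpose * (mt P g⁻¹).transpose := by rw [← mul_assoc]
      _ = _ := by rw [hgA]
  have hW := hP.1 (LinearMap.range (Matrix.toLin' A)) (by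
    rintro _ ⟨g, hg, rfl⟩
    rintro _ ⟨w, ⟨z, rfl⟩, rfl⟩
    have h1 := hinv ⟨g, hg⟩
    refine ⟨Matrix.toLin' ((mt P (⟨g, hg⟩ : P)⁻¹).transpose) z, ?_⟩
    rw [← LinearMap.comp_apply, ← Matrix.toLin'_mul, ← LinearMap.comp_apply, ← Matrix.toLin'_mul, ← h1]
    rfl)
  have hunit : IsUnit A := by
    rcases hW with h1 | h1
    · exfalso
      apply hA0
      rw [LinearMap.range_eq_bot] at h1
      exact Matrix.toLin'.injective (by rw [h1, map_zero])
    · have h3 := LinearMap.range_eq_top.1 h1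
      have h4 : IsUnit (Matrix.toLin' A) := (LinearMap.isUnit_iff_range_eq_top _).2 h1
      have h5 := (LinearMap.isUnit_iff_isUnit_det _).1 h4
      rw [LinearMap.det_toLin'] at h5
      exact (Matrix.isUnit_iff_isUnit_det A).2 h5
  intro g hg
  have h1 := hinv ⟨g, hg⟩
  obtain ⟨B, hB⟩ := hunit
  have h2 : (g : Matrix (Fin 4) (Fin 4) F) * A = A * ((g⁻¹ : GL (Fin 4) F) : Matrix (Fin 4) (Fin 4) F).transpose := h1
  rw [← Matrix.trace_transpose ((g⁻¹ : GL (Fin 4) F) : Matrix (Fin 4) (Fin 4) F)]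
  have h3 : ((g⁻¹ : GL (Fin 4) F) : Matrix (Fin 4) (Fin 4) F).transpose =
      (↑B⁻¹ : Matrix (Fin 4) (Fin 4) F) * ((g : Matrix (Fin 4) (Fin 4) F) * A) := by
    rw [h2, ← hB, ← mul_assoc, Units.inv_mul, one_mul]
  rw [h3, ← hB, ← mul_assoc, Matrix.trace_mul_comm, ← mul_assoc, Units.mul_inv, one_mul]

variable [Finite F]

theorem l7_pts {φ : P →* Psl7.T} (h : Cov P φ) (t : Cov.Two φ) (h2 : (2 : F) ≠ 0) (h7 : (7 : F) ≠ 0)
    (θ : Psl7.T ≃* L3Two.T3) (hP : ActsAbsolutelyIrreducibly (matrixSet P))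
    (hq : ¬ ∃ Q : (Fin 4 → F) → F, IsNondegenerateQuadraticForm Q ∧ FixesQuadForm (matrixSet P) Q)
    (hs : ¬ ∃ f : (Fin 4 → F) → (Fin 4 → F) → F, IsSymplecticForm f ∧ FixesForm (matrixSet P) f) :
    KL.Pts (pts φ θ) where
  card := L3Two.card_pt
  det := h.det
  two := by
    intro x y z w hxy hzw
    obtain ⟨s, hs⟩ := L3Two.two x y z w hxy hzw
    obtain ⟨r, rfl⟩ := θ.surjective s
    obtain ⟨g, rfl⟩ := h.surj r
    exact ⟨g, hs⟩
  tr := by
    intro g
    obtain ⟨n, hn, htr, -⟩ := fix_cases h t h2 h7 θ g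
    rw [htr, hn]
  nofix := by
    intro u hu
    by_contra hu0
    rcases quad_or_symp_of_real h2 hP (real_of_skew hP hu0 hu) with h1 | h1
    · exact hq h1
    · exact hs h1
  stab := by
    intro x y hxy
    have : Finite P := Cov.finite_P (P := P)
    let D : Subgroup P :=
      { carrier := {g | pts φ θ g x = x ∧ pts φ θ g y = y}
        mul_mem' := by
          rintro a b ⟨ha1, ha2⟩ ⟨hb1, hb2⟩
          exact ⟨by rw [map_mul, Equiv.Perm.mul_apply, hb1, ha1], by rw [map_mul, Equiv.Perm.mul_apply, hb2, ha2]⟩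
        one_mem' := ⟨by rw [map_one]; rfl, by rw [map_one]; rfl⟩
        inv_mem' := by
          rintro a ⟨ha1, ha2⟩
          exact ⟨by rw [map_inv, Equiv.Perm.inv_eq_iff_eq.2 ha1.symm],
            by rw [map_inv, Equiv.Perm.inv_eq_iff_eq.2 ha2.symm]⟩ }
    have hD : IsPGroup 2 D := by
      rintro ⟨g, hg1, hg2⟩
      refine ⟨2, Subtype.ext ?_⟩
      obtain ⟨n, hn, -, -, h4⟩ := fix_cases h t h2 h7 θ g
      apply h4
      rw [← hn]
      have h5 : ({x, y} : Finset L3Two.Pt) ⊆ Finset.univ.filter fun z => pts φ θ g z = z := by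
        intro z hz
        rw [Finset.mem_insert, Finset.mem_singleton] at hz
        rw [Finset.mem_filter]
        rcases hz with rfl | rfl
        · exact ⟨Finset.mem_univ _, hg1⟩
        · exact ⟨Finset.mem_univ _, hg2⟩
      have h6 := Finset.card_le_card h5
      rwa [Finset.card_pair hxy] at h6
    have hfac : Fact (Nat.Prime 2) := ⟨Nat.prime_two⟩
    obtain ⟨k, hk⟩ := IsPGroup.iff_card.1 hD
    have h5 : Nat.card {g : P // pts φ θ g x = x ∧ pts φ θ g y = y} = 2 ^ k := hk
    rw [h5]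
    push_cast
    exact pow_ne_zero _ h2

/-- the normaliser of `P` -/
theorem l7_normalizer {φ : P →* Psl7.T} (h : Cov P φ) (h7 : (7 : F) ≠ 0) {H : Subgroup (GL (Fin 4) F)}
    (hc : IsResidualCore H P) :
    ∀ g ∈ H, ∃ (y : P) (c : F), (g : Matrix (Fin 4) (Fin 4) F) = c • mt P y := by
  intro g hg
  have hn : ∀ x ∈ P, g * x * g⁻¹ ∈ P := hc.normal g hg
  have hn' : ∀ x ∈ P, g⁻¹ * x * g ∈ P := fun x hx => by
    have := hc.normal g⁻¹ (H.inv_mem hg) x hx
    rwa [inv_inv] at this
  have hT : Finite Psl7.T := by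
    have : Finite P := Cov.finite_P (P := P)
    exact Finite.of_surjective φ h.surj
  obtain ⟨α, hα⟩ := exists_aut h hn hn'
  rcases Psl7.aut α with ⟨c, hcα⟩ | hconj
  · obtain ⟨y, rfl⟩ := h.surj c
    have hmem : (y : GL (Fin 4) F)⁻¹ * g ∈ H := H.mul_mem (H.inv_mem (hc.le y.2)) hg
    have hsc : (y : GL (Fin 4) F)⁻¹ * g ∈ scalars (Fin 4) F := by
      apply hc.centralizer_scalar _ hmem
      intro x hx
      have e1 := hα ⟨x, hx⟩
      rw [hcα] at e1
      -- the element of `P`
      have hw : (y : GL (Fin 4) F)⁻¹ * g * x * ((y : GL (Fin 4) F)⁻¹ * g)⁻¹ * x⁻¹ ∈ P := by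
        have : (y : GL (Fin 4) F)⁻¹ * g * x * ((y : GL (Fin 4) F)⁻¹ * g)⁻¹ * x⁻¹ =
          (y : GL (Fin 4) F)⁻¹ * (g * x * g⁻¹) * y * x⁻¹ := by group
        rw [this]
        exact P.mul_mem (P.mul_mem (P.mul_mem (P.inv_mem y.2) (hn x hx)) y.2) (P.inv_mem hx)
      have e2 : φ ⟨_, hw⟩ = 1 := by
        have : (⟨_, hw⟩ : P) = y⁻¹ * ⟨g * x * g⁻¹, hn x hx⟩ * y * ⟨x, hx⟩⁻¹ := by
          apply Subtype.ext
          change (y : GL (Fin 4) F)⁻¹ * g * x * ((y : GL (Fin 4) F)⁻¹ * g)⁻¹ * x⁻¹ =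
            (y : GL (Fin 4) F)⁻¹ * (g * x * g⁻¹) * y * x⁻¹
          group
        rw [this, map_mul, map_mul, map_mul, map_inv, map_inv, ← e1]
        group
      obtain ⟨c, hc'⟩ := (h.ker _).1 e2
      rw [mem_scalars_iff]
      have hc0 : c ≠ 0 := by
        rintro rfl
        rw [zero_smul] at hc'
        have h3 := h.det ⟨_, hw⟩
        rw [hc', Matrix.det_zero] at h3
        exact zero_ne_one h3
      exact ⟨Units.mk0 c hc0, hc'⟩
    obtain ⟨c, hcc⟩ := (mem_scalars_iff _).1 hsc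
    refine ⟨y, c, ?_⟩
    have e3 : g = y * ((y : GL (Fin 4) F)⁻¹ * g) := by group
    conv_lhs => rw [e3]
    rw [Matrix.GeneralLinearGroup.coe_mul, hcc, mul_smul_comm, mul_one]
    rfl
  · exfalso
    obtain ⟨X, E, hX, hE, hXo, -, -, tXa, tXm, -, -⟩ := h.fano_traces h7 Psl7.fano
    have hX' : φ X = Psl7.π Psl7.X := hX
    rw [← hX', hα X] at hconj
    obtain ⟨c, hc'⟩ := isConj_iff.1 hconj
    obtain ⟨y, rfl⟩ := h.surj c
    set X' : P := ⟨g * X * g⁻¹, hn X X.2⟩ with hXX
    have ho : orderOf X' = orderOf X := by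
      rw [← Subgroup.orderOf_coe, ← Subgroup.orderOf_coe]
      exact MulEquiv.orderOf_eq (MulAut.conj g) (X : GL (Fin 4) F)
    have e1 : y * X' * y⁻¹ = X⁻¹ := by
      apply h.conj_lift _ (by rwa [ho]) (by rwa [orderOf_inv])
      rw [map_mul, map_mul, map_inv, hc', map_inv]
    have e2 : tr X⁻¹ = tr X := by
      rw [← e1, tr_conj]
      change (((g * X * g⁻¹ : GL (Fin 4) F)) : Matrix (Fin 4) (Fin 4) F).trace = ((X : GL (Fin 4) F) : Matrix (Fin 4) (Fin 4) F).trace
      rw [Matrix.GeneralLinearGroup.coe_mul, Matrix.trace_mul_comm, ← Matrix.GeneralLinearGroup.coe_mul]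
      congr 2
      group
    rw [e2] at tXa tXm
    apply h7
    linear_combination (2 * tr X + 1) * tXa - 4 * tXm

/-- **A core with socle `L₂(7)` does not give a maximal subgroup.** -/
theorem l7_not_maximal {φ : P →* Psl7.T} (h : Cov P φ) (h2 : (2 : F) ≠ 0) (h7 : (7 : F) ≠ 0)
    {H S : Subgroup (GL (Fin 4) F)} (hc : IsResidualCore H P)
    (hq : ¬ ∃ Q : (Fin 4 → F) → F, IsNondegenerateQuadraticForm Q ∧ FixesQuadForm (matrixSet P) Q)
    (hs : ¬ ∃ f : (Fin 4 → F) → (Fin 4 → F) → F, IsSymplecticForm f ∧ FixesForm (matrixSet P) f)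
    (hmax : IsMaximalIn S H) (hdet : ∀ g ∈ S, (g : Matrix (Fin 4) (Fin 4) F).det = 1)
    (ht : ∀ (θ : Psl7.T ≃* L3Two.T3) (v : L3Two.Pt → Fin 3 ⊕ Fin 3 → F) (b : F), KL.Pts (pts φ θ) →
      KL.Fam (pts φ θ) v b → ∀ x y z : L3Two.Pt, x ≠ y → y ≠ z → x ≠ z →
        ∃ t ∈ S, (t : Matrix (Fin 4) (Fin 4) F) = KL.cyc v b x y z)
    (hτ : ∃ τ ∈ S, (∀ c : F, (τ : Matrix (Fin 4) (Fin 4) F) ≠ c • 1) ∧
      ∀ u : Fin 3 ⊕ Fin 3 → F, act (τ : Matrix (Fin 4) (Fin 4) F) (act (τ : Matrix (Fin 4) (Fin 4) F) u) + u =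
        (2 : F) • act (τ : Matrix (Fin 4) (Fin 4) F) u) : False := by
  have hfac : Fact (Nat.Prime 7) := ⟨by norm_num⟩
  obtain ⟨θ⟩ := Cfsg.Agent.S0255.result (F := ZMod 7) (K := ZMod 2) (ZMod.card 7) (ZMod.card 2)
  have hfin : Finite P := Cov.finite_P (P := P)
  have t : Cov.Two φ := by
    rcases h.dih_two (Psl7.fano.dih 21 Psl7.card_T (by decide) Psl7.inv_conj) with hi | ⟨t, -⟩
    · exact absurd hi (fun hinj => no_fano h hinj hc.absIrred h7 Psl7.seven.toFano Psl7.bruhat Psl7.sxs)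
    · exact t
  have hpts := l7_pts h t h2 h7 θ hc.absIrred hq hs
  obtain ⟨v, b, hv⟩ := hpts.exists_fam h2
  refine KL.not_maximal hpts h2 h7 hv ?_ hmax hdet (l7_normalizer h h7 hc) (ht θ v b hpts hv) hτ
  intro g hg
  obtain ⟨n, hn, -, hn4, -⟩ := fix_cases h t h2 h7 θ g
  exact hn4 (hn.symm.trans hg)

end Cfsg.Agent.H908
end

-- part: H908/L7Main
section
/-!
# `L₂(7)` is not the socle of a maximal subgroup of `SL₄(q)` or `SU₄(q)`, `q` odd
-/

set_option autoImplicit false
set_option linter.unusedSectionVars false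

namespace Cfsg.Agent.H908

open Cfsg Cfsg.Geo Module Matrix Cfsg.Agent.LieClassical.KleinSix Cfsg.Agent.LieClassical.HermBasic
  Cfsg.Agent.ClassicalGeometry.HermParabolic
open scoped MatrixGroups commutatorElement

variable {F : Type*} [Field F] {P : Subgroup (GL (Fin 4) F)}

theorem mem_specialLinear {g : GL (Fin 4) F} :
    g ∈ specialLinear (Fin 4) F ↔ (g : Matrix (Fin 4) (Fin 4) F).det = 1 := by
  rw [specialLinear, MonoidHom.mem_ker, ← Units.val_inj]
  rfl

/-- a matrix of determinant one as an element of the general linear group -/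
noncomputable def toGL (M : Matrix (Fin 4) (Fin 4) F) (h : M.det = 1) : GL (Fin 4) F :=
  Matrix.GeneralLinearGroup.mkOfDetNeZero M (by rw [h]; exact one_ne_zero)

theorem vec_not_scalar {e f : Fin 4 → F} (he : e ≠ 0) (hf : f ≠ 0) (hef : f ⬝ᵥ e = 0) (c : F) :
    1 + vecMulVec e f ≠ c • 1 := by
  intro h
  obtain ⟨i, hi⟩ := Function.ne_iff.1 he
  obtain ⟨j, hj⟩ := Function.ne_iff.1 hf
  have h1 : vecMulVec e f = (c - 1) • (1 : Matrix (Fin 4) (Fin 4) F) := by
    rw [sub_smul, one_smul, ← h]; abel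
  have h2 : vecMulVec e f * vecMulVec e f = 0 := by
    rw [vecMulVec_mul_vecMulVec, hef]; simp
  rw [h1, smul_mul_smul_comm, mul_one] at h2
  have h3 : (c - 1) * (c - 1) = 0 := by
    have := congrFun (congrFun h2 0) 0
    simpa only [_root_.mul_eq_zero, _root_.or_self, _root_.Fin.isValue, _root_.Matrix.smul_apply, _root_.Matrix.one_apply_eq, _root_.smul_eq_mul, _root_.mul_one, _root_.Matrix.zero_apply] using this
  have h4 : c - 1 = 0 := mul_self_eq_zero.1 h3
  rw [h4, zero_smul] at h1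
  have := congrFun (congrFun h1 i) j
  rw [vecMulVec_apply] at this
  exact (mul_ne_zero hi hj) this

variable [Finite F]

/-- **`SL₄(q)`.** -/
theorem l7_not_maximal_sl {φ : P →* Psl7.T} (h : Cov P φ) (h2 : (2 : F) ≠ 0) (h7 : (7 : F) ≠ 0)
    {H : Subgroup (GL (Fin 4) F)} (hc : IsResidualCore H P)
    (hq : ¬ ∃ Q : (Fin 4 → F) → F, IsNondegenerateQuadraticForm Q ∧ FixesQuadForm (matrixSet P) Q)
    (hs : ¬ ∃ f : (Fin 4 → F) → (Fin 4 → F) → F, IsSymplecticForm f ∧ FixesForm (matrixSet P) f)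
    (hmax : IsMaximalIn (specialLinear (Fin 4) F) H) : False := by
  refine l7_not_maximal h h2 h7 hc hq hs hmax (fun g hg => mem_specialLinear.1 hg) ?_ ?_
  · intro θ v b hp hv x y z hxy hyz _
    exact ⟨toGL _ (KL.det_cyc h7 hv hxy hyz), mem_specialLinear.2 (KL.det_cyc h7 hv hxy hyz), rfl⟩
  · have he : (Pi.single 0 1 : Fin 4 → F) ≠ 0 := by simp
    have hf : (Pi.single 1 1 : Fin 4 → F) ≠ 0 := by simp
    have hef : (Pi.single 1 1 : Fin 4 → F) ⬝ᵥ (Pi.single 0 1 : Fin 4 → F) = 0 := by simp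
    exact ⟨toGL _ (KL.det_vec _ _ hef), mem_specialLinear.2 (KL.det_vec _ _ hef), vec_not_scalar he hf hef,
      KL.act_sq_vec _ _ hef⟩

end Cfsg.Agent.H908

namespace Cfsg.Agent.H908

open Cfsg Cfsg.Geo Module Matrix Cfsg.Agent.LieClassical.KleinSix Cfsg.Agent.LieClassical.HermBasic
  Cfsg.Agent.ClassicalGeometry.HermParabolic
open scoped MatrixGroups commutatorElement

variable {F : Type*} [Field F] [Fintype F] {P : Subgroup (GL (Fin 4) F)}

/-- **`SU₄(q)`.** -/
theorem l7_not_maximal_su {q : ℕ} (hF : Fintype.card F = q ^ 2) {φ : P →* Psl7.T} (h : Cov P φ) (h2 : (2 : F) ≠ 0)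
    (h7 : (7 : F) ≠ 0) {H : Subgroup (GL (Fin 4) F)} (hc : IsResidualCore H P)
    (hq : ¬ ∃ Q : (Fin 4 → F) → F, IsNondegenerateQuadraticForm Q ∧ FixesQuadForm (matrixSet P) Q)
    (hs : ¬ ∃ f : (Fin 4 → F) → (Fin 4 → F) → F, IsSymplecticForm f ∧ FixesForm (matrixSet P) f)
    (hmax : IsMaximalIn (GU 4 F q ⊓ specialLinear (Fin 4) F) H) : False := by
  have hPU : P ≤ GU 4 F q := (hc.le.trans hmax.1.le).trans inf_le_left
  refine l7_not_maximal h h2 h7 hc hq hs hmax (fun g hg => mem_specialLinear.1 hg.2) ?_ ?_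
  · intro θ v b hp hv x y z hxy hyz _
    have hd := KL.det_cyc h7 hv hxy hyz
    refine ⟨toGL _ hd, ⟨?_, mem_specialLinear.2 hd⟩, rfl⟩
    exact (mem_GU_iff_matrix hF _).2 (KL.cyc_unitary hF hp h7 hv hPU hxy hyz)
  · obtain ⟨e, f, hef, he, hf, hu⟩ := KL.exists_unitary_transvection hF
    refine ⟨toGL _ (KL.det_vec _ _ hef), ⟨?_, mem_specialLinear.2 (KL.det_vec _ _ hef)⟩, vec_not_scalar he hf hef,
      KL.act_sq_vec _ _ hef⟩
    exact (mem_GU_iff_matrix hF _).2 hu

end Cfsg.Agent.H908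
end

private theorem dce_a6bbc62c7051 : _root_.True := by
  try have : _root_.True := by simp only [_root_.Cfsg.Agent.H908.L3Two.toR.eq_1]
  try have : _root_.True := by simp only [_root_.Cfsg.Geo.specialLinear.eq_1]
  try have : _root_.True := by simp only [_root_.Cfsg.Agent.H908.L3Two.row.eq_1]
  try have : _root_.True := by simp only [_root_.Cfsg.Agent.H908.L3Two.mulR.eq_1]
  try have : _root_.True := by simp only [_root_.Cfsg.Agent.H908.KL.fr.eq_1]
  try have : _root_.True := by simp only [_root_.Cfsg.Agent.H908.KL.star'.eq_1]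
  try have : _root_.True := by simp only [_root_.Cfsg.Agent.H908.KL.fr.congr_simp]
  exact _root_.True.intro
end
end
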