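import Cfsg.Agent.H908.SLTrans
import Cfsg.Agent.H905.SLProper3
import Cfsg.Agent.H908.Conj
set_option linter.all false

-- part: H908/Decomp
section
/-!
# Decompositions in coordinates

* `card_eq_of_decomp` : `t * m = n` for an `m`-decomposition of `F^n` with `t` members;
* `exists_frame` : a matrix `P` taking the coordinate blocks to the members;
* `block_of_mem` : a member of the stabiliser permutes the blocks.
-/

set_option autoImplicit false
set_option linter.style.haveILetI false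

namespace Cfsg.Agent.H908

open Cfsg.Geo Matrix

variable {F : Type*} [Field F] {n t m : ℕ}

theorem exists_adapted {D : Fin t → Submodule F (Fin n → F)} (hD : IsMDecomposition m D) :
    ∃ b : Module.Basis (Fin t × Fin m) F (Fin n → F), ∀ i j, b (i, j) ∈ D i := by
  classical
  have hint : DirectSum.IsInternal D :=
    DirectSum.isInternal_submodule_of_iSupIndep_of_iSup_eq_top hD.indep hD.iSup_eq_top
  let v : ∀ i, Module.Basis (Fin m) F (D i) := fun i =>
    Module.finBasisOfFinrankEq F (D i) (hD.finrank_eq i)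
  refine ⟨(hint.collectedBasis v).reindex (Equiv.sigmaEquivProd (Fin t) (Fin m)), fun i j => ?_⟩
  rw [Module.Basis.reindex_apply]
  exact hint.collectedBasis_mem v ⟨i, j⟩

theorem card_eq_of_decomp {D : Fin t → Submodule F (Fin n → F)} (hD : IsMDecomposition m D) :
    t * m = n := by
  obtain ⟨b, -⟩ := exists_adapted hD
  have := Module.finrank_eq_card_basis b
  rw [Module.finrank_fin_fun, Fintype.card_prod, Fintype.card_fin, Fintype.card_fin] at this
  exact this.symm

/-- Coordinates adapted to a decomposition. -/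
theorem exists_frame {D : Fin t → Submodule F (Fin n → F)} (hD : IsMDecomposition m D)
    (e : Fin t × Fin m ≃ Fin n) : ∃ P : GL (Fin n) F, ∀ i (v : Fin n → F),
      (P : Matrix (Fin n) (Fin n) F) *ᵥ v ∈ D i ↔ ∀ k, (e.symm k).1 ≠ i → v k = 0 := by
  classical
  obtain ⟨b, hb⟩ := exists_adapted hD
  let b' := b.reindex e
  let L : (Fin n → F) ≃ₗ[F] (Fin n → F) := (Pi.basisFun F (Fin n)).equiv b' (Equiv.refl _)
  have hL : ∀ v : Fin n → F, L v = ∑ k, v k • b' k := by
    intro v
    conv_lhs => rw [← (Pi.basisFun F (Fin n)).sum_repr v]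
    rw [map_sum]
    apply Finset.sum_congr rfl
    intro k _
    rw [map_smul, Module.Basis.equiv_apply]
    simp
  let A : Matrix (Fin n) (Fin n) F := LinearMap.toMatrix' (L : (Fin n → F) →ₗ[F] (Fin n → F))
  have hA : A.det ≠ 0 := by
    rw [LinearMap.det_toMatrix']
    exact (LinearEquiv.isUnit_det' L).ne_zero
  refine ⟨Matrix.GeneralLinearGroup.mkOfDetNeZero A hA, fun i v => ?_⟩
  have hv : ((Matrix.GeneralLinearGroup.mkOfDetNeZero A hA : GL (Fin n) F) :
      Matrix (Fin n) (Fin n) F) *ᵥ v = L v := by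
    change A *ᵥ v = _
    rw [← Matrix.toLin'_apply, Matrix.toLin'_toMatrix']
    rfl
  rw [hv, hL]
  have hb' : ∀ k, b' k ∈ D (e.symm k).1 := by
    intro k
    have : b' k = b ((e.symm k).1, (e.symm k).2) := by
      simp [b', Module.Basis.reindex_apply]
    rw [this]
    exact hb _ _
  have hsplit : ∀ v : Fin n → F, ∀ i, (∀ k, (e.symm k).1 ≠ i → v k = 0) →
      ∑ k, v k • b' k ∈ D i := by
    intro v i h
    apply Submodule.sum_mem
    intro k _
    by_cases hk : (e.symm k).1 = i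
    · exact (D i).smul_mem _ (hk ▸ hb' k)
    · rw [h k hk, zero_smul]; exact (D i).zero_mem
  constructor
  · intro h k hk
    -- subtract the block `i`
    let u : Fin n → F := fun k => if (e.symm k).1 = i then v k else 0
    let w : Fin n → F := fun k => if (e.symm k).1 = i then 0 else v k
    have huw : ∑ k, v k • b' k = ∑ k, u k • b' k + ∑ k, w k • b' k := by
      rw [← Finset.sum_add_distrib]
      apply Finset.sum_congr rfl
      intro k _
      simp only [u, w]
      split_ifs <;> simp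
    have hu : ∑ k, u k • b' k ∈ D i := hsplit u i (fun k hk => by simp only [u]; rw [if_neg hk])
    have hw : ∑ k, w k • b' k ∈ D i := by
      have := (D i).sub_mem h hu
      rw [huw] at this
      simpa using this
    have hw' : ∑ k, w k • b' k ∈ ⨆ j, ⨆ (_ : j ≠ i), D j := by
      apply Submodule.sum_mem
      intro k _
      by_cases hk : (e.symm k).1 = i
      · simp only [w]; rw [if_pos hk, zero_smul]; exact Submodule.zero_mem _
      · apply Submodule.smul_mem
        exact (le_iSup₂_of_le (f := fun j (_ : j ≠ i) => D j) (e.symm k).1 hk le_rfl) (hb' k)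
    have h0 : ∑ k, w k • b' k = 0 := (Submodule.disjoint_def.1 (hD.indep i)) _ hw hw'
    have := Fintype.linearIndependent_iff.1 b'.linearIndependent w h0 k
    simp only [w] at this
    rwa [if_neg hk] at this
  · exact hsplit v i

/-- A member of the stabiliser of the decomposition permutes the blocks. -/
theorem block_of_mem {D : Fin t → Submodule F (Fin n → F)}
    {e : Fin t × Fin m ≃ Fin n} {P : GL (Fin n) F} (hP : ∀ i (v : Fin n → F),
      (P : Matrix (Fin n) (Fin n) F) *ᵥ v ∈ D i ↔ ∀ k, (e.symm k).1 ≠ i → v k = 0)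
    {g : GL (Fin n) F} {σ : Equiv.Perm (Fin t)}
    (hσ : ∀ i, (D i).map (Matrix.toLin' (g : Matrix (Fin n) (Fin n) F)) = D (σ i)) (k l : Fin n)
    (hkl : (e.symm k).1 ≠ σ (e.symm l).1) :
    ((P⁻¹ * g * P : GL (Fin n) F) : Matrix (Fin n) (Fin n) F) k l = 0 := by
  classical
  have h1 : (P : Matrix (Fin n) (Fin n) F) *ᵥ (Pi.single l 1) ∈ D (e.symm l).1 := by
    rw [hP]
    intro k' hk'
    have : k' ≠ l := fun h => hk' (by rw [h])
    rw [Pi.single_eq_of_ne this]
  have h2 : (g : Matrix (Fin n) (Fin n) F) *ᵥ ((P : Matrix (Fin n) (Fin n) F) *ᵥ (Pi.single l 1)) ∈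
      D (σ (e.symm l).1) := by
    rw [← hσ]
    exact ⟨_, h1, rfl⟩
  have h3 : (P : Matrix (Fin n) (Fin n) F) *ᵥ
      (((P⁻¹ * g * P : GL (Fin n) F) : Matrix (Fin n) (Fin n) F) *ᵥ (Pi.single l 1)) ∈
      D (σ (e.symm l).1) := by
    rw [Matrix.mulVec_mulVec, ← Units.val_mul]
    have : P * (P⁻¹ * g * P) = g * P := by simp [mul_assoc]
    rw [this, Units.val_mul, ← Matrix.mulVec_mulVec]
    exact h2
  rw [hP] at h3
  have h4 := h3 k hkl
  rw [Matrix.mulVec_single_one] at h4
  exact h4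

end Cfsg.Agent.H908
end

-- part: H908/Planes
section
/-!
# Pairs of planes in dimension four, `|F| ≤ 3`: the stabiliser in `SL_4` fixes a symplectic form up
to scalars
-/

set_option autoImplicit false
set_option linter.style.haveILetI false

namespace Cfsg.Agent.H908

open Cfsg.Geo Matrix

variable {F : Type*} [Field F]

/-- The form `det ⊕ det`. -/
def detForm (u v : Fin 4 → F) : F := u 0 * v 1 - u 1 * v 0 + (u 2 * v 3 - u 3 * v 2)

theorem detForm_symplectic : IsSymplecticForm (detForm (F := F)) where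
  bilinear := {
    add_left := fun x y v => by simp only [detForm, Pi.add_apply]; ring
    smul_left := fun c x v => by simp only [detForm, Pi.smul_apply, smul_eq_mul]; ring
    add_right := fun v x y => by simp only [detForm, Pi.add_apply]; ring
    smul_right := fun c v x => by simp only [detForm, Pi.smul_apply, smul_eq_mul]; ring }
  skew := fun v w => by simp only [detForm]; ring
  alternating := fun v => by simp only [detForm]; ring
  nondegenerate := by
    intro v hv
    obtain ⟨i, hi⟩ : ∃ i, v i ≠ 0 := by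
      by_contra hc
      push Not at hc
      exact hv (funext hc)
    have key : ∃ x : Fin 4 → F, detForm v x ≠ 0 := by
      fin_cases i
      · exact ⟨Pi.single 1 1, by simpa [detForm] using hi⟩
      · exact ⟨Pi.single 0 1, by simpa [detForm] using hi⟩
      · exact ⟨Pi.single 3 1, by simpa [detForm] using hi⟩
      · exact ⟨Pi.single 2 1, by simpa [detForm] using hi⟩
    refine ⟨?_, key⟩
    obtain ⟨x, hx⟩ := key
    refine ⟨x, fun h => hx ?_⟩
    have : detForm v x = - detForm x v := by simp only [detForm]; ring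
    rw [this, h, neg_zero]

theorem symplectic_conj {n : ℕ} {f : (Fin n → F) → (Fin n → F) → F} (hf : IsSymplecticForm f)
    (P : GL (Fin n) F) : IsSymplecticForm (fun u v =>
      f (((P⁻¹ : GL (Fin n) F) : Matrix (Fin n) (Fin n) F) *ᵥ u)
        (((P⁻¹ : GL (Fin n) F) : Matrix (Fin n) (Fin n) F) *ᵥ v)) where
  bilinear := {
    add_left := fun x y v => by simp only [Matrix.mulVec_add, hf.bilinear.add_left]
    smul_left := fun c x v => by simp only [Matrix.mulVec_smul, hf.bilinear.smul_left]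
    add_right := fun v x y => by simp only [Matrix.mulVec_add, hf.bilinear.add_right]
    smul_right := fun c v x => by simp only [Matrix.mulVec_smul, hf.bilinear.smul_right] }
  skew := fun v w => hf.skew _ _
  alternating := fun v => hf.alternating _
  nondegenerate := by
    intro v hv
    have h1 : ((P⁻¹ : GL (Fin n) F) : Matrix (Fin n) (Fin n) F) *ᵥ v ≠ 0 := by
      intro h
      apply hv
      have := congrArg (fun z => (P : Matrix (Fin n) (Fin n) F) *ᵥ z) h
      simpa [Matrix.mulVec_mulVec, ← Units.val_mul] using this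
    obtain ⟨⟨x, hx⟩, ⟨y, hy⟩⟩ := hf.nondegenerate _ h1
    refine ⟨⟨(P : Matrix (Fin n) (Fin n) F) *ᵥ x, ?_⟩, ⟨(P : Matrix (Fin n) (Fin n) F) *ᵥ y, ?_⟩⟩
    · simpa only [Matrix.mulVec_mulVec, ← Units.val_mul, inv_mul_cancel, Units.val_one,
        Matrix.one_mulVec] using hx
    · simpa only [Matrix.mulVec_mulVec, ← Units.val_mul, inv_mul_cancel, Units.val_one,
        Matrix.one_mulVec] using hy

theorem similarity_conj {n : ℕ} {f : (Fin n → F) → (Fin n → F) → F} {P g : GL (Fin n) F}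
    (h : P⁻¹ * g * P ∈ similarityGroup f) : g ∈ similarityGroup (fun u v =>
      f (((P⁻¹ : GL (Fin n) F) : Matrix (Fin n) (Fin n) F) *ᵥ u)
        (((P⁻¹ : GL (Fin n) F) : Matrix (Fin n) (Fin n) F) *ᵥ v)) := by
  obtain ⟨c, hc⟩ := h
  refine ⟨c, fun u v => ?_⟩
  have e : ∀ w : Fin n → F, ((P⁻¹ : GL (Fin n) F) : Matrix (Fin n) (Fin n) F) *ᵥ
      ((g : Matrix (Fin n) (Fin n) F) *ᵥ w) = ((P⁻¹ * g * P : GL (Fin n) F) : Matrix (Fin n) (Fin n) F)
        *ᵥ (((P⁻¹ : GL (Fin n) F) : Matrix (Fin n) (Fin n) F) *ᵥ w) := by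
    intro w
    rw [Matrix.mulVec_mulVec, Matrix.mulVec_mulVec, ← Units.val_mul, ← Units.val_mul]
    congr 2
    simp [mul_assoc]
  simp only [e]
  exact hc _ _

theorem det_four {R : Type*} [CommRing R] (A : Matrix (Fin 4) (Fin 4) R) : A.det =
    A 0 0 * (A 1 1 * (A 2 2 * A 3 3 - A 2 3 * A 3 2) - A 1 2 * (A 2 1 * A 3 3 - A 2 3 * A 3 1) +
      A 1 3 * (A 2 1 * A 3 2 - A 2 2 * A 3 1)) -
    A 0 1 * (A 1 0 * (A 2 2 * A 3 3 - A 2 3 * A 3 2) - A 1 2 * (A 2 0 * A 3 3 - A 2 3 * A 3 0) +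
      A 1 3 * (A 2 0 * A 3 2 - A 2 2 * A 3 0)) +
    A 0 2 * (A 1 0 * (A 2 1 * A 3 3 - A 2 3 * A 3 1) - A 1 1 * (A 2 0 * A 3 3 - A 2 3 * A 3 0) +
      A 1 3 * (A 2 0 * A 3 1 - A 2 1 * A 3 0)) -
    A 0 3 * (A 1 0 * (A 2 1 * A 3 2 - A 2 2 * A 3 1) - A 1 1 * (A 2 0 * A 3 2 - A 2 2 * A 3 0) +
      A 1 2 * (A 2 0 * A 3 1 - A 2 1 * A 3 0)) := by
  rw [Matrix.det_succ_row_zero, Fin.sum_univ_four]
  simp only [Matrix.det_fin_three, Matrix.submatrix_apply]
  simp [Fin.succAbove]
  ring

theorem perm_two : ∀ σ : Equiv.Perm (Fin 2), (σ 0 = 0 ∧ σ 1 = 1) ∨ (σ 0 = 1 ∧ σ 1 = 0) := by decide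

/-- The block matrices, `det = 1`, `x² = 1` in `F*`. -/
theorem detForm_block (hsq : ∀ x : F, x ≠ 0 → x ^ 2 = 1) {A : Matrix (Fin 4) (Fin 4) F}
    (hdet : A.det = 1) (σ : Equiv.Perm (Fin 2))
    (hA : ∀ k l : Fin 4, ((finProdFinEquiv (m := 2) (n := 2)).symm k).1 ≠
      σ ((finProdFinEquiv (m := 2) (n := 2)).symm l).1 → A k l = 0) :
    ∃ c : Fˣ, ∀ u v, detForm (A *ᵥ u) (A *ᵥ v) = (c : F) * detForm u v := by
  have hmv : ∀ (u : Fin 4 → F) (i : Fin 4), (A *ᵥ u) i = A i 0 * u 0 + A i 1 * u 1 + A i 2 * u 2 +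
      A i 3 * u 3 := by
    intro u i
    rw [Matrix.mulVec, dotProduct, Fin.sum_univ_four]
  rw [det_four] at hdet
  -- the common conclusion
  have fin' : ∀ x y : F, x * y = 1 → ∃ c : Fˣ, (c : F) = x ∧ (c : F) = y := by
    intro x y hxy
    have hx : x ≠ 0 := by rintro rfl; rw [zero_mul] at hxy; exact zero_ne_one hxy
    refine ⟨Units.mk0 x hx, rfl, ?_⟩
    have := hsq x hx
    change x = y
    apply mul_left_cancel₀ hx
    rw [hxy, ← this, pow_two]
  rcases perm_two σ with ⟨h0, h1⟩ | ⟨h0, h1⟩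
  · have z02 : A 0 2 = 0 := hA 0 2 (by change (0 : Fin 2) ≠ σ 1; rw [h1]; decide)
    have z03 : A 0 3 = 0 := hA 0 3 (by change (0 : Fin 2) ≠ σ 1; rw [h1]; decide)
    have z12 : A 1 2 = 0 := hA 1 2 (by change (0 : Fin 2) ≠ σ 1; rw [h1]; decide)
    have z13 : A 1 3 = 0 := hA 1 3 (by change (0 : Fin 2) ≠ σ 1; rw [h1]; decide)
    have z20 : A 2 0 = 0 := hA 2 0 (by change (1 : Fin 2) ≠ σ 0; rw [h0]; decide)
    have z21 : A 2 1 = 0 := hA 2 1 (by change (1 : Fin 2) ≠ σ 0; rw [h0]; decide)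
    have z30 : A 3 0 = 0 := hA 3 0 (by change (1 : Fin 2) ≠ σ 0; rw [h0]; decide)
    have z31 : A 3 1 = 0 := hA 3 1 (by change (1 : Fin 2) ≠ σ 0; rw [h0]; decide)
    have hd : (A 0 0 * A 1 1 - A 0 1 * A 1 0) * (A 2 2 * A 3 3 - A 2 3 * A 3 2) = 1 := by
      rw [← hdet, z02, z03, z12, z13]
      ring
    obtain ⟨c, hc1, hc2⟩ := fin' _ _ hd
    refine ⟨c, fun u v => ?_⟩
    unfold detForm
    simp only [hmv, z02, z03, z12, z13, z20, z21, z30, z31]
    linear_combination (-(u 0 * v 1 - u 1 * v 0)) * hc1 + (-(u 2 * v 3 - u 3 * v 2)) * hc2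
  · have z00 : A 0 0 = 0 := hA 0 0 (by change (0 : Fin 2) ≠ σ 0; rw [h0]; decide)
    have z01 : A 0 1 = 0 := hA 0 1 (by change (0 : Fin 2) ≠ σ 0; rw [h0]; decide)
    have z10 : A 1 0 = 0 := hA 1 0 (by change (0 : Fin 2) ≠ σ 0; rw [h0]; decide)
    have z11 : A 1 1 = 0 := hA 1 1 (by change (0 : Fin 2) ≠ σ 0; rw [h0]; decide)
    have z22 : A 2 2 = 0 := hA 2 2 (by change (1 : Fin 2) ≠ σ 1; rw [h1]; decide)
    have z23 : A 2 3 = 0 := hA 2 3 (by change (1 : Fin 2) ≠ σ 1; rw [h1]; decide)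
    have z32 : A 3 2 = 0 := hA 3 2 (by change (1 : Fin 2) ≠ σ 1; rw [h1]; decide)
    have z33 : A 3 3 = 0 := hA 3 3 (by change (1 : Fin 2) ≠ σ 1; rw [h1]; decide)
    have hd : (A 2 0 * A 3 1 - A 2 1 * A 3 0) * (A 0 2 * A 1 3 - A 0 3 * A 1 2) = 1 := by
      rw [← hdet, z00, z01, z10, z11]
      ring
    obtain ⟨c, hc1, hc2⟩ := fin' _ _ hd
    refine ⟨c, fun u v => ?_⟩
    unfold detForm
    simp only [hmv, z00, z01, z10, z11, z22, z23, z32, z33]
    linear_combination (-(u 0 * v 1 - u 1 * v 0)) * hc1 + (-(u 2 * v 3 - u 3 * v 2)) * hc2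

/-- `|F| ≤ 3`: the stabiliser in `SL_4` of a pair of planes fixes a symplectic form up to scalars. -/
theorem planes_symplectic [Fintype F] (hF : Fintype.card F ≤ 3) {D : Fin 2 → Submodule F (Fin 4 → F)}
    (hD : IsMDecomposition 2 D) :
    ∃ f : (Fin 4 → F) → (Fin 4 → F) → F, IsSymplecticForm f ∧
      decompositionStabilizer D ⊓ specialLinear (Fin 4) F ≤ similarityGroup f := by
  have hsq : ∀ x : F, x ≠ 0 → x ^ 2 = 1 := by
    intro x hx
    have h1 := FiniteField.pow_card_sub_one_eq_one x hx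
    have h2 : 1 < Fintype.card F := Fintype.one_lt_card
    have h3 : Fintype.card F = 2 ∨ Fintype.card F = 3 := by omega
    rcases h3 with h3 | h3
    · rw [h3] at h1
      have : x = 1 := by simpa using h1
      rw [this, one_pow]
    · rw [h3] at h1
      exact h1
  obtain ⟨P, hP⟩ := exists_frame hD (finProdFinEquiv (m := 2) (n := 2) : Fin 2 × Fin 2 ≃ Fin 4)
  refine ⟨_, symplectic_conj detForm_symplectic P, ?_⟩
  rintro g ⟨⟨σ, hσ⟩, hg⟩
  apply similarity_conj
  apply detForm_block hsq _ σ (fun k l hkl => block_of_mem hP hσ k l hkl)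
  have := (mem_sl_iff g).1 hg
  rw [Units.val_mul, Units.val_mul, Matrix.det_mul, Matrix.det_mul, this, mul_one,
    ← Matrix.det_mul, ← Units.val_mul, inv_mul_cancel, Units.val_one, Matrix.det_one]

end Cfsg.Agent.H908
end

-- part: H908/Pauli
section
/-!
# The group `4 ∘ 2^(1+4)` of monomial `4 × 4` matrices

`F` a field of characteristic not two with an element `i`, `i² = -1`. `RR` is the group of the
monomial matrices with permutation in the four-group and entries `c_j` with `c_j⁴ = 1`,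
`c_j² = c_k²`, `∏ c_j = 1`.
-/

set_option autoImplicit false
set_option linter.style.haveILetI false

namespace Cfsg.Agent.H908.Pauli

open Cfsg.Geo Matrix
open scoped commutatorElement

/-! ### Monomial matrices -/

section mono

variable {F : Type*} [Field F] {n : ℕ}

/-- The monomial matrix `e_j ↦ c_j e_{σ j}`. -/
def mono (σ : Equiv.Perm (Fin n)) (c : Fin n → F) : Matrix (Fin n) (Fin n) F :=
  fun i j => if i = σ j then c j else 0

theorem mono_pos (σ : Equiv.Perm (Fin n)) (c : Fin n → F) {i j : Fin n} (h : i = σ j) :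
    mono σ c i j = c j := if_pos h

theorem mono_neg (σ : Equiv.Perm (Fin n)) (c : Fin n → F) {i j : Fin n} (h : i ≠ σ j) :
    mono σ c i j = 0 := if_neg h

theorem mono_mul (σ τ : Equiv.Perm (Fin n)) (c d : Fin n → F) :
    mono σ c * mono τ d = mono (σ * τ) (fun j => c (τ j) * d j) := by
  ext i j
  rw [Matrix.mul_apply, Finset.sum_eq_single (τ j)]
  · rw [mono_pos τ d rfl]
    by_cases h : i = σ (τ j)
    · rw [mono_pos σ c h, mono_pos (σ * τ) _ h]
    · rw [mono_neg σ c h, mono_neg (σ * τ) _ h, zero_mul]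
  · intro b _ hb
    rw [mono_neg τ d hb, mul_zero]
  · simp

theorem mono_smul_one (c : F) : mono (1 : Equiv.Perm (Fin n)) (fun _ => c) =
    c • (1 : Matrix (Fin n) (Fin n) F) := by
  ext i j
  by_cases h : i = j
  · rw [mono_pos _ _ h, h, Matrix.smul_apply, Matrix.one_apply_eq, smul_eq_mul, mul_one]
  · rw [mono_neg _ _ h, Matrix.smul_apply, Matrix.one_apply_ne h, smul_zero]

theorem mono_one : mono (1 : Equiv.Perm (Fin n)) (fun _ => (1 : F)) = 1 := by
  rw [mono_smul_one, one_smul]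

theorem mono_mulVec_single (σ : Equiv.Perm (Fin n)) (c : Fin n → F) (j : Fin n) :
    mono σ c *ᵥ Pi.single j 1 = Pi.single (σ j) (c j) := by
  ext i
  rw [Matrix.mulVec_single_one, Matrix.col_apply]
  by_cases h : i = σ j
  · rw [mono_pos _ _ h, h, Pi.single_eq_same]
  · rw [mono_neg _ _ h, Pi.single_eq_of_ne h]

theorem mono_inj {σ τ : Equiv.Perm (Fin n)} {c d : Fin n → F} (hc : ∀ j, c j ≠ 0)
    (h : mono σ c = mono τ d) : σ = τ ∧ c = d := by
  have h1 : ∀ j, σ j = τ j ∧ c j = d j := by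
    intro j
    have h2 := congrFun (congrFun h (σ j)) j
    rw [mono_pos σ c rfl] at h2
    by_cases h3 : σ j = τ j
    · rw [mono_pos τ d h3] at h2
      exact ⟨h3, h2⟩
    · rw [mono_neg τ d h3] at h2
      exact absurd h2 (hc j)
  exact ⟨Equiv.ext fun j => (h1 j).1, funext fun j => (h1 j).2⟩

theorem det_mono (σ : Equiv.Perm (Fin n)) (c : Fin n → F) :
    (mono σ c).det = Equiv.Perm.sign σ * ∏ j, c j := by
  have : mono σ c = (Equiv.Perm.permMatrix F σ⁻¹) * Matrix.diagonal c := by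
    ext i j
    rw [Matrix.mul_diagonal]
    simp only [Equiv.Perm.permMatrix, PEquiv.toMatrix_apply, Equiv.toPEquiv_apply, Option.mem_def,
      Option.some.injEq, ite_mul, one_mul, zero_mul]
    by_cases h : i = σ j
    · rw [mono_pos _ _ h, if_pos (by rw [h]; simp)]
    · rw [mono_neg _ _ h, if_neg]
      intro h'
      apply h
      rw [← h']; simp
  rw [this, Matrix.det_mul, Matrix.det_permutation, Matrix.det_diagonal, Equiv.Perm.sign_inv]

theorem mono_ne_zero {σ : Equiv.Perm (Fin n)} {c : Fin n → F} {g : GL (Fin n) F}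
    (hg : (g : Matrix (Fin n) (Fin n) F) = mono σ c) (j : Fin n) : c j ≠ 0 := by
  intro h0
  have h1 : (g : Matrix (Fin n) (Fin n) F) *ᵥ Pi.single j 1 = 0 := by
    rw [hg, mono_mulVec_single, h0, Pi.single_zero]
  have h2 : (((g⁻¹ : GL (Fin n) F) : Matrix (Fin n) (Fin n) F) * (g : Matrix (Fin n) (Fin n) F)) *ᵥ
      (Pi.single j 1 : Fin n → F) = 0 := by
    rw [← Matrix.mulVec_mulVec, h1, Matrix.mulVec_zero]
  rw [← Units.val_mul, inv_mul_cancel, Units.val_one, Matrix.one_mulVec] at h2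
  have := congrFun h2 j
  simp at this

theorem mono_inv {σ : Equiv.Perm (Fin n)} {c : Fin n → F} {g : GL (Fin n) F}
    (hg : (g : Matrix (Fin n) (Fin n) F) = mono σ c) :
    ((g⁻¹ : GL (Fin n) F) : Matrix (Fin n) (Fin n) F) = mono σ⁻¹ (fun j => (c (σ⁻¹ j))⁻¹) := by
  have h0 := mono_ne_zero hg
  have h1 : (g : Matrix (Fin n) (Fin n) F) * mono σ⁻¹ (fun j => (c (σ⁻¹ j))⁻¹) = 1 := by
    rw [hg, mono_mul, mul_inv_cancel, ← mono_one]
    congr 1
    funext j
    exact mul_inv_cancel₀ (h0 _)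
  calc ((g⁻¹ : GL (Fin n) F) : Matrix (Fin n) (Fin n) F)
      = ((g⁻¹ : GL (Fin n) F) : Matrix (Fin n) (Fin n) F) *
        ((g : Matrix (Fin n) (Fin n) F) * mono σ⁻¹ (fun j => (c (σ⁻¹ j))⁻¹)) := by rw [h1, mul_one]
    _ = _ := by rw [← mul_assoc, ← Units.val_mul, inv_mul_cancel, Units.val_one, one_mul]

end mono

/-! ### The four-group -/

/-- Translations of `F_2²`. -/
def x4 (a : Fin 4) : Equiv.Perm (Fin 4) :=
  match a with
  | 0 => 1
  | 1 => Equiv.swap 0 1 * Equiv.swap 2 3
  | 2 => Equiv.swap 0 2 * Equiv.swap 1 3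
  | 3 => Equiv.swap 0 3 * Equiv.swap 1 2

theorem x4_mul : ∀ a b : Fin 4, ∃ c : Fin 4, x4 a * x4 b = x4 c := by decide

theorem x4_sq : ∀ a : Fin 4, x4 a * x4 a = 1 := by decide

theorem x4_comm : ∀ a b : Fin 4, x4 a * x4 b = x4 b * x4 a := by decide

theorem x4_conj : ∀ (σ : Equiv.Perm (Fin 4)) (a : Fin 4), ∃ b : Fin 4, σ * x4 a * σ⁻¹ = x4 b := by
  decide

theorem x4_inj : ∀ a b : Fin 4, x4 a = x4 b → a = b := by decide

theorem grp_four {G : Type*} [Group G] (g : G) : g ^ 4 = (g * g) * (g * g) := by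
  rw [show (4 : ℕ) = 2 + 2 from rfl, pow_add, pow_two]

theorem grp_inv {G : Type*} [Group G] (g : G) (h : g ^ 4 = 1) : g⁻¹ = g * g * g := by
  rw [inv_eq_iff_mul_eq_one, ← h, grp_four]; simp only [mul_assoc]

/-! ### The group -/

section group

variable {F : Type*} [Field F]

/-- The condition on the entries. -/
def Q (c : Fin 4 → F) : Prop :=
  (∀ i, c i ^ 4 = 1) ∧ (∀ i j, c i ^ 2 = c j ^ 2) ∧ ∏ i, c i = 1

theorem Q_mul {c d : Fin 4 → F} (hc : Q c) (hd : Q d) (τ : Equiv.Perm (Fin 4)) :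
    Q (fun j => c (τ j) * d j) := by
  refine ⟨fun i => ?_, fun i j => ?_, ?_⟩
  · rw [mul_pow, hc.1, hd.1, one_mul]
  · rw [mul_pow, mul_pow, hc.2.1 (τ i) (τ j), hd.2.1 i j]
  · rw [Finset.prod_mul_distrib, Equiv.prod_comp τ c, hc.2.2, hd.2.2, one_mul]

theorem Q_ne {c : Fin 4 → F} (hc : Q c) (j : Fin 4) : c j ≠ 0 := by
  intro h
  have := hc.1 j
  rw [h] at this
  simp at this

theorem pow_four {a : Fin 4} {c : Fin 4 → F} (hc : Q c) {g : GL (Fin 4) F}
    (hg : (g : Matrix (Fin 4) (Fin 4) F) = mono (x4 a) c) : g ^ 4 = 1 := by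
  apply Units.ext
  rw [grp_four, Units.val_mul, Units.val_mul, hg, mono_mul, mono_mul, x4_sq, Units.val_one, ← mono_one]
  congr 1
  funext j
  change c (x4 a j) * c j * (c (x4 a j) * c j) = 1
  have h1 := hc.2.1 (x4 a j) j
  have h2 := hc.1 j
  linear_combination (c j) ^ 2 * h1 + h2

/-- The group `4 ∘ 2^(1+4)`. -/
def RR (F : Type*) [Field F] : Subgroup (GL (Fin 4) F) where
  carrier := {g | ∃ (a : Fin 4) (c : Fin 4 → F), (g : Matrix (Fin 4) (Fin 4) F) = mono (x4 a) c ∧ Q c}
  mul_mem' := by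
    rintro g h ⟨a, c, hg, hc⟩ ⟨b, d, hh, hd⟩
    obtain ⟨e, he⟩ := x4_mul a b
    refine ⟨e, _, ?_, Q_mul hc hd (x4 b)⟩
    rw [Units.val_mul, hg, hh, mono_mul, he]
  one_mem' := ⟨0, fun _ => 1, by rw [Units.val_one]; exact mono_one.symm, by
    refine ⟨fun _ => one_pow _, fun _ _ => rfl, by simp⟩⟩
  inv_mem' := by
    rintro g ⟨a, c, hg, hc⟩
    have h4 := pow_four hc hg
    have e : g⁻¹ = g * g * g := grp_inv g h4
    have h2 := Q_mul hc hc (x4 a)
    refine ⟨a, _, ?_, Q_mul h2 hc (x4 a)⟩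
    rw [e, Units.val_mul, Units.val_mul, hg, mono_mul, mono_mul, x4_sq, one_mul]

theorem mem_RR {g : GL (Fin 4) F} : g ∈ RR F ↔
    ∃ (a : Fin 4) (c : Fin 4 → F), (g : Matrix (Fin 4) (Fin 4) F) = mono (x4 a) c ∧ Q c := Iff.rfl

/-- The member of `GL` with matrix `mono σ c`. -/
noncomputable def mk (σ : Equiv.Perm (Fin 4)) (c : Fin 4 → F) (hc : ∀ j, c j ≠ 0) : GL (Fin 4) F :=
  Matrix.GeneralLinearGroup.mkOfDetNeZero (mono σ c) (by
    rw [det_mono]
    exact mul_ne_zero (by
      rcases Int.units_eq_one_or (Equiv.Perm.sign σ) with h | h <;> rw [h] <;> simp)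
      (Finset.prod_ne_zero_iff.2 fun j _ => hc j))

theorem mk_coe (σ : Equiv.Perm (Fin 4)) (c : Fin 4 → F) (hc : ∀ j, c j ≠ 0) :
    ((mk σ c hc : GL (Fin 4) F) : Matrix (Fin 4) (Fin 4) F) = mono σ c := rfl

theorem mk_mem {a : Fin 4} {c : Fin 4 → F} (hc : Q c) : mk (x4 a) c (Q_ne hc) ∈ RR F :=
  ⟨a, c, rfl, hc⟩

theorem isPGroup_RR : IsPGroup 2 (RR F) := by
  rintro ⟨g, a, c, hg, hc⟩
  refine ⟨2, Subtype.ext ?_⟩
  simpa using pow_four hc hg

/-- Monomial matrices with entries in `μ_4` of product `±1` normalise `RR`. -/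
theorem conj_mem_RR {g : GL (Fin 4) F} {σ : Equiv.Perm (Fin 4)} {d : Fin 4 → F}
    (hg : (g : Matrix (Fin 4) (Fin 4) F) = mono σ d) (hd : ∀ j, d j ^ 4 = 1)
    (hdp : (∏ j, d j) ^ 2 = 1) {x : GL (Fin 4) F} (hx : x ∈ RR F) : g * x * g⁻¹ ∈ RR F := by
  obtain ⟨a, c, hxa, hc⟩ := hx
  obtain ⟨b, hb⟩ := x4_conj σ a
  have hd0 := mono_ne_zero hg
  refine ⟨b, fun k => d (x4 a (σ⁻¹ k)) * c (σ⁻¹ k) * (d (σ⁻¹ k))⁻¹, ?_, ?_⟩
  · rw [Units.val_mul, Units.val_mul, mono_inv hg, hg, hxa, mono_mul, mono_mul, hb]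
  · -- the condition `Q`
    have hQ : Q (fun j => d (x4 a j) * c j * (d j)⁻¹) := by
      refine ⟨fun i => ?_, ?_, ?_⟩
      · rw [mul_pow, mul_pow, inv_pow, hd, hd, hc.1]; simp
      · -- squares
        have key : ∀ j, (d (x4 a j) * c j * (d j)⁻¹) ^ 2 = (d (x4 a j) * d j) ^ 2 * c j ^ 2 := by
          intro j
          have h4 := hd j
          have : (d j)⁻¹ ^ 2 = d j ^ 2 := by
            rw [inv_pow]
            apply inv_eq_of_mul_eq_one_right
            linear_combination h4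
          rw [mul_pow, mul_pow, this]
          ring
        intro i j
        rw [key, key, hc.2.1 i j]
        congr 1
        have h4 := fun k => hd k
        rw [Fin.prod_univ_four] at hdp
        have e0 := hd 0
        have e1 := hd 1
        have e2 := hd 2
        have e3 := hd 3
        have A : (d 0 * d 1) ^ 2 = (d 2 * d 3) ^ 2 := by
          linear_combination (d 2 * d 3) ^ 2 * hdp - (d 0 * d 1) ^ 2 * (d 3 ^ 4) * e2 - (d 0 * d 1) ^ 2 * e3
        have B : (d 0 * d 2) ^ 2 = (d 1 * d 3) ^ 2 := by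
          linear_combination (d 1 * d 3) ^ 2 * hdp - (d 0 * d 2) ^ 2 * (d 3 ^ 4) * e1 - (d 0 * d 2) ^ 2 * e3
        have C : (d 0 * d 3) ^ 2 = (d 1 * d 2) ^ 2 := by
          linear_combination (d 1 * d 2) ^ 2 * hdp - (d 0 * d 3) ^ 2 * (d 2 ^ 4) * e1 - (d 0 * d 3) ^ 2 * e2
        have key2 : ∃ z : F, ∀ k, (d (x4 a k) * d k) ^ 2 = z := by
          fin_cases a
          · refine ⟨1, fun k => ?_⟩
            change (d k * d k) ^ 2 = 1
            linear_combination hd k
          · refine ⟨(d 0 * d 1) ^ 2, fun k => ?_⟩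
            fin_cases k
            · change (d 1 * d 0) ^ 2 = _; ring
            · change (d 0 * d 1) ^ 2 = _; ring
            · change (d 3 * d 2) ^ 2 = _; rw [A]; ring
            · change (d 2 * d 3) ^ 2 = _; rw [A]
          · refine ⟨(d 0 * d 2) ^ 2, fun k => ?_⟩
            fin_cases k
            · change (d 2 * d 0) ^ 2 = _; ring
            · change (d 3 * d 1) ^ 2 = _; rw [B]; ring
            · change (d 0 * d 2) ^ 2 = _; ring
            · change (d 1 * d 3) ^ 2 = _; rw [B]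
          · refine ⟨(d 0 * d 3) ^ 2, fun k => ?_⟩
            fin_cases k
            · change (d 3 * d 0) ^ 2 = _; ring
            · change (d 2 * d 1) ^ 2 = _; rw [C]; ring
            · change (d 1 * d 2) ^ 2 = _; rw [C]
            · change (d 0 * d 3) ^ 2 = _; ring
        obtain ⟨z, hz⟩ := key2
        rw [hz, hz]
      · rw [Finset.prod_mul_distrib, Finset.prod_mul_distrib, Equiv.prod_comp (x4 a) d, hc.2.2,
          Finset.prod_inv_distrib, mul_one]
        exact mul_inv_cancel₀ (Finset.prod_ne_zero_iff.2 fun j _ => hd0 j)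
    have := Q_mul (c := fun j => d (x4 a j) * c j * (d j)⁻¹) (d := fun _ => 1) hQ
      ⟨fun _ => one_pow _, fun _ _ => rfl, by simp⟩ σ⁻¹
    simpa using this

end group

end Cfsg.Agent.H908.Pauli
end

-- part: H908/PauliTwo
section
/-!
# The group `4 ∘ 2^(1+4)` of monomial `4 × 4` matrices: order, centre, characteristic subgroups
-/

set_option autoImplicit false
set_option linter.style.haveILetI false

namespace Cfsg.Agent.H908.Pauli

open Cfsg.Geo Matrix

/-- The character table of the four-group. -/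
def h4 (a b : Fin 4) : ℤ :=
  (![![1, 1, 1, 1], ![1, -1, 1, -1], ![1, 1, -1, -1], ![1, -1, -1, 1]] : Fin 4 → Fin 4 → ℤ) a b

theorem h4_00 : h4 0 0 = 1 := by decide
theorem h4_01 : h4 0 1 = 1 := by decide
theorem h4_02 : h4 0 2 = 1 := by decide
theorem h4_03 : h4 0 3 = 1 := by decide
theorem h4_10 : h4 1 0 = 1 := by decide
theorem h4_11 : h4 1 1 = -1 := by decide
theorem h4_12 : h4 1 2 = 1 := by decide
theorem h4_13 : h4 1 3 = -1 := by decide
theorem h4_20 : h4 2 0 = 1 := by decide
theorem h4_21 : h4 2 1 = 1 := by decide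
theorem h4_22 : h4 2 2 = -1 := by decide
theorem h4_23 : h4 2 3 = -1 := by decide
theorem h4_30 : h4 3 0 = 1 := by decide
theorem h4_31 : h4 3 1 = -1 := by decide
theorem h4_32 : h4 3 2 = -1 := by decide
theorem h4_33 : h4 3 3 = 1 := by decide
theorem h4_add : ∀ i a j : Fin 4, h4 i (x4 a j) = h4 i a * h4 i j := by decide
theorem h4_symm : ∀ i j : Fin 4, h4 i j = h4 j i := by decide
theorem h4_add' : ∀ b i j : Fin 4, h4 (x4 b i) j = h4 b j * h4 i j := by decide
theorem h4_sq : ∀ i j : Fin 4, h4 i j * h4 i j = 1 := by decide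
theorem h4_prod : ∀ i : Fin 4, h4 i 0 * h4 i 1 * h4 i 2 * h4 i 3 = 1 := by decide
theorem h4_zero : ∀ i : Fin 4, h4 i 0 = 1 := by decide
theorem h4_orth : ∀ i j : Fin 4, h4 i 0 * h4 0 j + h4 i 1 * h4 1 j + h4 i 2 * h4 2 j + h4 i 3 * h4 3 j =
  if i = j then 4 else 0 := by decide
theorem x4_symm : ∀ a b : Fin 4, x4 a b = x4 b a := by decide
theorem x4_mul' : ∀ a b : Fin 4, x4 a * x4 b = x4 (x4 a b) := by decide
theorem x4_trans : ∀ k j : Fin 4, ∃ a : Fin 4, x4 a k = j := by decide
theorem h4_sep : ∀ i j : Fin 4, i ≠ j → ∃ b : Fin 4, h4 b i = - h4 b j := by decide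
theorem x4_zero : ∀ a : Fin 4, x4 a 0 = a := by decide

section group

variable {F : Type*} [Field F]

/-- The entries of a member of `RR`. -/
def ch (l : F) (b : Fin 4) : Fin 4 → F := fun j => l * (h4 b j : F)

theorem h4_sqF (i j : Fin 4) : (h4 i j : F) * (h4 i j : F) = 1 := by
  rw [← Int.cast_mul, h4_sq, Int.cast_one]

theorem Q_ch {l : F} (hl : l ^ 4 = 1) (b : Fin 4) : Q (ch l b) := by
  refine ⟨fun i => ?_, fun i j => ?_, ?_⟩
  · have := h4_sqF (F := F) b i
    unfold ch
    linear_combination (exp := 1) (h4 b i : F) ^ 4 * hl + ((h4 b i : F) ^ 2 + 1) * this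
  · have h1 := h4_sqF (F := F) b i
    have h2 := h4_sqF (F := F) b j
    unfold ch
    linear_combination l ^ 2 * h1 - l ^ 2 * h2
  · rw [Fin.prod_univ_four]
    have h1 : (h4 b 0 : F) * h4 b 1 * h4 b 2 * h4 b 3 = 1 := by
      rw [← Int.cast_mul, ← Int.cast_mul, ← Int.cast_mul, h4_prod, Int.cast_one]
    unfold ch
    linear_combination l ^ 4 * h1 + hl

theorem eq_ch {c : Fin 4 → F} (hc : Q c) : ∃ b, c = ch (c 0) b := by
  have h0 := Q_ne hc 0
  have key : ∀ j, c j = c 0 ∨ c j = - c 0 := by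
    intro j
    have := hc.2.1 j 0
    rcases eq_or_ne (c j) (c 0) with h | h
    · exact Or.inl h
    · right
      have h1 : (c j - c 0) * (c j + c 0) = 0 := by linear_combination this
      rcases mul_eq_zero.1 h1 with h2 | h2
      · exact absurd (sub_eq_zero.1 h2) h
      · exact eq_neg_of_add_eq_zero_left h2
  have hp := hc.2.2
  rw [Fin.prod_univ_four] at hp
  have e4 := hc.1 0
  have hch : ∀ (b : Fin 4), (c 1 = c 0 * (h4 b 1 : F)) → (c 2 = c 0 * (h4 b 2 : F)) →
      (c 3 = c 0 * (h4 b 3 : F)) → c = ch (c 0) b := by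
    intro b h1 h2 h3
    funext j
    unfold ch
    fin_cases j
    · change c 0 = c 0 * ((h4 b 0 : ℤ) : F)
      rw [h4_zero, Int.cast_one, mul_one]
    · exact h1
    · exact h2
    · exact h3
  have h3 : ∀ s t : F, s * s = 1 → t * t = 1 → c 1 = c 0 * s → c 2 = c 0 * t →
      c 3 = c 0 * (s * t) := by
    intro s t hs ht h1 h2
    apply mul_left_cancel₀ (pow_ne_zero 3 h0)
    rw [h1, h2] at hp
    linear_combination s * t * hp - (s * t) * e4 - c 0 ^ 3 * c 3 * (s * s * ht + hs)
  rcases key 1 with k1 | k1 <;> rcases key 2 with k2 | k2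
  · have := h3 1 1 (by norm_num) (by norm_num) (by rw [k1]; ring) (by rw [k2]; ring)
    refine ⟨0, hch 0 ?_ ?_ ?_⟩
    · rw [k1, h4_01]; push_cast; ring
    · rw [k2, h4_02]; push_cast; ring
    · rw [this, h4_03]; push_cast; ring
  · have := h3 1 (-1) (by norm_num) (by norm_num) (by rw [k1]; ring) (by rw [k2]; ring)
    refine ⟨2, hch 2 ?_ ?_ ?_⟩
    · rw [k1, h4_21]; push_cast; ring
    · rw [k2, h4_22]; push_cast; ring
    · rw [this, h4_23]; push_cast; ring
  · have := h3 (-1) 1 (by norm_num) (by norm_num) (by rw [k1]; ring) (by rw [k2]; ring)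
    refine ⟨1, hch 1 ?_ ?_ ?_⟩
    · rw [k1, h4_11]; push_cast; ring
    · rw [k2, h4_12]; push_cast; ring
    · rw [this, h4_13]; push_cast; ring
  · have := h3 (-1) (-1) (by norm_num) (by norm_num) (by rw [k1]; ring) (by rw [k2]; ring)
    refine ⟨3, hch 3 ?_ ?_ ?_⟩
    · rw [k1, h4_31]; push_cast; ring
    · rw [k2, h4_32]; push_cast; ring
    · rw [this, h4_33]; push_cast; ring

theorem ch_ne {l : F} (hl : l ≠ 0) (b j : Fin 4) : ch l b j ≠ 0 := by
  unfold ch
  apply mul_ne_zero hl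
  intro h
  have := h4_sqF (F := F) b j
  rw [h, zero_mul] at this
  exact zero_ne_one this

theorem ch_inj (h2 : (2 : F) ≠ 0) {l l' : F} {b b' : Fin 4} (hl : l ≠ 0) (h : ch l b = ch l' b') :
    l = l' ∧ b = b' := by
  have e0 := congrFun h 0
  unfold ch at e0
  rw [h4_zero, h4_zero, Int.cast_one, mul_one, mul_one] at e0
  refine ⟨e0, ?_⟩
  subst e0
  have e : ∀ j, (h4 b j : F) = h4 b' j := fun j => mul_left_cancel₀ hl (congrFun h j)
  have key : ∀ b b' j : Fin 4, h4 b j = h4 b' j ∨ h4 b j - h4 b' j = 2 ∨ h4 b j - h4 b' j = -2 := by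
    decide
  have e' : ∀ j, h4 b j = h4 b' j := by
    intro j
    rcases key b b' j with h | h | h
    · exact h
    · exfalso
      have := e j
      have h' : ((h4 b j - h4 b' j : ℤ) : F) = 2 := by rw [h]; norm_num
      rw [Int.cast_sub, this, sub_self] at h'
      exact h2 h'.symm
    · exfalso
      have := e j
      have h' : ((h4 b j - h4 b' j : ℤ) : F) = -2 := by rw [h]; norm_num
      rw [Int.cast_sub, this, sub_self] at h'
      exact h2 (neg_eq_zero.1 h'.symm)
  have key2 : ∀ b b' : Fin 4, (∀ j, h4 b j = h4 b' j) → b = b' := by decide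
  exact key2 b b' e'

/-- The members of `RR`. -/
noncomputable def el (a : Fin 4) (l : F) (hl : l ^ 4 = 1) (b : Fin 4) : RR F :=
  ⟨mk (x4 a) (ch l b) (Q_ne (Q_ch hl b)), mk_mem (Q_ch hl b)⟩

theorem el_coe (a : Fin 4) (l : F) (hl : l ^ 4 = 1) (b : Fin 4) :
    (((el a l hl b : RR F) : GL (Fin 4) F) : Matrix (Fin 4) (Fin 4) F) = mono (x4 a) (ch l b) := rfl

theorem exists_el (x : RR F) : ∃ (a : Fin 4) (l : F) (hl : l ^ 4 = 1) (b : Fin 4),
    x = el a l hl b := by
  obtain ⟨x, a, c, hx, hc⟩ := x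
  obtain ⟨b, hb⟩ := eq_ch hc
  refine ⟨a, c 0, hc.1 0, b, ?_⟩
  apply Subtype.ext
  apply Units.ext
  rw [el_coe, ← hb, hx]

variable {i : F}

theorem orderOf_i (h2 : (2 : F) ≠ 0) (hi : i ^ 2 = -1) : orderOf i = 4 := by
  have : orderOf i = 2 ^ (1 + 1) := by
    haveI : Fact (Nat.Prime 2) := ⟨Nat.prime_two⟩
    apply orderOf_eq_prime_pow
    · rw [pow_one, hi]
      intro h
      apply h2
      linear_combination -h
    · change i ^ 4 = 1
      linear_combination (i ^ 2 - 1) * hi
  rw [this]; rfl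

theorem i_four (hi : i ^ 2 = -1) : i ^ 4 = 1 := by linear_combination (i ^ 2 - 1) * hi

theorem pow_i_four (hi : i ^ 2 = -1) (k : ℕ) : (i ^ k) ^ 4 = 1 := by
  rw [← pow_mul, mul_comm, pow_mul, i_four hi, one_pow]

theorem exists_pow_i (hi : i ^ 2 = -1) {l : F} (hl : l ^ 4 = 1) : ∃ k : Fin 4, l = i ^ (k : ℕ) := by
  have h : (l - 1) * (l + 1) * (l - i) * (l + i) = 0 := by
    linear_combination hl - (l ^ 2 - 1) * hi
  rcases mul_eq_zero.1 h with h | h
  · rcases mul_eq_zero.1 h with h | h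
    · rcases mul_eq_zero.1 h with h | h
      · exact ⟨0, by rw [sub_eq_zero.1 h]; simp⟩
      · exact ⟨2, by rw [eq_neg_of_add_eq_zero_left h]; exact hi.symm⟩
    · exact ⟨1, by rw [sub_eq_zero.1 h]; simp⟩
  · refine ⟨3, ?_⟩
    rw [eq_neg_of_add_eq_zero_left h]
    change -i = i ^ 3
    linear_combination (-i) * hi

theorem card_RR (h2 : (2 : F) ≠ 0) (hi : i ^ 2 = -1) : Nat.card (RR F) = 64 := by
  have h : Function.Bijective (fun p : Fin 4 × Fin 4 × Fin 4 =>
      (el p.1 (i ^ (p.2.1 : ℕ)) (pow_i_four hi _) p.2.2 : RR F)) := by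
    constructor
    · rintro ⟨a, k, b⟩ ⟨a', k', b'⟩ h
      have h1 : mono (x4 a) (ch (i ^ (k : ℕ)) b) = mono (x4 a') (ch (i ^ (k' : ℕ)) b') :=
        congrArg (fun x : RR F => ((x : GL (Fin 4) F) : Matrix (Fin 4) (Fin 4) F)) h
      have hi0 : i ≠ 0 := by
        rintro rfl
        rw [zero_pow two_ne_zero] at hi
        exact one_ne_zero (neg_eq_zero.1 hi.symm)
      obtain ⟨h2', h3⟩ := mono_inj (fun j => ch_ne (pow_ne_zero _ hi0) b j) h1
      obtain ⟨h4, h5⟩ := ch_inj h2 (pow_ne_zero _ hi0) h3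
      have h6 : k = k' := by
        apply Fin.ext
        apply pow_injOn_Iio_orderOf (x := i) _ _ h4
        · rw [orderOf_i h2 hi]; exact k.2
        · rw [orderOf_i h2 hi]; exact k'.2
      rw [x4_inj _ _ h2', h6, h5]
    · intro x
      obtain ⟨a, l, hl, b, rfl⟩ := exists_el x
      obtain ⟨k, rfl⟩ := exists_pow_i hi hl
      exact ⟨(a, k, b), rfl⟩
  rw [← Nat.card_eq_of_bijective _ h]
  simp

/-- Commutation in `RR`. -/
theorem el_mul_coe (a b a' b' : Fin 4) (l l' : F) (hl : l ^ 4 = 1) (hl' : l' ^ 4 = 1) :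
    (((el a l hl b * el a' l' hl' b' : RR F) : GL (Fin 4) F) : Matrix (Fin 4) (Fin 4) F) =
      mono (x4 (x4 a a')) (ch (l * l' * (h4 b a' : F)) (x4 b b')) := by
  rw [Subgroup.coe_mul, Units.val_mul, el_coe, el_coe, mono_mul, x4_mul']
  congr 1
  funext j
  unfold ch
  rw [h4_add b a' j, h4_add' b b' j]
  push_cast
  ring

theorem comm_iff (h2 : (2 : F) ≠ 0) {a b a' b' : Fin 4} {l l' : F} (hl : l ^ 4 = 1)
    (hl' : l' ^ 4 = 1) (h : el a l hl b * el a' l' hl' b' = el a' l' hl' b' * el a l hl b) :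
    h4 b a' = h4 b' a := by
  have h1 := congrArg (fun x : RR F => ((x : GL (Fin 4) F) : Matrix (Fin 4) (Fin 4) F)) h
  simp only [el_mul_coe] at h1
  have hl0 : l ≠ 0 := by rintro rfl; simp at hl
  have hl0' : l' ≠ 0 := by rintro rfl; simp at hl'
  have hne : ∀ b a : Fin 4, (h4 b a : F) ≠ 0 := by
    intro b a h0
    have := h4_sqF (F := F) b a
    rw [h0, zero_mul] at this
    exact zero_ne_one this
  obtain ⟨-, h3⟩ := mono_inj (fun j => ch_ne (mul_ne_zero (mul_ne_zero hl0 hl0') (hne _ _)) _ j) h1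
  obtain ⟨h4', -⟩ := ch_inj h2 (mul_ne_zero (mul_ne_zero hl0 hl0') (hne _ _)) h3
  have h5 : (h4 b a' : F) = h4 b' a := by
    apply mul_left_cancel₀ (mul_ne_zero hl0 hl0')
    rw [h4']; ring
  have key : ∀ b a' b' a : Fin 4, h4 b a' = h4 b' a ∨ h4 b a' - h4 b' a = 2 ∨
      h4 b a' - h4 b' a = -2 := by decide
  rcases key b a' b' a with h | h | h
  · exact h
  · exfalso
    have h' : ((h4 b a' - h4 b' a : ℤ) : F) = 2 := by rw [h]; norm_num
    rw [Int.cast_sub, h5, sub_self] at h'
    exact h2 h'.symm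
  · exfalso
    have h' : ((h4 b a' - h4 b' a : ℤ) : F) = -2 := by rw [h]; norm_num
    rw [Int.cast_sub, h5, sub_self] at h'
    exact h2 (neg_eq_zero.1 h'.symm)

theorem el_central {l : F} (hl : l ^ 4 = 1) : el 0 l hl 0 ∈ Subgroup.center (RR F) := by
  rw [Subgroup.mem_center_iff]
  intro y
  obtain ⟨a, m, hm, b, rfl⟩ := exists_el y
  apply Subtype.ext
  apply Units.ext
  rw [el_mul_coe, el_mul_coe]
  have e1 : ∀ a : Fin 4, x4 a 0 = x4 0 a := by decide
  have e2 : ∀ a : Fin 4, h4 a 0 = 1 := by decide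
  have e3 : ∀ a : Fin 4, h4 0 a = 1 := by decide
  rw [e1, e1, e2, e3, mul_comm m l]

theorem center_eq (h2 : (2 : F) ≠ 0) {x : RR F} (hx : x ∈ Subgroup.center (RR F)) :
    ∃ (l : F) (hl : l ^ 4 = 1), x = el 0 l hl 0 := by
  obtain ⟨a, l, hl, b, rfl⟩ := exists_el x
  rw [Subgroup.mem_center_iff] at hx
  have h1 : ∀ a' b' : Fin 4, h4 b a' = h4 b' a := fun a' b' =>
    comm_iff h2 hl (one_pow 4) (hx (el a' 1 (one_pow 4) b')).symm
  have key : ∀ a b : Fin 4, (∀ a' b' : Fin 4, h4 b a' = h4 b' a) → a = 0 ∧ b = 0 := by decide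
  obtain ⟨ha, hb⟩ := key a b h1
  subst ha; subst hb
  exact ⟨l, hl, rfl⟩

theorem card_center (h2 : (2 : F) ≠ 0) (hi : i ^ 2 = -1) : Nat.card (Subgroup.center (RR F)) = 4 := by
  have h : Function.Bijective (fun k : Fin 4 =>
      (⟨el 0 (i ^ (k : ℕ)) (pow_i_four hi _) 0, el_central _⟩ : Subgroup.center (RR F))) := by
    constructor
    · intro k k' h
      have h1 : mono (x4 0) (ch (i ^ (k : ℕ)) 0) = mono (x4 0) (ch (i ^ (k' : ℕ)) 0) :=
        congrArg (fun x : Subgroup.center (RR F) =>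
          (((x : RR F) : GL (Fin 4) F) : Matrix (Fin 4) (Fin 4) F)) h
      have hi0 : i ≠ 0 := by
        rintro rfl
        rw [zero_pow two_ne_zero] at hi
        exact one_ne_zero (neg_eq_zero.1 hi.symm)
      obtain ⟨-, h3⟩ := mono_inj (fun j => ch_ne (pow_ne_zero _ hi0) 0 j) h1
      obtain ⟨h4, -⟩ := ch_inj h2 (pow_ne_zero _ hi0) h3
      apply Fin.ext
      apply pow_injOn_Iio_orderOf (x := i) _ _ h4
      · rw [orderOf_i h2 hi]; exact k.2
      · rw [orderOf_i h2 hi]; exact k'.2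
    · rintro ⟨x, hx⟩
      obtain ⟨l, hl, rfl⟩ := center_eq h2 hx
      obtain ⟨k, rfl⟩ := exists_pow_i hi hl
      exact ⟨k, rfl⟩
  rw [← Nat.card_eq_of_bijective _ h]
  simp

theorem isCyclic_center (hi : i ^ 2 = -1) (h2 : (2 : F) ≠ 0) :
    IsCyclic (Subgroup.center (RR F)) := by
  refine ⟨⟨⟨el 0 i (i_four hi) 0, el_central _⟩, ?_⟩⟩
  rintro ⟨x, hx⟩
  obtain ⟨l, hl, rfl⟩ := center_eq h2 hx
  obtain ⟨k, rfl⟩ := exists_pow_i hi hl
  refine ⟨(k : ℕ), ?_⟩
  have : ∀ k : ℕ, (⟨el 0 i (i_four hi) 0, el_central _⟩ : Subgroup.center (RR F)) ^ k =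
      ⟨el 0 (i ^ k) (pow_i_four hi k) 0, el_central _⟩ := by
    intro k
    induction k with
    | zero =>
      apply Subtype.ext
      apply Subtype.ext
      apply Units.ext
      rw [pow_zero]
      simp only [pow_zero]
      rw [el_coe]
      change (1 : Matrix (Fin 4) (Fin 4) F) = _
      rw [← mono_one]
      congr 1
      funext j
      unfold ch
      have : ∀ j : Fin 4, h4 0 j = 1 := by decide
      rw [this, Int.cast_one, mul_one]
    | succ k ih =>
      rw [pow_succ, ih]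
      apply Subtype.ext
      apply Subtype.ext
      apply Units.ext
      change (((el 0 (i ^ k) (pow_i_four hi k) 0 * el 0 i (i_four hi) 0 : RR F) : GL (Fin 4) F) :
        Matrix (Fin 4) (Fin 4) F) = _
      rw [el_mul_coe, el_coe]
      have e1 : x4 (x4 0 0) = x4 0 := by decide
      have e2 : x4 0 0 = (0 : Fin 4) := by decide
      have e3 : h4 0 0 = 1 := by decide
      rw [e1, e2, e3, Int.cast_one, mul_one, pow_succ]
  change (⟨el 0 i (i_four hi) 0, el_central _⟩ : Subgroup.center (RR F)) ^ ((k : ℕ) : ℤ) = _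
  rw [zpow_natCast]
  exact this k

theorem exponent_RR (h2 : (2 : F) ≠ 0) (hi : i ^ 2 = -1) : Monoid.exponent (RR F) = 4 := by
  apply Nat.dvd_antisymm
  · rw [Monoid.exponent_dvd_iff_forall_pow_eq_one]
    rintro ⟨g, a, c, hg, hc⟩
    apply Subtype.ext
    simpa using pow_four hc hg
  · have h := Monoid.order_dvd_exponent (el 0 i (i_four hi) 0)
    have : orderOf (el 0 i (i_four hi) 0) = 2 ^ (1 + 1) := by
      haveI : Fact (Nat.Prime 2) := ⟨Nat.prime_two⟩
      apply orderOf_eq_prime_pow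
      · intro h
        rw [pow_one, pow_two] at h
        have h' := congrArg (fun x : RR F => ((x : GL (Fin 4) F) : Matrix (Fin 4) (Fin 4) F)) h
        simp only [el_mul_coe] at h'
        have e2 : x4 0 0 = (0 : Fin 4) := by decide
        have e3 : h4 0 0 = 1 := by decide
        rw [e2, e3] at h'
        have h'' := congrFun (congrFun h' 0) 0
        rw [mono_pos _ _ (by decide)] at h''
        unfold ch at h''
        rw [e3] at h''
        simp only [Int.cast_one, mul_one, OneMemClass.coe_one, Units.val_one,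
          Matrix.one_apply_eq] at h''
        apply h2
        linear_combination -h'' + hi
      · change el 0 i (i_four hi) 0 ^ 4 = 1
        apply Subtype.ext
        simpa using pow_four (Q_ch (i_four hi) 0) (el_coe 0 i (i_four hi) 0)
    rw [this] at h
    exact h

/-! ### Two automorphisms -/

theorem char_conj {G : Type*} [Group G] {R : Subgroup G} {A : Subgroup R} (hA : A.Characteristic)
    {g : G} (hg : g ∈ Subgroup.normalizer (R : Set G)) {x y : R} (hx : x ∈ A)
    (hy : (y : G) = g * x * g⁻¹) : y ∈ A := by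
  have h := hA.fixed (Subgroup.normalizerMonoidHom R ⟨g, hg⟩)
  rw [← h] at hx
  have : (Subgroup.normalizerMonoidHom R ⟨g, hg⟩) x = y := by
    apply Subtype.ext
    rw [hy]
    rfl
  rw [← this]
  exact hx

theorem mem_normalizer_of {G : Type*} [Group G] {R : Subgroup G} {g : G}
    (h1 : ∀ x ∈ R, g * x * g⁻¹ ∈ R) (h2 : ∀ x ∈ R, g⁻¹ * x * g ∈ R) :
    g ∈ Subgroup.normalizer (R : Set G) := by
  rw [Subgroup.mem_normalizer_iff]
  intro x
  refine ⟨h1 x, fun h => ?_⟩
  have := h2 _ h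
  simpa [mul_assoc] using this

theorem exists_diag (hi : i ^ 2 = -1) {a : Fin 4} (ha : a ≠ 0) :
    ∃ g : GL (Fin 4) F, g ∈ Subgroup.normalizer (RR F : Set (GL (Fin 4) F)) ∧ ∃ b' : Fin 4, h4 b' a = -1 ∧
      ∀ (l : F) (hl : l ^ 4 = 1) (b : Fin 4),
        g * (el a l hl b : RR F) * g⁻¹ =
          (el a (l * i) (by rw [mul_pow, hl, i_four hi, one_mul]) (x4 b' b) : RR F) := by
  have hi0 : i ≠ 0 := by
    rintro rfl
    rw [zero_pow two_ne_zero] at hi
    exact one_ne_zero (neg_eq_zero.1 hi.symm)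
  -- general construction
  have gen : ∀ (d : Fin 4 → F) (b' : Fin 4), (∀ j, d j ^ 4 = 1) → (∏ j, d j) ^ 2 = 1 →
      (∀ j, d (x4 a j) = i * (h4 b' j : F) * d j) → h4 b' a = -1 →
      ∃ g : GL (Fin 4) F, g ∈ Subgroup.normalizer (RR F : Set (GL (Fin 4) F)) ∧
        ∃ b' : Fin 4, h4 b' a = -1 ∧ ∀ (l : F) (hl : l ^ 4 = 1) (b : Fin 4),
        g * (el a l hl b : RR F) * g⁻¹ =
          (el a (l * i) (by rw [mul_pow, hl, i_four hi, one_mul]) (x4 b' b) : RR F) := by
    intro d b' hd hp he hb'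
    have hd0 : ∀ j, d j ≠ 0 := by
      intro j h0
      have := hd j
      rw [h0] at this
      simp at this
    set g := mk 1 d hd0 with hg
    have hgi : ((g⁻¹ : GL (Fin 4) F) : Matrix (Fin 4) (Fin 4) F) = mono 1 (fun j => (d j)⁻¹) := by
      have := mono_inv (g := g) (σ := 1) (c := d) rfl
      simpa using this
    refine ⟨g, mem_normalizer_of (fun x hx => conj_mem_RR (g := g) (σ := 1) (d := d) rfl hd hp hx)
      (fun x hx => ?_), b', hb', fun l hl b => ?_⟩
    · have := conj_mem_RR (g := g⁻¹) (σ := 1) (d := fun j => (d j)⁻¹) hgi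
        (fun j => by rw [inv_pow, hd, inv_one]) (by rw [Finset.prod_inv_distrib, inv_pow, hp, inv_one]) hx
      simpa using this
    · apply Units.ext
      rw [Units.val_mul, Units.val_mul, hgi, el_coe, el_coe, hg, mk_coe, mono_mul, mono_mul, one_mul,
        mul_one]
      congr 1
      funext j
      change d (x4 a j) * ch l b j * (d j)⁻¹ = _
      rw [he]
      unfold ch
      rw [h4_add']
      have := hd0 j
      push_cast
      field_simp
  have hh : ∀ a : Fin 4, a ≠ 0 → a = 1 ∨ a = 2 ∨ a = 3 := by decide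
  rcases hh a ha with rfl | rfl | rfl
  · refine gen ![1, i, 1, i] 1 ?_ ?_ ?_ (by decide)
    · intro j; fin_cases j <;> simp [i_four hi]
    · rw [Fin.prod_univ_four]; change (1 * i * 1 * i) ^ 2 = 1; linear_combination (i ^ 2 - 1) * hi
    · intro j
      fin_cases j
      · change i = i * ((h4 1 0 : ℤ) : F) * 1; rw [h4_10]; push_cast; ring
      · change 1 = i * ((h4 1 1 : ℤ) : F) * i; rw [h4_11]; push_cast; linear_combination hi
      · change i = i * ((h4 1 2 : ℤ) : F) * 1; rw [h4_12]; push_cast; ring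
      · change 1 = i * ((h4 1 3 : ℤ) : F) * i; rw [h4_13]; push_cast; linear_combination hi
  · refine gen ![1, 1, i, i] 2 ?_ ?_ ?_ (by decide)
    · intro j; fin_cases j <;> simp [i_four hi]
    · rw [Fin.prod_univ_four]; change (1 * 1 * i * i) ^ 2 = 1; linear_combination (i ^ 2 - 1) * hi
    · intro j
      fin_cases j
      · change i = i * ((h4 2 0 : ℤ) : F) * 1; rw [h4_20]; push_cast; ring
      · change i = i * ((h4 2 1 : ℤ) : F) * 1; rw [h4_21]; push_cast; ring
      · change 1 = i * ((h4 2 2 : ℤ) : F) * i; rw [h4_22]; push_cast; linear_combination hi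
      · change 1 = i * ((h4 2 3 : ℤ) : F) * i; rw [h4_23]; push_cast; linear_combination hi
  · refine gen ![1, 1, i, i] 2 ?_ ?_ ?_ (by decide)
    · intro j; fin_cases j <;> simp [i_four hi]
    · rw [Fin.prod_univ_four]; change (1 * 1 * i * i) ^ 2 = 1; linear_combination (i ^ 2 - 1) * hi
    · intro j
      fin_cases j
      · change i = i * ((h4 2 0 : ℤ) : F) * 1; rw [h4_20]; push_cast; ring
      · change i = i * ((h4 2 1 : ℤ) : F) * 1; rw [h4_21]; push_cast; ring
      · change 1 = i * ((h4 2 2 : ℤ) : F) * i; rw [h4_22]; push_cast; linear_combination hi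
      · change 1 = i * ((h4 2 3 : ℤ) : F) * i; rw [h4_23]; push_cast; linear_combination hi

/-- The Hadamard matrix. -/
noncomputable def had (h2 : (2 : F) ≠ 0) : GL (Fin 4) F where
  val := Matrix.of fun i j => (h4 i j : F)
  inv := Matrix.of fun i j => (h4 i j : F) / 4
  val_inv := by
    have h4' : (4 : F) ≠ 0 := by
      have : (4 : F) = 2 * 2 := by norm_num
      rw [this]; exact mul_ne_zero h2 h2
    ext i j
    rw [Matrix.mul_apply, Fin.sum_univ_four]
    simp only [Matrix.of_apply]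
    have := congrArg (fun z : ℤ => (z : F)) (h4_orth i j)
    push_cast at this
    by_cases h : i = j
    · subst h
      rw [Matrix.one_apply_eq]
      rw [if_pos rfl] at this
      field_simp
      linear_combination this
    · rw [Matrix.one_apply_ne h]
      rw [if_neg h] at this
      field_simp
      linear_combination this
  inv_val := by
    have h4' : (4 : F) ≠ 0 := by
      have : (4 : F) = 2 * 2 := by norm_num
      rw [this]; exact mul_ne_zero h2 h2
    ext i j
    rw [Matrix.mul_apply, Fin.sum_univ_four]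
    simp only [Matrix.of_apply]
    have := congrArg (fun z : ℤ => (z : F)) (h4_orth i j)
    push_cast at this
    by_cases h : i = j
    · subst h
      rw [Matrix.one_apply_eq]
      rw [if_pos rfl] at this
      field_simp
      linear_combination this
    · rw [Matrix.one_apply_ne h]
      rw [if_neg h] at this
      field_simp
      linear_combination this

theorem mul_mono_apply (M : Matrix (Fin 4) (Fin 4) F) (σ : Equiv.Perm (Fin 4)) (c : Fin 4 → F)
    (i j : Fin 4) : (M * mono σ c) i j = M i (σ j) * c j := by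
  rw [Matrix.mul_apply, Finset.sum_eq_single (σ j)]
  · rw [mono_pos σ c rfl]
  · intro b _ hb
    rw [mono_neg σ c hb, mul_zero]
  · simp

theorem mono_mul_apply (M : Matrix (Fin 4) (Fin 4) F) (σ : Equiv.Perm (Fin 4)) (c : Fin 4 → F)
    (i j : Fin 4) : (mono σ c * M) (σ i) j = c i * M i j := by
  rw [Matrix.mul_apply, Finset.sum_eq_single i]
  · rw [mono_pos σ c rfl]
  · intro b _ hb
    rw [mono_neg σ c (fun h => hb (σ.injective h).symm), zero_mul]
  · simp

theorem had_conj (h2 : (2 : F) ≠ 0) {a b : Fin 4} {l : F} (hl : l ^ 4 = 1) :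
    had h2 * (el a l hl b : RR F) * (had h2)⁻¹ =
      (el b (l * (h4 a b : F)) (by
        have := h4_sqF (F := F) a b
        linear_combination (exp := 1) (h4 a b : F) ^ 4 * hl + ((h4 a b : F) ^ 2 + 1) * this) a :
          RR F) := by
  rw [mul_inv_eq_iff_eq_mul]
  apply Units.ext
  rw [Units.val_mul, Units.val_mul, el_coe, el_coe]
  have hv : ((had h2 : GL (Fin 4) F) : Matrix (Fin 4) (Fin 4) F) =
    Matrix.of fun i j => (h4 i j : F) := rfl
  ext i j
  obtain ⟨i, rfl⟩ := (x4 b).surjective i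
  rw [mul_mono_apply, mono_mul_apply, hv, Matrix.of_apply, Matrix.of_apply]
  unfold ch
  rw [h4_add, h4_add', h4_add', h4_symm a i]
  have := h4_sqF (F := F) b a
  rw [h4_symm a b]
  have e2 := h4_sqF (F := F) b j
  push_cast
  linear_combination (exp := 1) ((h4 b a : F) * (h4 i a : F) * (h4 i j : F) * l) * e2

theorem had_mem (h2 : (2 : F) ≠ 0) : had h2 ∈ Subgroup.normalizer (RR F : Set (GL (Fin 4) F)) := by
  have h1 : ∀ x ∈ RR F, had h2 * x * (had h2)⁻¹ ∈ RR F := by
    intro x hx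
    obtain ⟨a, l, hl, b, h⟩ := exists_el ⟨x, hx⟩
    have : x = (el a l hl b : RR F) := congrArg Subtype.val h
    rw [this, had_conj]
    exact Subtype.mem _
  refine mem_normalizer_of h1 fun x hx => ?_
  -- `had² = 4`
  have hsq : ∀ y : GL (Fin 4) F, had h2 * (had h2 * y * (had h2)⁻¹) * (had h2)⁻¹ = y := by
    intro y
    have hs : had h2 * had h2 ∈ scalars (Fin 4) F := by
      rw [mem_scalars_iff]
      have h4' : (4 : F) ≠ 0 := by
        have : (4 : F) = 2 * 2 := by norm_num
        rw [this]; exact mul_ne_zero h2 h2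
      refine ⟨Units.mk0 4 h4', ?_⟩
      rw [Units.val_mul]
      ext i j
      rw [Matrix.mul_apply, Fin.sum_univ_four]
      have := congrArg (fun z : ℤ => (z : F)) (h4_orth i j)
      push_cast at this
      have hv : ((had h2 : GL (Fin 4) F) : Matrix (Fin 4) (Fin 4) F) =
    Matrix.of fun i j => (h4 i j : F) := rfl
      rw [hv]
      by_cases h : i = j
      · subst h
        rw [if_pos rfl] at this
        simpa using this
      · rw [if_neg h] at this
        simpa [h] using this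
    have hc := scalars_comm hs y
    calc had h2 * (had h2 * y * (had h2)⁻¹) * (had h2)⁻¹
        = (had h2 * had h2) * y * (had h2)⁻¹ * (had h2)⁻¹ := by simp only [mul_assoc]
      _ = y * (had h2 * had h2) * (had h2)⁻¹ * (had h2)⁻¹ := by rw [hc]
      _ = y := by simp [mul_assoc]
  have e : (had h2)⁻¹ * x * had h2 = had h2 * x * (had h2)⁻¹ := by
    have := hsq ((had h2)⁻¹ * x * had h2)
    rw [← this]
    simp only [mul_assoc, mul_inv_cancel_left, mul_inv_cancel, mul_one]
  rw [e]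
  exact h1 x hx

theorem char_le_center (h2 : (2 : F) ≠ 0) (hi : i ^ 2 = -1) {A : Subgroup (RR F)}
    (hA : A.Characteristic) (hc : ∀ x ∈ A, ∀ y ∈ A, x * y = y * x) :
    A ≤ Subgroup.center (RR F) := by
  -- elements of `A` are diagonal
  have h0 : ∀ (a : Fin 4) (l : F) (hl : l ^ 4 = 1) (b : Fin 4), el a l hl b ∈ A → a = 0 := by
    intro a l hl b hx
    by_contra ha
    obtain ⟨g, hg, b', hb', h⟩ := exists_diag hi ha
    have hy := char_conj hA hg hx (h l hl b).symm
    have h1 := comm_iff h2 _ _ (hc _ hx _ hy)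
    rw [h4_add', hb'] at h1
    have := h4_sq b a
    nlinarith
  intro x hx
  obtain ⟨a, l, hl, b, rfl⟩ := exists_el x
  have ha := h0 a l hl b hx
  subst ha
  have hy := char_conj hA (had_mem h2) hx (had_conj h2 hl).symm
  have hb := h0 _ _ _ _ hy
  subst hb
  exact el_central hl

theorem isSymplecticType (h2 : (2 : F) ≠ 0) (hi : i ^ 2 = -1) : IsSymplecticTypeGroup 2 (RR F) where
  prime := Nat.prime_two
  pGroup := isPGroup_RR
  cyclic_of_characteristic := by
    intro A hA hc
    have h1 := char_le_center h2 hi hA (fun x hx y hy => by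
      have := hc.is_comm.comm ⟨x, hx⟩ ⟨y, hy⟩
      exact congrArg Subtype.val this)
    haveI := isCyclic_center hi h2
    exact isCyclic_of_injective (Subgroup.inclusion h1) (Subgroup.inclusion_injective h1)
  exponent_eq := by
    rw [exponent_RR h2 hi]; rfl

/-- `RR` acts absolutely irreducibly. -/
theorem absIrred (h2 : (2 : F) ≠ 0) : ActsAbsolutelyIrreducibly (matrixSet (RR F)) := by
  have h4' : (4 : F) ≠ 0 := by
    have : (4 : F) = 2 * 2 := by norm_num
    rw [this]; exact mul_ne_zero h2 h2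
  have hm : ∀ a b : Fin 4, mono (x4 a) (ch (1 : F) b) ∈ matrixSet (RR F) := fun a b =>
    ⟨_, (el a 1 (one_pow 4) b).2, rfl⟩
  constructor
  · intro W hW
    by_contra hne
    push Not at hne
    obtain ⟨h0, h1⟩ := hne
    obtain ⟨w, hw, hw0⟩ := Submodule.exists_mem_ne_zero_of_ne_bot h0
    obtain ⟨k, hk⟩ : ∃ k, w k ≠ 0 := by
      by_contra hc
      push Not at hc
      exact hw0 (funext hc)
    -- the coordinate vector `e_k`
    have hd : ∀ b : Fin 4, (fun j => (h4 b j : F) * w j) ∈ W := by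
      intro b
      have : (Matrix.toLin' (mono (x4 0) (ch (1 : F) b))) w ∈ W :=
        hW _ (hm 0 b) ⟨w, hw, rfl⟩
      have e : (Matrix.toLin' (mono (x4 0) (ch (1 : F) b))) w = fun j => (h4 b j : F) * w j := by
        rw [Matrix.toLin'_apply]
        ext j
        rw [Matrix.mulVec, dotProduct, Finset.sum_eq_single j]
        · rw [mono_pos (x4 0) (ch (1 : F) b) (show j = x4 0 j from rfl)]; unfold ch; rw [one_mul]
        · intro b' _ hb'
          rw [mono_neg (x4 0) (ch (1 : F) b) (show j ≠ x4 0 b' from (Ne.symm hb')), zero_mul]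
        · simp
      rw [e] at this
      exact this
    have hek : (Pi.single k (1 : F) : Fin 4 → F) ∈ W := by
      have hs : ((4 * w k)⁻¹ : F) • ((h4 k 0 : F) • (fun j => (h4 0 j : F) * w j) +
          (h4 k 1 : F) • (fun j => (h4 1 j : F) * w j) + (h4 k 2 : F) • (fun j => (h4 2 j : F) * w j) +
          (h4 k 3 : F) • (fun j => (h4 3 j : F) * w j)) ∈ W := by
        apply W.smul_mem
        exact W.add_mem (W.add_mem (W.add_mem (W.smul_mem _ (hd 0)) (W.smul_mem _ (hd 1)))
          (W.smul_mem _ (hd 2))) (W.smul_mem _ (hd 3))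
      convert hs using 1
      ext j
      have := congrArg (fun z : ℤ => (z : F)) (h4_orth k j)
      push_cast at this
      simp only [Pi.smul_apply, Pi.add_apply, smul_eq_mul]
      by_cases h : j = k
      · subst h
        rw [if_pos rfl] at this
        rw [Pi.single_eq_same]
        field_simp
        linear_combination (-1) * this
      · rw [if_neg (Ne.symm h)] at this
        rw [Pi.single_eq_of_ne h]
        field_simp
        linear_combination (-(w j)) * this
    apply h1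
    rw [eq_top_iff]
    intro v _
    have hej : ∀ j, (Pi.single j (1 : F) : Fin 4 → F) ∈ W := by
      intro j
      obtain ⟨a, ha⟩ : ∃ a : Fin 4, x4 a k = j := x4_trans k j
      have := hW _ (hm a 0) ⟨_, hek, rfl⟩
      rw [Matrix.toLin'_apply, mono_mulVec_single, ha] at this
      have e : ch (1 : F) 0 k = 1 := by
        unfold ch
        have : ∀ k : Fin 4, h4 0 k = 1 := by decide
        rw [this, Int.cast_one, mul_one]
      rwa [e] at this
    have : v = ∑ j, v j • (Pi.single j (1 : F) : Fin 4 → F) := by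
      ext i
      simp [Finset.sum_apply, Pi.single_apply]
    rw [this]
    exact W.sum_mem fun j _ => W.smul_mem _ (hej j)
  · intro M hM
    refine ⟨M 0 0, ?_⟩
    -- off-diagonal entries vanish
    have hoff : ∀ i j, i ≠ j → M i j = 0 := by
      intro i j hij
      obtain ⟨b, hb⟩ : ∃ b : Fin 4, h4 b i = - h4 b j := h4_sep i j hij
      have := congrFun (congrFun (hM _ (hm 0 b)) i) j
      rw [mul_mono_apply] at this
      have e := mono_mul_apply M (x4 0) (ch (1 : F) b) i j
      have e' : (mono (x4 0) (ch (1 : F) b) * M) i j = ch (1 : F) b i * M i j := e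
      rw [e'] at this
      change M i j * ch (1 : F) b j = _ at this
      unfold ch at this
      rw [hb] at this
      push_cast at this
      have hs := h4_sqF (F := F) b j
      apply mul_left_cancel₀ h2
      linear_combination (h4 b j : F) * this - 2 * M i j * hs
    have hdiag : ∀ a, M (x4 a 0) (x4 a 0) = M 0 0 := by
      intro a
      have := congrFun (congrFun (hM _ (hm a 0)) (x4 a 0)) 0
      rw [mul_mono_apply, mono_mul_apply] at this
      have e : ch (1 : F) 0 0 = 1 := by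
        unfold ch
        have : h4 0 0 = 1 := by decide
        rw [this, Int.cast_one, mul_one]
      rw [e, mul_one, one_mul] at this
      exact this
    ext i j
    by_cases h : i = j
    · subst h
      obtain ⟨a, ha⟩ : ∃ a : Fin 4, x4 a 0 = i := ⟨i, x4_zero i⟩
      rw [← ha, hdiag]
      simp
    · rw [hoff i j h]
      simp [h]

end group

end Cfsg.Agent.H908.Pauli
end

-- part: H908/FrameFive
section
/-!
# Frames of lines in dimension four, `|F| = 5`: the stabiliser in `SL_4` normalises `4 ∘ 2^(1+4)`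
-/

set_option autoImplicit false
set_option linter.style.haveILetI false

namespace Cfsg.Agent.H908

open Cfsg.Geo Matrix

variable {F : Type*} [Field F]

/-- Coordinates for a frame of lines: members of the stabiliser become monomial. -/
theorem exists_frame_one {n : ℕ} {D : Fin n → Submodule F (Fin n → F)} (hD : IsMDecomposition 1 D) :
    ∃ P : GL (Fin n) F, ∀ g ∈ decompositionStabilizer D, ∃ (σ : Equiv.Perm (Fin n)) (c : Fin n → F),
      ((P⁻¹ * g * P : GL (Fin n) F) : Matrix (Fin n) (Fin n) F) = Pauli.mono σ c := by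
  obtain ⟨P, hP⟩ := exists_frame hD (Equiv.prodUnique (Fin n) (Fin 1))
  refine ⟨P, fun g hg => ?_⟩
  obtain ⟨σ, hσ⟩ := hg
  refine ⟨σ, fun j => ((P⁻¹ * g * P : GL (Fin n) F) : Matrix (Fin n) (Fin n) F) (σ j) j, ?_⟩
  ext k l
  by_cases h : k = σ l
  · rw [Pauli.mono_pos _ _ h, h]
  · rw [Pauli.mono_neg _ _ h]
    exact block_of_mem hP hσ k l h

/-- The data of class 6 for `4 ∘ 2^(1+4)` in `GL_4(5)`. -/
theorem typeData_five [Fintype F] (hF : Fintype.card F = 5) (P : GL (Fin 4) F) :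
    IsLinearSymplecticTypeData 2 (cj P (Pauli.RR F)) := by
  have hp5 : Nat.Prime 5 := by norm_num
  haveI : Fact (Nat.Prime 5) := ⟨hp5⟩
  have hchar : CharP F 5 := by
    have h1 : Fintype.card F = 5 ^ 1 := by rw [hF]; norm_num
    exact charP_of_card_eq_prime_pow h1
  have h2 : (2 : F) ≠ 0 := by
    intro h
    have : ((2 : ℕ) : F) = 0 := by exact_mod_cast h
    rw [CharP.cast_eq_zero_iff F 5] at this
    norm_num at this
  obtain ⟨i, hi⟩ : ∃ i : F, i ^ 2 = -1 := by
    have h := (FiniteField.isSquare_neg_one_iff (F := F)).2 (by rw [hF]; norm_num)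
    obtain ⟨i, hi⟩ := h
    exact ⟨i, by rw [hi, pow_two]⟩
  refine ⟨symplecticType_cj (Pauli.isSymplecticType h2 hi) P, absIrred_cj (Pauli.absIrred h2) P,
    5, 1, by norm_num, ⟨hp5, hchar, by rw [hF]; norm_num, ?_, fun d h1 h2 => by omega⟩,
    Or.inr (Or.inl ⟨rfl, rfl, ?_, by simp, 2, ?_⟩)⟩
  · rw [card_center_cj, Pauli.card_center h2 hi]; norm_num
  · rw [card_center_cj, Pauli.card_center h2 hi]
  · rw [card_cj, Pauli.card_RR h2 hi]; norm_num

theorem frame_five [Fintype F] (hF : Fintype.card F = 5) {D : Fin 4 → Submodule F (Fin 4 → F)}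
    (hD : IsMDecomposition 1 D) :
    ∃ R : Subgroup (GL (Fin 4) F), IsLinearSymplecticTypeData 2 R ∧
      decompositionStabilizer D ⊓ specialLinear (Fin 4) F ≤ subgroupNormalizer R := by
  obtain ⟨P, hP⟩ := exists_frame_one hD
  refine ⟨_, typeData_five hF P, ?_⟩
  rintro g ⟨hg, hgs⟩
  apply normalizer_cj
  have hmono : ∀ g : GL (Fin 4) F, g ∈ decompositionStabilizer D → g ∈ specialLinear (Fin 4) F →
      ∀ x ∈ Pauli.RR F, (P⁻¹ * g * P) * x * (P⁻¹ * g * P)⁻¹ ∈ Pauli.RR F := by
    intro g hg hgs x hx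
    obtain ⟨σ, c, hc⟩ := hP g hg
    have hc0 := Pauli.mono_ne_zero hc
    refine Pauli.conj_mem_RR hc (fun j => ?_) ?_ hx
    · have := FiniteField.pow_card_sub_one_eq_one (c j) (hc0 j)
      rw [hF] at this
      exact this
    · have hdet : ((P⁻¹ * g * P : GL (Fin 4) F) : Matrix (Fin 4) (Fin 4) F).det = 1 := by
        rw [Units.val_mul, Units.val_mul, Matrix.det_mul, Matrix.det_mul, (mem_sl_iff g).1 hgs, mul_one,
          ← Matrix.det_mul, ← Units.val_mul, inv_mul_cancel, Units.val_one, Matrix.det_one]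
      rw [hc, Pauli.det_mono] at hdet
      rcases Int.units_eq_one_or (Equiv.Perm.sign σ) with h | h
      · rw [h] at hdet
        have : (∏ j, c j) = 1 := by simpa using hdet
        rw [this, one_pow]
      · rw [h] at hdet
        have : (∏ j, c j) = -1 := by
          have : -(∏ j, c j) = 1 := by simpa using hdet
          rw [← this, neg_neg]
        rw [this]; ring
  apply Pauli.mem_normalizer_of (hmono g hg hgs)
  intro x hx
  have h1 := hmono g⁻¹ (inv_mem hg) (inv_mem hgs) x hx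
  have e : P⁻¹ * g⁻¹ * P * x * (P⁻¹ * g⁻¹ * P)⁻¹ = (P⁻¹ * g * P)⁻¹ * x * (P⁻¹ * g * P) := by
    simp only [_root_.mul_inv_rev, inv_inv, mul_assoc]
  rwa [e] at h1

end Cfsg.Agent.H908
end
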