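import Cfsg.Agent.H908.TenSeven_m3
import Cfsg.Agent.H906.Cover_m3
import Cfsg.Agent.H871.Par8
import Cfsg.Agent.H924.D5F_m3
import Cfsg.Agent.FastGrp
import Cfsg.Agent.Prune
set_option linter.all false

section
prune_inst 0x7fffedffbbfcfbffffff7e7ffe9cdffdffbb3fffe6fffdcb7fe06bff1bdf5b80cfc56bad0beb93fe1ff6e01410fc7b43ffffcfbfea6bd87ffffd1ff45ffbfe1ffdf7bd08519e8cb41fba2ff783f0778e7f3fffffffffffffffffffffffffffaeffbfffffffff

-- part: H908/SpTenBase
section
prune_inst 0x2000003000000000180010220000000800000000000000800002000241800000410001020000001090004028000000030400000200000000000000000000000000000000000000400086000000000000000000000000000000000000000004000000000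
set_option linter.all false
open scoped Cfsg.Agent.FastGrp

/-!
# Representations in `Sp₁₀(q)` (helper908, after `TenBase`)

`AT F T` : an absolutely irreducible representation of `T` in dimension ten fixing a non-degenerate alternating form.
-/

set_option autoImplicit false
set_option linter.unusedSectionVars false

namespace Cfsg.Agent.H908.SpTen

open Cfsg Cfsg.Geo Module
open Matrix hiding mul_apply'
open Cfsg.Agent.H637.JW Cfsg.Agent.H917.Om Cfsg.Agent.H908.Ten

universe u v

/-! ### The context -/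

/-- A faithful absolutely irreducible representation fixing a non-degenerate alternating form on `F¹⁰`. -/
structure AT (F : Type u) [Field F] (T : Type v) [Group T] where
  ρ : T →* GL (Fin 10) F
  f : (Fin 10 → F) → (Fin 10 → F) → F
  sym : IsSymplecticForm f
  fix : FixesForm (matrixSet ρ.range) f
  irr : ActsAbsolutelyIrreducibly (matrixSet ρ.range)
  inj : Function.Injective ρ

variable {F : Type u} [Field F] {T : Type v} [Group T]

namespace AT

variable (h : AT F T)

theorem fixf (g : T) (u v : Fin 10 → F) :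
    h.f ((h.ρ g : Matrix (Fin 10) (Fin 10) F) *ᵥ u) ((h.ρ g : Matrix (Fin 10) (Fin 10) F) *ᵥ v) = h.f u v :=
  h.fix _ ⟨h.ρ g, ⟨g, rfl⟩, rfl⟩ u v

/-- Pull back to another group. -/
def congr {T' : Type*} [Group T'] (e : T' ≃* T) : AT F T' where
  ρ := h.ρ.comp e.toMonoidHom
  f := h.f
  sym := h.sym
  fix := by
    have h1 : (h.ρ.comp e.toMonoidHom).range = h.ρ.range := by
      ext x
      constructor
      · rintro ⟨y, rfl⟩
        exact ⟨e y, rfl⟩
      · rintro ⟨y, rfl⟩
        exact ⟨e.symm y, by simp⟩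
    rw [h1]
    exact h.fix
  irr := by
    have h1 : (h.ρ.comp e.toMonoidHom).range = h.ρ.range := by
      ext x
      constructor
      · rintro ⟨y, rfl⟩
        exact ⟨e y, rfl⟩
      · rintro ⟨y, rfl⟩
        exact ⟨e.symm y, by simp⟩
    rw [h1]
    exact h.irr
  inj := h.inj.comp e.injective

/-- The representation over the algebraic closure. -/
noncomputable def σ : T →* Module.End (AlgebraicClosure F) (Fin 10 → AlgebraicClosure F) :=
  _root_.Cfsg.Agent.H637.JW.ext h.ρ (AlgebraicClosure F)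

theorem σ_apply (g : T) (v : Fin 10 → AlgebraicClosure F) :
    h.σ g v = ((h.ρ g : Matrix (Fin 10) (Fin 10) F).map (algebraMap F (AlgebraicClosure F))) *ᵥ v := rfl

/-! ### The bilinear form over the algebraic closure -/

/-- The form as a bilinear map. -/
noncomputable def fb : LinearMap.BilinForm F (Fin 10 → F) :=
  LinearMap.mk₂ F h.f h.sym.bilinear.add_left h.sym.bilinear.smul_left h.sym.bilinear.add_right
    h.sym.bilinear.smul_right

/-- The Gram matrix. -/
noncomputable def gram : Matrix (Fin 10) (Fin 10) F :=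
  Matrix.of fun i j => h.f (Pi.single i 1) (Pi.single j 1)

theorem f_eq (u v : Fin 10 → F) : h.f u v = u ⬝ᵥ (h.gram *ᵥ v) := by
  have e : ∀ u v, h.f u v = h.fb u v := fun u v => rfl
  rw [e, ← LinearMap.sum_repr_mul_repr_mul (Pi.basisFun F (Fin 10)) (Pi.basisFun F (Fin 10)) (B := h.fb)]
  rw [Finsupp.sum_fintype _ _ (by intro i; simp)]
  simp only [dotProduct, mulVec]
  refine Finset.sum_congr rfl fun i _ => ?_
  rw [Finsupp.sum_fintype _ _ (by intro j; simp), Finset.mul_sum]
  refine Finset.sum_congr rfl fun j _ => ?_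
  simp only [Pi.basisFun_repr, Pi.basisFun_apply, smul_eq_mul]
  change u i * (v j * h.gram i j) = u i * (h.gram i j * v j)
  ring

theorem gram_symm : h.gramᵀ = -h.gram := by
  ext i j
  exact h.sym.skew _ _

theorem gram_diag (i : Fin 10) : h.gram i i = 0 := h.sym.alternating _

theorem gram_det : h.gram.det ≠ 0 := by
  intro h0
  obtain ⟨v, hv, hv2⟩ := Matrix.exists_mulVec_eq_zero_iff.2 h0
  obtain ⟨⟨x, hx⟩, -⟩ := h.sym.nondegenerate v hv
  apply hx
  first
    | rw [f_eq, hv2, dotProduct_zero]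
    | rw [h.sym.skew, f_eq, hv2, dotProduct_zero, neg_zero]

theorem gram_inv (g : T) : (h.ρ g : Matrix (Fin 10) (Fin 10) F)ᵀ * h.gram * (h.ρ g : Matrix (Fin 10) (Fin 10) F) = h.gram := by
  have key : ∀ u v, u ⬝ᵥ (((h.ρ g : Matrix (Fin 10) (Fin 10) F)ᵀ * h.gram * (h.ρ g : Matrix (Fin 10) (Fin 10) F)) *ᵥ v) =
      u ⬝ᵥ (h.gram *ᵥ v) := by
    intro u v
    rw [← f_eq, ← Matrix.mulVec_mulVec, ← Matrix.mulVec_mulVec, Matrix.dotProduct_mulVec, Matrix.vecMul_transpose,
      ← f_eq, h.fixf]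
  ext i j
  have := key (Pi.single i 1) (Pi.single j 1)
  simpa using this

/-- The bilinear form over the algebraic closure. -/
noncomputable def B (u v : Fin 10 → AlgebraicClosure F) : AlgebraicClosure F :=
  u ⬝ᵥ (h.gram.map (algebraMap F (AlgebraicClosure F)) *ᵥ v)

theorem B_add_left (u u' v : Fin 10 → AlgebraicClosure F) : h.B (u + u') v = h.B u v + h.B u' v := by
  rw [B, B, B, add_dotProduct]

theorem B_smul_left (c : AlgebraicClosure F) (u v : Fin 10 → AlgebraicClosure F) : h.B (c • u) v = c * h.B u v := by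
  rw [B, B, smul_dotProduct, smul_eq_mul]

theorem B_comm (u v : Fin 10 → AlgebraicClosure F) : h.B u v = -h.B v u := by
  rw [B, B, Matrix.dotProduct_mulVec, dotProduct_comm, ← Matrix.mulVec_transpose, ← Matrix.transpose_map, h.gram_symm,
    Matrix.map_neg _ (fun a => map_neg _ a), Matrix.neg_mulVec, dotProduct_neg]

theorem B_add_right (u v v' : Fin 10 → AlgebraicClosure F) : h.B u (v + v') = h.B u v + h.B u v' := by
  rw [B_comm, B_add_left, h.B_comm v, h.B_comm v']
  ring

theorem B_smul_right (c : AlgebraicClosure F) (u v : Fin 10 → AlgebraicClosure F) : h.B u (c • v) = c * h.B u v := by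
  rw [B_comm, B_smul_left, h.B_comm v]
  ring

theorem B_zero (u : Fin 10 → AlgebraicClosure F) : h.B u 0 = 0 := by
  rw [show (0 : Fin 10 → AlgebraicClosure F) = (0 : AlgebraicClosure F) • 0 by simp, B_smul_right, zero_mul]

theorem B_zero_left (u : Fin 10 → AlgebraicClosure F) : h.B 0 u = 0 := by
  rw [B_comm, B_zero, neg_zero]

theorem B_self (u : Fin 10 → AlgebraicClosure F) : h.B u u = 0 := by
  -- expand in the standard basis
  have h1 : ∀ i j, algebraMap F (AlgebraicClosure F) (h.gram i j) + algebraMap F (AlgebraicClosure F) (h.gram j i) = 0 := by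
    intro i j
    have h2 := congrFun (congrFun h.gram_symm i) j
    rw [Matrix.transpose_apply, Matrix.neg_apply] at h2
    rw [h2, map_neg, add_neg_cancel]
  have h3 : ∀ (s : Finset (Fin 10)), ∑ i ∈ s, ∑ j ∈ s, u i * (algebraMap F (AlgebraicClosure F) (h.gram i j) * u j) = 0 := by
    intro s
    induction s using Finset.induction_on with
    | empty => simp
    | insert a s ha ih =>
      rw [Finset.sum_insert ha]
      simp only [Finset.sum_insert ha, Finset.sum_add_distrib]
      rw [ih, h.gram_diag, map_zero, zero_mul, mul_zero, zero_add, add_zero, ← Finset.sum_add_distrib]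
      refine Finset.sum_eq_zero fun i _ => ?_
      linear_combination (u a * u i) * h1 a i
  have h4 := h3 Finset.univ
  rw [B]
  simp only [dotProduct, mulVec, Matrix.map_apply, Finset.mul_sum]
  exact h4

theorem B_inv (g : T) (u v : Fin 10 → AlgebraicClosure F) : h.B (h.σ g u) (h.σ g v) = h.B u v := by
  have h1 := congrArg (fun M : Matrix (Fin 10) (Fin 10) F => M.map (algebraMap F (AlgebraicClosure F))) (h.gram_inv g)
  simp only [Matrix.map_mul] at h1
  have h2 : h.B u v = u ⬝ᵥ (((h.ρ g : Matrix (Fin 10) (Fin 10) F)ᵀ.map (algebraMap F (AlgebraicClosure F)) *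
      h.gram.map (algebraMap F (AlgebraicClosure F)) *
      (h.ρ g : Matrix (Fin 10) (Fin 10) F).map (algebraMap F (AlgebraicClosure F))) *ᵥ v) := by
    rw [h1]; rfl
  rw [h2, ← Matrix.mulVec_mulVec, ← Matrix.mulVec_mulVec, Matrix.dotProduct_mulVec u,
    Matrix.transpose_map, Matrix.vecMul_transpose]
  rfl

theorem B_nondeg {v : Fin 10 → AlgebraicClosure F} (hv : ∀ u, h.B u v = 0) : v = 0 := by
  by_contra h0
  have h1 : (h.gram.map (algebraMap F (AlgebraicClosure F))) *ᵥ v = 0 := by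
    funext i
    have := hv (Pi.single i 1)
    rw [B, single_one_dotProduct] at this
    exact this
  have h2 := Matrix.exists_mulVec_eq_zero_iff.1 ⟨v, h0, h1⟩
  have h3 := RingHom.map_det (algebraMap F (AlgebraicClosure F)) h.gram
  rw [RingHom.mapMatrix_apply, h2] at h3
  exact h.gram_det ((map_eq_zero _).1 h3)

/-! ### Irreducibility over the algebraic closure -/

theorem map_mem (W : Submodule (AlgebraicClosure F) (Fin 10 → AlgebraicClosure F))
    (hW : ∀ g, ∀ v ∈ W, h.σ g v ∈ W) (M : Matrix (Fin 10) (Fin 10) F) {v : Fin 10 → AlgebraicClosure F} (hv : v ∈ W) :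
    (M.map (algebraMap F (AlgebraicClosure F))) *ᵥ v ∈ W := by
  have h1 : M ∈ Submodule.span F (matrixSet h.ρ.range) := by
    rw [H920.span_eq_top h.irr]; trivial
  induction h1 using Submodule.span_induction with
  | mem x hx =>
    obtain ⟨y, ⟨g, rfl⟩, rfl⟩ := hx
    exact hW g v hv
  | zero =>
    rw [Matrix.map_zero _ (map_zero _), Matrix.zero_mulVec]
    exact W.zero_mem
  | add x y _ _ hx hy =>
    rw [Matrix.map_add _ (fun a b => map_add _ a b), Matrix.add_mulVec]
    exact W.add_mem hx hy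
  | smul c x _ hx =>
    have : (c • x).map (algebraMap F (AlgebraicClosure F)) =
        algebraMap F (AlgebraicClosure F) c • x.map (algebraMap F (AlgebraicClosure F)) := by
      ext i j
      simp
    rw [this, Matrix.smul_mulVec]
    exact W.smul_mem _ hx

/-- **Irreducibility over the algebraic closure.** -/
theorem eq_top_of_inv (W : Submodule (AlgebraicClosure F) (Fin 10 → AlgebraicClosure F))
    (hW : ∀ g, ∀ v ∈ W, h.σ g v ∈ W) {w : Fin 10 → AlgebraicClosure F} (hw : w ∈ W) (hw0 : w ≠ 0) : W = ⊤ := by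
  obtain ⟨j, hj⟩ : ∃ j, w j ≠ 0 := by
    by_contra hno
    push Not at hno
    exact hw0 (funext hno)
  have h1 : ∀ i, (Pi.single i 1 : Fin 10 → AlgebraicClosure F) ∈ W := by
    intro i
    have h2 := h.map_mem W hW (Matrix.single i j 1) hw
    have h3 : ((Matrix.single i j (1 : F)).map (algebraMap F (AlgebraicClosure F))) *ᵥ w = w j • Pi.single i 1 := by
      funext k
      simp only [mulVec, dotProduct, Matrix.map_apply, Matrix.single_apply]
      by_cases hk : i = k
      · subst hk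
        simp
      · simp [hk, Ne.symm hk]
    rw [h3] at h2
    have h4 := W.smul_mem (w j)⁻¹ h2
    rwa [smul_smul, inv_mul_cancel₀ hj, one_smul] at h4
  rw [eq_top_iff]
  intro v _
  rw [show v = ∑ i, v i • (Pi.single i 1 : Fin 10 → AlgebraicClosure F) by
    funext k; simp [Finset.sum_apply, Pi.single_apply]]
  exact W.sum_mem fun i _ => W.smul_mem _ (h1 i)

/-- no fixed vectors -/
theorem eq_zero_of_fixed {v : Fin 10 → AlgebraicClosure F} (hv : ∀ g, h.σ g v = v) : v = 0 := by
  by_contra h0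
  have h1 := h.eq_top_of_inv (Submodule.span (AlgebraicClosure F) {v}) (by
    intro g w hw
    obtain ⟨c, rfl⟩ := Submodule.mem_span_singleton.1 hw
    rw [map_smul, hv g]
    exact hw) (Submodule.mem_span_singleton_self v) h0
  have h2 := finrank_span_singleton (K := AlgebraicClosure F) h0
  rw [h1, finrank_top, Module.finrank_fin_fun] at h2
  omega

theorem σ_injective : Function.Injective h.σ := by
  intro a b hab
  apply h.inj
  apply Units.ext
  have h1 : ((h.ρ a : Matrix (Fin 10) (Fin 10) F).map (algebraMap F (AlgebraicClosure F))) =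
      ((h.ρ b : Matrix (Fin 10) (Fin 10) F).map (algebraMap F (AlgebraicClosure F))) := by
    ext i j
    have h2 := congrFun (LinearMap.congr_fun hab (Pi.single j 1)) i
    rw [σ_apply, σ_apply] at h2
    simpa using h2
  ext i j
  have h2 := congrFun (congrFun h1 i) j
  simpa using h2

/-! ### Weights -/

section weights

variable {κ : Type*} [Fintype κ] {N : ℕ} [NeZero N] (hN : (N : AlgebraicClosure F) ≠ 0) {ζ : AlgebraicClosure F}
  (hζ : IsPrimitiveRoot ζ N) {x : κ → T} (hc : ∀ j k, x j * x k = x k * x j) (hx : ∀ k, x k ^ N = 1)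

theorem B_eq_zero {c d : κ → ZMod N} (hζ : IsPrimitiveRoot ζ N) {x : κ → T} (hcd : c + d ≠ 0)
    {u v : Fin 10 → AlgebraicClosure F} (hu : u ∈ W N ζ (fun k => h.σ (x k)) c)
    (hv : v ∈ W N ζ (fun k => h.σ (x k)) d) : h.B u v = 0 := by
  obtain ⟨k, hk⟩ : ∃ k, (c + d) k ≠ 0 := by
    by_contra hno
    push Not at hno
    exact hcd (funext hno)
  have h1 := mem_W.1 hu k
  have h2 := mem_W.1 hv k
  have h3 := h.B_inv (x k) u v
  rw [h1, h2, B_smul_left, B_smul_right, ← mul_assoc, ← pow_val_add hζ.pow_eq_one] at h3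
  have h4 : ζ ^ (c k + d k).val ≠ 1 := by
    intro h5
    apply hk
    have h6 := hζ.pow_inj (ZMod.val_lt (c k + d k)) (NeZero.pos N) (by rw [h5, pow_zero])
    exact (ZMod.val_eq_zero _).1 h6
  have h5 : (ζ ^ (c k + d k).val - 1) * h.B u v = 0 := by linear_combination h3
  exact (mul_eq_zero.1 h5).resolve_left (sub_ne_zero.2 h4)

include hN hζ hc hx in
theorem finrank_W_neg_le (c : κ → ZMod N) :
    finrank (AlgebraicClosure F) (W N ζ (fun k => h.σ (x k)) c) ≤
      finrank (AlgebraicClosure F) (W N ζ (fun k => h.σ (x k)) (-c)) := by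
  classical
  have hcomm : ∀ j k, h.σ (x j) * h.σ (x k) = h.σ (x k) * h.σ (x j) := fun j k => by
    rw [← map_mul, ← map_mul, hc]
  have hpow : ∀ k, h.σ (x k) ^ N = 1 := fun k => by rw [← map_pow, hx, map_one]
  have htop := iSup_W hN hζ hcomm hpow
  let f : W N ζ (fun k => h.σ (x k)) c →ₗ[AlgebraicClosure F] Module.Dual (AlgebraicClosure F) (W N ζ (fun k => h.σ (x k)) (-c)) :=
    { toFun := fun u =>
        { toFun := fun v => h.B u.1 v.1
          map_add' := fun v w => h.B_add_right _ _ _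
          map_smul' := fun a v => h.B_smul_right _ _ _ }
      map_add' := fun u v => by
        ext w
        exact h.B_add_left _ _ _
      map_smul' := fun a v => by
        ext w
        exact h.B_smul_left _ _ _ }
  have hf : Function.Injective f := by
    rw [← LinearMap.ker_eq_bot, LinearMap.ker_eq_bot']
    intro u hu
    apply Subtype.ext
    apply h.B_nondeg
    intro w
    have hw : w ∈ (⨆ d, W N ζ (fun k => h.σ (x k)) d) := by rw [htop]; trivial
    induction hw using Submodule.iSup_induction' with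
    | mem d w hw =>
      by_cases hd : d = -c
      · subst hd
        rw [h.B_comm, neg_eq_zero]
        exact LinearMap.congr_fun hu ⟨w, hw⟩
      · refine h.B_eq_zero hζ ?_ hw u.2
        intro h0
        exact hd (eq_neg_of_add_eq_zero_left h0)
    | zero => exact h.B_zero_left _
    | add a b _ _ ha hb => rw [B_add_left, ha, hb, add_zero]
  have h1 := LinearMap.finrank_le_finrank_of_injective hf
  rwa [Subspace.dual_finrank_eq] at h1

include hN hζ hc hx in
/-- **Self-duality of weights.** -/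
theorem finrank_W_neg (c : κ → ZMod N) :
    finrank (AlgebraicClosure F) (W N ζ (fun k => h.σ (x k)) (-c)) =
      finrank (AlgebraicClosure F) (W N ζ (fun k => h.σ (x k)) c) := by
  refine le_antisymm ?_ (h.finrank_W_neg_le hN hζ hc hx c)
  have := h.finrank_W_neg_le hN hζ hc hx (-c)
  rwa [neg_neg] at this

end weights

/-- The invariant form as a bilinear form. -/
noncomputable def Bf : LinearMap.BilinForm (AlgebraicClosure F) (Fin 10 → AlgebraicClosure F) :=
  LinearMap.mk₂ (AlgebraicClosure F) h.B h.B_add_left h.B_smul_left h.B_add_right h.B_smul_right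

theorem Bf_nondeg : h.Bf.Nondegenerate := by
  refine ⟨fun v hv => ?_, fun v hv => ?_⟩
  · exact h.B_nondeg fun u => by rw [h.B_comm, neg_eq_zero]; exact hv u
  · exact h.B_nondeg hv

theorem finrank_orth (U : Submodule (AlgebraicClosure F) (Fin 10 → AlgebraicClosure F)) :
    finrank (AlgebraicClosure F) (h.Bf.orthogonal U) + finrank (AlgebraicClosure F) U = 10 := by
  have h1 := LinearMap.BilinForm.finrank_orthogonal h.Bf_nondeg U
  have h2 := Submodule.finrank_le U
  rw [Module.finrank_fin_fun] at h1 h2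
  omega

/-- the range of `g - 1` -/
noncomputable def R (g : T) : Submodule (AlgebraicClosure F) (Fin 10 → AlgebraicClosure F) :=
  LinearMap.range (h.σ g - 1)

theorem finrank_R (g : T) : finrank (AlgebraicClosure F) (h.R g) + finrank (AlgebraicClosure F) (Fix h.σ g) = 10 := by
  have h1 := LinearMap.finrank_range_add_finrank_ker (h.σ g - 1)
  rw [Module.finrank_fin_fun] at h1
  have h2 : _root_.Cfsg.Agent.H637.JW.Fix h.σ g = LinearMap.ker (h.σ g - 1) := by
    ext v
    rw [mem_Fix, LinearMap.mem_ker, LinearMap.sub_apply, Module.End.one_apply, sub_eq_zero]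
  rw [h2]
  exact h1

/-- a vector orthogonal to `(g - 1) V` is fixed by `g` -/
theorem fixed_of_orth {g : T} {v : Fin 10 → AlgebraicClosure F} (hv : ∀ u, h.B (h.σ g u - u) v = 0) : h.σ g v = v := by
  have h1 : h.σ g⁻¹ v = v := by
    rw [← sub_eq_zero]
    apply h.B_nondeg
    intro u
    have h2 := hv u
    rw [sub_eq_add_neg, h.B_add_left, ← neg_one_smul (AlgebraicClosure F) u, h.B_smul_left] at h2
    have h3 := h.B_inv g⁻¹ (h.σ g u) v
    rw [← mul_apply', inv_mul_cancel, map_one, Module.End.one_apply] at h3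
    rw [sub_eq_add_neg, h.B_add_right, ← neg_one_smul (AlgebraicClosure F) v, h.B_smul_right, h3]
    linear_combination h2
  have h2 := congrArg (h.σ g) h1
  rw [← mul_apply', mul_inv_cancel, map_one, Module.End.one_apply] at h2
  exact h2.symm

/-- **Scott's lemma.** -/
theorem scott {x y : T} (hxy : ∀ v, h.σ x v = v → h.σ y v = v → v = 0) :
    finrank (AlgebraicClosure F) (Fix h.σ x) + finrank (AlgebraicClosure F) (Fix h.σ y) +
      finrank (AlgebraicClosure F) (Fix h.σ (x * y)) ≤ 10 := by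
  have hx := h.finrank_R x
  have hy := h.finrank_R y
  have hz := h.finrank_R (x * y)
  -- `R x ⊔ R y = ⊤`
  have htop : h.R x ⊔ h.R y = ⊤ := by
    have h1 := h.finrank_orth (h.R x ⊔ h.R y)
    have h2 : h.Bf.orthogonal (h.R x ⊔ h.R y) = ⊥ := by
      rw [eq_bot_iff]
      intro v hv
      rw [LinearMap.BilinForm.mem_orthogonal_iff] at hv
      rw [Submodule.mem_bot]
      refine hxy v (h.fixed_of_orth fun u => ?_) (h.fixed_of_orth fun u => ?_)
      · exact hv _ (Submodule.mem_sup_left ⟨u, rfl⟩)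
      · exact hv _ (Submodule.mem_sup_right ⟨u, rfl⟩)
    rw [h2, finrank_bot, zero_add] at h1
    exact Submodule.eq_top_of_finrank_eq (by rw [h1, Module.finrank_fin_fun])
  let δ : (h.R x × h.R y) × h.R (x * y) →ₗ[AlgebraicClosure F] (Fin 10 → AlgebraicClosure F) :=
    ((h.R x).subtype.coprod (h.R y).subtype).coprod (h.R (x * y)).subtype
  have hδ : LinearMap.range δ = ⊤ := by
    rw [eq_top_iff, ← htop]
    intro v hv
    obtain ⟨a, ha, b, hb, rfl⟩ := Submodule.mem_sup.1 hv
    exact ⟨((⟨a, ha⟩, ⟨b, hb⟩), 0), by simp only [δ, _root_.LinearMap.coprod_apply, _root_.Submodule.subtype_apply, _root_.ZeroMemClass.coe_zero, _root_.add_zero]⟩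
  let β : (Fin 10 → AlgebraicClosure F) →ₗ[AlgebraicClosure F] LinearMap.ker δ :=
    { toFun := fun v => ⟨((⟨h.σ x (h.σ y v) - h.σ y v, ⟨h.σ y v, rfl⟩⟩, ⟨h.σ y v - v, ⟨v, rfl⟩⟩),
        ⟨-(h.σ (x * y) v - v), neg_mem ⟨v, rfl⟩⟩), by
          rw [LinearMap.mem_ker]
          simp only [δ, LinearMap.coprod_apply, Submodule.subtype_apply, mul_apply']
          abel⟩
      map_add' := fun u v => by
        apply Subtype.ext
        refine Prod.ext (Prod.ext (Subtype.ext ?_) (Subtype.ext ?_)) (Subtype.ext ?_) <;>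
          simp only [map_add, Prod.fst_add, Prod.snd_add, Submodule.coe_add] <;> abel
      map_smul' := fun c v => by
        apply Subtype.ext
        refine Prod.ext (Prod.ext (Subtype.ext ?_) (Subtype.ext ?_)) (Subtype.ext ?_) <;>
          simp only [map_smul, Prod.smul_fst, Prod.smul_snd, Submodule.coe_smul, RingHom.id_apply, smul_sub, smul_neg] }
  have hβ : Function.Injective β := by
    refine (injective_iff_map_eq_zero β).2 fun v hv => ?_
    have h1 := congrArg Subtype.val hv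
    have h2 : h.σ y v - v = 0 := congrArg (fun z => ((z.1.2 : h.R y) : Fin 10 → AlgebraicClosure F)) h1
    have h3 : h.σ x (h.σ y v) - h.σ y v = 0 := congrArg (fun z => ((z.1.1 : h.R x) : Fin 10 → AlgebraicClosure F)) h1
    rw [sub_eq_zero] at h2
    rw [h2, sub_eq_zero] at h3
    exact hxy v h3 h2
  have h1 := LinearMap.finrank_le_finrank_of_injective hβ
  have h2 := LinearMap.finrank_range_add_finrank_ker δ
  rw [hδ, finrank_top, Module.finrank_fin_fun, Module.finrank_prod, Module.finrank_prod] at h2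
  rw [Module.finrank_fin_fun] at h1
  omega


end AT

end Cfsg.Agent.H908.SpTen

private theorem dce_a82c38fe7b4a : _root_.True := by
  try have : _root_.True := by simp only [_root_.Cfsg.Agent.H908.SpTen.AT.B.eq_1]
  exact _root_.True.intro
end

-- part: H908/SpTenDim
section
prune_inst 0x12004003000000000180004320000000800009000030800c94002000a41a00220410e410640060080308cc02809000001000110404000000400000000000020800312041000a000440001000000000000000000000000000000000000010000000000000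
set_option linter.all false
open scoped Cfsg.Agent.FastGrp

/-!
# Representations in `Sp₁₀(q)`: dimensions of fixed spaces (helper908, after `TenDim`)
-/

set_option autoImplicit false
set_option linter.unusedSectionVars false

namespace Cfsg.Agent.H908.SpTen

open Cfsg Cfsg.Geo Module
open Matrix hiding mul_apply'
open Cfsg.Agent.H637.JW Cfsg.Agent.H917.Om Cfsg.Agent.H908.Ten

universe u v

namespace AT

variable {F : Type u} [Field F] {T : Type v} [Group T] (h : AT F T)

/-- the dimension of the fixed space -/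
noncomputable def d (g : T) : ℕ := finrank (AlgebraicClosure F) (Fix h.σ g)

theorem d_conj {g g' : T} (hc : IsConj g g') : h.d g = h.d g' := finrank_Fix_of_isConj hc

/-- **The joint fixed space of a commuting family of order prime to the characteristic is even-dimensional.** -/
theorem even_W {κ : Type*} [Fintype κ] {N : ℕ} [NeZero N] (hN : (N : AlgebraicClosure F) ≠ 0) {x : κ → T}
    (hc : ∀ j k, x j * x k = x k * x j) (hx : ∀ k, x k ^ N = 1) :
    Even (finrank (AlgebraicClosure F) (⨅ k, _root_.Cfsg.Agent.H637.JW.Fix h.σ (x k) : Submodule _ _)) := by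
  classical
  obtain ⟨ζ, hζ⟩ := exists_root (K := AlgebraicClosure F) (N := N) hN
  have hcomm : ∀ j k, h.σ (x j) * h.σ (x k) = h.σ (x k) * h.σ (x j) := fun j k => by
    rw [← map_mul, ← map_mul, hc]
  have hpow : ∀ k, h.σ (x k) ^ N = 1 := fun k => by rw [← map_pow, hx, map_one]
  have htop := iSup_W hN hζ hcomm hpow
  have hW : (⨅ k, _root_.Cfsg.Agent.H637.JW.Fix h.σ (x k) : Submodule _ _) = W N ζ (fun k => h.σ (x k)) 0 := by
    ext v
    rw [Submodule.mem_iInf, mem_W]
    refine forall_congr' fun k => ?_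
    rw [mem_Fix, Pi.zero_apply, ZMod.val_zero, pow_zero, one_smul]
  rw [hW]
  let C : LinearMap.BilinForm (AlgebraicClosure F) (W N ζ (fun k => h.σ (x k)) 0) :=
    LinearMap.mk₂ (AlgebraicClosure F) (fun u v => h.B u.1 v.1)
      (fun u u' v => h.B_add_left _ _ _) (fun c u v => h.B_smul_left _ _ _)
      (fun u v v' => h.B_add_right _ _ _) (fun c u v => h.B_smul_right _ _ _)
  refine even_of_alt C (fun v => h.B_self _) fun u hu => ?_
  apply Subtype.ext
  apply h.B_nondeg
  intro w
  rw [h.B_comm, neg_eq_zero]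
  have hw : w ∈ (⨆ d, W N ζ (fun k => h.σ (x k)) d) := by rw [htop]; trivial
  induction hw using Submodule.iSup_induction' with
  | mem d w hw =>
    by_cases hd : d = 0
    · subst hd
      exact hu ⟨w, hw⟩
    · refine h.B_eq_zero hζ ?_ u.2 hw
      rw [zero_add]
      exact hd
  | zero => exact h.B_zero _
  | add a b _ _ ha hb => rw [B_add_right, ha, hb, add_zero]

theorem d_even {N : ℕ} [NeZero N] (hN : (N : AlgebraicClosure F) ≠ 0) {g : T} (hg : g ^ N = 1) : Even (h.d g) := by
  have h1 := h.even_W (κ := Unit) hN (x := fun _ => g) (fun _ _ => rfl) (fun _ => hg)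
  rwa [iInf_const] at h1

theorem even_two {N : ℕ} [NeZero N] (hN : (N : AlgebraicClosure F) ≠ 0) {g k : T} (hg : g ^ N = 1) (hk : k ^ N = 1)
    (hgk : g * k = k * g) : Even (finrank (AlgebraicClosure F) (_root_.Cfsg.Agent.H637.JW.Fix h.σ g ⊓ _root_.Cfsg.Agent.H637.JW.Fix h.σ k : Submodule _ _)) := by
  have h1 := h.even_W (κ := Bool) hN (x := fun b => if b then g else k) (by
    intro a b
    cases a <;> cases b <;> simp [hgk]) (by
    intro a
    cases a <;> simp [hg, hk])
  rw [iInf_bool_eq] at h1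
  exact h1

theorem d_le (g : T) : h.d g ≤ 10 := by
  have := Submodule.finrank_le (_root_.Cfsg.Agent.H637.JW.Fix h.σ g)
  rwa [Module.finrank_fin_fun] at this

theorem d_ne {g : T} (hg : g ≠ 1) : h.d g ≠ 10 := by
  intro h10
  apply hg
  apply h.σ_injective
  have h1 : _root_.Cfsg.Agent.H637.JW.Fix h.σ g = ⊤ := Submodule.eq_top_of_finrank_eq (by rw [Module.finrank_fin_fun]; exact h10)
  refine LinearMap.ext fun v => ?_
  have h2 : v ∈ _root_.Cfsg.Agent.H637.JW.Fix h.σ g := by rw [h1]; trivial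
  rw [map_one, Module.End.one_apply]
  exact mem_Fix.1 h2

theorem sum_eig {N : ℕ} [NeZero N] (hN : (N : AlgebraicClosure F) ≠ 0) {ζ : AlgebraicClosure F}
    (hζ : IsPrimitiveRoot ζ N) {x : T} (hx : x ^ N = 1) :
    ∑ i : ZMod N, finrank (AlgebraicClosure F) ((h.σ x).eigenspace (ζ ^ i.val)) = 10 := by
  have h1 := sum_inf_eigen hN hζ (A := h.σ x) (by rw [← map_pow, hx, map_one]) (U := ⊤) (fun v _ => trivial)
  rw [finrank_top, Module.finrank_fin_fun] at h1
  refine Eq.trans (Finset.sum_congr rfl fun i _ => ?_) h1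
  have h2 : (⊤ ⊓ (h.σ x).eigenspace (ζ ^ i.val) : Submodule (AlgebraicClosure F) _) = (h.σ x).eigenspace (ζ ^ i.val) :=
    top_inf_eq _
  rw [h2]

theorem eig_neg {N : ℕ} [NeZero N] (hN : (N : AlgebraicClosure F) ≠ 0) {ζ : AlgebraicClosure F}
    (hζ : IsPrimitiveRoot ζ N) {x : T} (hx : x ^ N = 1) (i : ZMod N) :
    finrank (AlgebraicClosure F) ((h.σ x).eigenspace (ζ ^ (-i).val)) =
      finrank (AlgebraicClosure F) ((h.σ x).eigenspace (ζ ^ i.val)) := by
  have h1 := h.finrank_W_neg (κ := Unit) hN hζ (x := fun _ => x) (fun _ _ => rfl) (fun _ => hx) (fun _ => i)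
  have h2 : ∀ j : ZMod N, W N ζ (fun _ : Unit => h.σ x) (fun _ => j) = (h.σ x).eigenspace (ζ ^ j.val) := fun j => iInf_const
  have h3 : (-fun _ : Unit => i) = fun _ => -i := rfl
  rw [h3, h2, h2] at h1
  exact h1

theorem eig_zero {ζ : AlgebraicClosure F} (N : ℕ) [NeZero N] (x : T) :
    finrank (AlgebraicClosure F) ((h.σ x).eigenspace (ζ ^ (0 : ZMod N).val)) = h.d x := by
  rw [ZMod.val_zero, pow_zero]
  rfl

/-- **Elements of order five.** -/
theorem dim5 (h5 : (5 : AlgebraicClosure F) ≠ 0) {x d : T} (hx : x ^ 5 = 1) (hx1 : x ≠ 1) (hd : d⁻¹ * x * d = x ^ 2) :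
    h.d x = 2 ∨ h.d x = 6 := by
  have h5' : ((5 : ℕ) : AlgebraicClosure F) ≠ 0 := by exact_mod_cast h5
  obtain ⟨ζ, hζ⟩ := exists_root (K := AlgebraicClosure F) (N := 5) h5'
  have hsum := h.sum_eig h5' hζ hx
  have hconj := fun i : ZMod 5 => eig_conj (σ := h.σ) hζ hd i
  have h0 := h.eig_zero (ζ := ζ) 5 x
  set D : ZMod 5 → ℕ := fun i => finrank (AlgebraicClosure F) ((h.σ x).eigenspace (ζ ^ i.val)) with hD
  have e1 : D 1 ≤ D 2 := hconj 1
  have e2 : D 2 ≤ D 4 := hconj 2
  have e3 : D 4 ≤ D 3 := hconj 4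
  have e4 : D 3 ≤ D 1 := hconj 3
  have e0 : D 0 = h.d x := h0
  have hs : D 0 + D 1 + D 2 + D 3 + D 4 = 10 := by
    rw [← hsum]
    exact (Fin.sum_univ_five (fun i : Fin 5 => D i)).symm
  have hne := h.d_ne hx1
  (clear * - e1 e2 e3 e4 e0 hs hne; omega)

/-- **Elements of order three.** -/
theorem dim3 (h3 : (3 : AlgebraicClosure F) ≠ 0) {ζ : AlgebraicClosure F} (hζ : IsPrimitiveRoot ζ 3) {x : T} (hx : x ^ 3 = 1) :
    h.d x + 2 * finrank (AlgebraicClosure F) ((h.σ x).eigenspace ζ) = 10 ∧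
      finrank (AlgebraicClosure F) ((h.σ x).eigenspace (ζ ^ 2)) = finrank (AlgebraicClosure F) ((h.σ x).eigenspace ζ) := by
  have h3' : ((3 : ℕ) : AlgebraicClosure F) ≠ 0 := by exact_mod_cast h3
  have hsum := h.sum_eig h3' hζ hx
  have hneg := h.eig_neg h3' hζ hx
  have h0 := h.eig_zero (ζ := ζ) 3 x
  set D : ZMod 3 → ℕ := fun i => finrank (AlgebraicClosure F) ((h.σ x).eigenspace (ζ ^ i.val)) with hD
  have e1 : D 2 = D 1 := hneg 1
  have e0 : D 0 = h.d x := h0
  have hs : D 0 + D 1 + D 2 = 10 := by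
    rw [← hsum]
    exact (Fin.sum_univ_three (fun i : Fin 3 => D i)).symm
  have f1 : D 1 = finrank (AlgebraicClosure F) ((h.σ x).eigenspace ζ) := by
    change finrank (AlgebraicClosure F) ((h.σ x).eigenspace (ζ ^ 1)) = _
    rw [pow_one]
  have f2 : D 2 = finrank (AlgebraicClosure F) ((h.σ x).eigenspace (ζ ^ 2)) := rfl
  omega

/-- **Elementary abelian groups of order nine.** -/
theorem dimE (h3 : (3 : AlgebraicClosure F) ≠ 0) {a b g : T} (ha : a ^ 3 = 1) (hb : b ^ 3 = 1) (hab : a * b = b * a)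
    (hga : g⁻¹ * a * g = b) (hgb : g⁻¹ * b * g = a * a) :
    ∃ x y : ℕ, finrank (AlgebraicClosure F) (_root_.Cfsg.Agent.H637.JW.Fix h.σ a ⊓ _root_.Cfsg.Agent.H637.JW.Fix h.σ b : Submodule _ _) + 4 * x + 4 * y = 10 ∧
      h.d a = finrank (AlgebraicClosure F) (_root_.Cfsg.Agent.H637.JW.Fix h.σ a ⊓ _root_.Cfsg.Agent.H637.JW.Fix h.σ b : Submodule _ _) + 2 * x ∧
      h.d (a * b) = finrank (AlgebraicClosure F) (_root_.Cfsg.Agent.H637.JW.Fix h.σ a ⊓ _root_.Cfsg.Agent.H637.JW.Fix h.σ b : Submodule _ _) + 2 * y := by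
  have h3' : ((3 : ℕ) : AlgebraicClosure F) ≠ 0 := by exact_mod_cast h3
  obtain ⟨ζ, hζ⟩ := exists_root (K := AlgebraicClosure F) (N := 3) h3'
  have hζ3 := hζ.pow_eq_one
  have hsum := h.sum_eig h3' hζ ha
  have hcomm : ∀ v, h.σ a (h.σ b v) = h.σ b (h.σ a v) := fun v => by rw [← mul_apply', ← mul_apply', hab]
  set D : ZMod 3 → ZMod 3 → ℕ := fun i j => finrank (AlgebraicClosure F)
    ((h.σ a).eigenspace (ζ ^ i.val) ⊓ (h.σ b).eigenspace (ζ ^ j.val) : Submodule _ _) with hD
  have hrow : ∀ i, ∑ j, D i j = finrank (AlgebraicClosure F) ((h.σ a).eigenspace (ζ ^ i.val)) := by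
    intro i
    refine sum_inf_eigen h3' hζ (A := h.σ b) (by rw [← map_pow, hb, map_one]) (fun v hv => ?_)
    rw [Module.End.mem_eigenspace_iff] at hv ⊢
    rw [hcomm, hv, map_smul]
  have hdiag : ∑ i, D i (-i) = h.d (a * b) := by
    have h1 := sum_inf_eigen h3' hζ (A := h.σ a) (by rw [← map_pow, ha, map_one]) (U := _root_.Cfsg.Agent.H637.JW.Fix h.σ (a * b)) (fun v hv => by
      rw [mem_Fix] at hv ⊢
      rw [mul_apply', ← hcomm, ← mul_apply' a b, hv])
    rw [d, ← h1]
    refine Finset.sum_congr rfl fun i _ => ?_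
    have h2 : (_root_.Cfsg.Agent.H637.JW.Fix h.σ (a * b) ⊓ (h.σ a).eigenspace (ζ ^ i.val) : Submodule (AlgebraicClosure F) _) =
        (h.σ a).eigenspace (ζ ^ i.val) ⊓ (h.σ b).eigenspace (ζ ^ (-i).val) := by
      ext v
      simp only [Submodule.mem_inf, Module.End.mem_eigenspace_iff, mem_Fix, mul_apply']
      have h4 : ζ ^ (-i).val * ζ ^ i.val = 1 := by
        rw [← pow_val_add hζ3, neg_add_cancel, ZMod.val_zero, pow_zero]
      constructor
      · rintro ⟨h5, h6⟩
        refine ⟨h6, ?_⟩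
        rw [hcomm, h6, map_smul] at h5
        have h7 := congrArg (fun z => ζ ^ (-i).val • z) h5
        simp only [smul_smul, h4, one_smul] at h7
        exact h7
      · rintro ⟨h5, h6⟩
        refine ⟨?_, h5⟩
        rw [h6, map_smul, h5, smul_smul, h4, one_smul]
    rw [h2]
  have hDle : ∀ i j, D i j ≤ D j (i + i) := by
    intro i j
    refine finrank_le_of_map (σ := h.σ) g fun v hv => ?_
    rw [Submodule.mem_inf, Module.End.mem_eigenspace_iff, Module.End.mem_eigenspace_iff] at hv ⊢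
    have e1 : ∀ z : T, h.σ z (h.σ g v) = h.σ g (h.σ (g⁻¹ * z * g) v) := by
      intro z
      rw [← mul_apply', ← mul_apply']
      congr 2
      group
    refine ⟨?_, ?_⟩
    · rw [e1, hga, hv.2, map_smul]
    · rw [e1, hgb, act_mul hv.1 hv.1, ← pow_val_add hζ3, map_smul]
  have r : ∀ f : ZMod 3 → ℕ, ∑ i, f i = f 0 + f 1 + f 2 := fun f => Fin.sum_univ_three (fun i : Fin 3 => f i)
  have r0 := hrow 0
  have r1 := hrow 1
  have r2 := hrow 2
  rw [r] at r0 r1 r2
  rw [r] at hsum hdiag
  have hz := h.eig_zero (ζ := ζ) 3 a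
  rw [hz] at r0 hsum
  have e1 : D 1 0 ≤ D 0 2 := hDle 1 0
  have e2 : D 0 2 ≤ D 2 0 := hDle 0 2
  have e3 : D 2 0 ≤ D 0 1 := hDle 2 0
  have e4 : D 0 1 ≤ D 1 0 := hDle 0 1
  have f1 : D 1 1 ≤ D 1 2 := hDle 1 1
  have f2 : D 1 2 ≤ D 2 2 := hDle 1 2
  have f3 : D 2 2 ≤ D 2 1 := hDle 2 2
  have f4 : D 2 1 ≤ D 1 1 := hDle 2 1
  have hdiag' : D 0 0 + D 1 2 + D 2 1 = h.d (a * b) := hdiag
  have h00 : D 0 0 = finrank (AlgebraicClosure F) (_root_.Cfsg.Agent.H637.JW.Fix h.σ a ⊓ _root_.Cfsg.Agent.H637.JW.Fix h.σ b : Submodule _ _) := by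
    change finrank (AlgebraicClosure F) ((h.σ a).eigenspace (ζ ^ 0) ⊓ (h.σ b).eigenspace (ζ ^ 0) : Submodule _ _) = _
    rw [pow_zero]
    rfl
  refine ⟨D 1 0, D 1 1, ?_, ?_, ?_⟩ <;> rw [← h00] <;> omega

/-- **Traces.** -/
theorem sum_tr {N : ℕ} (hN : (N : F) ≠ 0) {x : T} (hx : x ^ N = 1) :
    ∑ k ∈ Finset.range N, ((h.ρ (x ^ k) : Matrix (Fin 10) (Fin 10) F)).trace = N * (h.d x : F) := by
  have hN' : (N : AlgebraicClosure F) ≠ 0 := by
    have := (map_ne_zero (algebraMap F (AlgebraicClosure F))).2 hN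
    rwa [map_natCast] at this
  have h1 := sum_trace (σ := h.σ) hN' hx
  apply (algebraMap F (AlgebraicClosure F)).injective
  rw [map_sum, map_mul, map_natCast, map_natCast]
  refine Eq.trans (Finset.sum_congr rfl fun k _ => ?_) h1
  have h2 : h.σ (x ^ k) = Matrix.toLin' ((h.ρ (x ^ k) : Matrix (Fin 10) (Fin 10) F).map (algebraMap F (AlgebraicClosure F))) := by
    refine LinearMap.ext fun v => ?_
    rw [σ_apply, Matrix.toLin'_apply]
  rw [h2, Matrix.trace_toLin'_eq]
  simp [Matrix.trace]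

end AT

end Cfsg.Agent.H908.SpTen

private theorem dce_6b0e228130e6 : _root_.True := by
  try have : _root_.True := by simp only [_root_.Cfsg.Agent.H908.SpTen.AT.d.eq_1]
  exact _root_.True.intro
end

-- part: H908/SpTenSeven
section
prune_inst 0x1200400004000000000001632000000080000000000000080400e0202008002890428400000040000288c0000090000020400104040000004000000001c0020800052061300a004040080800000000000000000000000000000000000010004000000000
set_option linter.all false
open scoped Cfsg.Agent.FastGrp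

/-!
# `A₇` in `Sp₁₀(q)`, `q` a power of seven: dimensions of the fixed spaces (helper908, after `TenSeven`)
-/

set_option autoImplicit false
set_option linter.unusedSectionVars false

namespace Cfsg.Agent.H908.SpTen

open Cfsg Cfsg.Geo Module Equiv Equiv.Perm
open Matrix hiding mul_apply'
open Cfsg.Agent.H637.JW Cfsg.Agent.H637.SevenA7 Cfsg.Agent.H908.Ten

universe u

theorem finrank_ker_mul_le {K V : Type*} [Field K] [AddCommGroup V] [Module K V] [FiniteDimensional K V]
    (f g : Module.End K V) : finrank K (LinearMap.ker (f * g)) ≤ finrank K (LinearMap.ker f) + finrank K (LinearMap.ker g) := by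
  have h1 := LinearMap.finrank_range_add_finrank_ker (g.domRestrict (LinearMap.ker (f * g)))
  have h2 : finrank K (LinearMap.range (g.domRestrict (LinearMap.ker (f * g)))) ≤ finrank K (LinearMap.ker f) := by
    refine Submodule.finrank_mono ?_
    rintro _ ⟨⟨v, hv⟩, rfl⟩
    exact hv
  have h3 : finrank K (LinearMap.ker (g.domRestrict (LinearMap.ker (f * g)))) ≤ finrank K (LinearMap.ker g) := by
    have h4 : ((LinearMap.ker (g.domRestrict (LinearMap.ker (f * g)))).map (LinearMap.ker (f * g)).subtype) ≤ LinearMap.ker g := by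
      rintro _ ⟨v, hv, rfl⟩
      exact hv
    rw [← Submodule.finrank_map_subtype_eq]
    exact Submodule.finrank_mono h4
  omega

theorem finrank_ker_pow_le {K V : Type*} [Field K] [AddCommGroup V] [Module K V] [FiniteDimensional K V]
    (f : Module.End K V) (n : ℕ) : finrank K (LinearMap.ker (f ^ n)) ≤ n * finrank K (LinearMap.ker f) := by
  induction n with
  | zero =>
    rw [pow_zero, zero_mul]
    have : LinearMap.ker (1 : Module.End K V) = ⊥ := LinearMap.ker_id
    rw [this, finrank_bot]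
  | succ n ih =>
    rw [pow_succ]
    have h1 := finrank_ker_mul_le (f ^ n) f
    rw [add_mul, one_mul]
    omega

variable {F : Type u} [Field F]

namespace AT

variable (h : AT F A7)

/-- the intersection of the fixed spaces of commuting elements of coprime order -/
theorem fix_cs : _root_.Cfsg.Agent.H637.JW.Fix h.σ (c * s) = _root_.Cfsg.Agent.H637.JW.Fix h.σ c ⊓ _root_.Cfsg.Agent.H637.JW.Fix h.σ s := by
  ext v
  rw [Submodule.mem_inf, mem_Fix, mem_Fix, mem_Fix]
  constructor
  · intro hv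
    have hp : ∀ k : ℕ, h.σ ((c * s) ^ k) v = v := by
      intro k
      induction k with
      | zero => rw [pow_zero, map_one]; rfl
      | succ k ih => rw [pow_succ', mul_apply', ih, hv]
    exact ⟨by rw [← cs4]; exact hp 4, by rw [← cs3]; exact hp 3⟩
  · rintro ⟨h1, h2⟩
    rw [mul_apply', h2, h1]

/-- elements of order seven in characteristic seven -/
theorem two_le_d [CharP F 7] {x : A7} (hx : x ^ 7 = 1) : 2 ≤ h.d x := by
  have hF : Fact (Nat.Prime 7) := ⟨by norm_num⟩
  have hK : CharP (AlgebraicClosure F) 7 := charP_of_injective_algebraMap (algebraMap F (AlgebraicClosure F)).injective 7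
  have hE : CharP (Module.End (AlgebraicClosure F) (Fin 10 → AlgebraicClosure F)) 7 :=
    charP_of_injective_algebraMap (FaithfulSMul.algebraMap_injective (AlgebraicClosure F) _) 7
  have h1 : (h.σ x - 1) ^ 7 = 0 := by
    rw [sub_pow_char_of_commute 7 (Commute.one_right (h.σ x)), ← map_pow, hx, map_one, one_pow, sub_self]
  have h2 : _root_.Cfsg.Agent.H637.JW.Fix h.σ x = LinearMap.ker (h.σ x - 1) := by
    ext v
    rw [mem_Fix, LinearMap.mem_ker, LinearMap.sub_apply, Module.End.one_apply, sub_eq_zero]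
  have h3 := finrank_ker_pow_le (h.σ x - 1) 7
  rw [h1, LinearMap.ker_zero, finrank_top, Module.finrank_fin_fun, ← h2] at h3
  change 10 ≤ 7 * h.d x at h3
  omega

/-- Case B is impossible. -/
theorem caseB (hn : finrank (AlgebraicClosure F) (_root_.Cfsg.Agent.H637.JW.Fix h.σ c ⊓ _root_.Cfsg.Agent.H637.JW.Fix h.σ s ⊓ _root_.Cfsg.Agent.H637.JW.Fix h.σ t : Submodule _ _) = h.d c) :
    finrank (AlgebraicClosure F) (_root_.Cfsg.Agent.H637.JW.Fix h.σ a ⊓ _root_.Cfsg.Agent.H637.JW.Fix h.σ b : Submodule _ _) = 0 := by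
  have h1 : _root_.Cfsg.Agent.H637.JW.Fix h.σ c ⊓ _root_.Cfsg.Agent.H637.JW.Fix h.σ s ⊓ _root_.Cfsg.Agent.H637.JW.Fix h.σ t = _root_.Cfsg.Agent.H637.JW.Fix h.σ c :=
    Submodule.eq_of_le_of_finrank_eq (inf_le_left.trans inf_le_left) hn
  have h2 : ∀ v, h.σ c v = v → h.σ s v = v := by
    intro v hv
    have h3 : v ∈ _root_.Cfsg.Agent.H637.JW.Fix h.σ c ⊓ _root_.Cfsg.Agent.H637.JW.Fix h.σ s ⊓ _root_.Cfsg.Agent.H637.JW.Fix h.σ t := by rw [h1]; exact mem_Fix.2 hv
    exact mem_Fix.1 h3.1.2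
  have key : ∀ (g x z : A7) (v : Fin 10 → AlgebraicClosure F), g⁻¹ * x * g = c → g⁻¹ * z * g = s →
      h.σ x v = v → h.σ z v = v := by
    intro g x z v e1 e2 hv
    have h3 : h.σ c (h.σ g⁻¹ v) = h.σ g⁻¹ v := by
      rw [← e1, ← mul_apply', mul_assoc, mul_inv_cancel, mul_one, mul_apply', hv]
    have h4 := h2 _ h3
    have h5 := congrArg (h.σ g) h4
    rw [← mul_apply', ← mul_apply', ← mul_apply', mul_inv_cancel, map_one, Module.End.one_apply, ← e2] at h5
    have h6 : g * (g⁻¹ * z * g) * g⁻¹ = z := by group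
    rwa [h6] at h5
  rw [Submodule.finrank_eq_zero, eq_bot_iff]
  rintro v ⟨ha, hb⟩
  rw [SetLike.mem_coe, mem_Fix] at ha hb
  rw [Submodule.mem_bot]
  refine h.eq_zero_of_fixed fun g => ?_
  have h3 := genB (stab h.σ v) ha hb (key g1 a x1 v g1_c g1_s ha) (key g2 b z2 v g2_c g2_s hb)
  have h4 : g ∈ stab h.σ v := by rw [h3]; trivial
  exact h4

theorem scott_gen {x y : A7} (hg : Gen x y) : h.d x + h.d y + h.d (x * y) ≤ 10 := by
  refine h.scott fun v hx hy => h.eq_zero_of_fixed fun g => ?_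
  have h1 := hg (stab h.σ v) hx hy
  have h2 : g ∈ stab h.σ v := by rw [h1]; trivial
  exact h2

/-- Klein four group on the whole space -/
theorem klein_top (h2 : (2 : AlgebraicClosure F) ≠ 0) :
    10 + 2 * finrank (AlgebraicClosure F) (_root_.Cfsg.Agent.H637.JW.Fix h.σ s ⊓ _root_.Cfsg.Agent.H637.JW.Fix h.σ t : Submodule _ _) = 3 * h.d s := by
  have h1 := klein3 (σ := h.σ) h2 s_sq t_sq s_t a_s' a_t' (U := ⊤) (fun _ _ => trivial) (fun _ _ => trivial)
    (fun _ _ => trivial)
  rw [top_inf_eq, finrank_top, Module.finrank_fin_fun] at h1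
  exact h1

set_option maxHeartbeats 4000000 in
/-- **The dimensions of the fixed spaces** in characteristic seven. -/
theorem dims [CharP F 7] :
    (h.d s = 6 ∧ h.d a = 6 ∧ h.d (a * b) = 2 ∧ h.d r = 2 ∧ h.d y5 = 2 ∧ h.d (c * s) = 2) := by
  have hK : CharP (AlgebraicClosure F) 7 := charP_of_injective_algebraMap (algebraMap F (AlgebraicClosure F)).injective 7
  have hc : ∀ n : ℕ, ¬ 7 ∣ n → (n : AlgebraicClosure F) ≠ 0 := by
    intro n hn h0
    exact hn ((CharP.cast_eq_zero_iff (AlgebraicClosure F) 7 n).1 h0)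
  have h2 : (2 : AlgebraicClosure F) ≠ 0 := by exact_mod_cast hc 2 (by norm_num)
  have h3 : (3 : AlgebraicClosure F) ≠ 0 := by exact_mod_cast hc 3 (by norm_num)
  have h3' : ((3 : ℕ) : AlgebraicClosure F) ≠ 0 := hc 3 (by norm_num)
  have h5 : (5 : AlgebraicClosure F) ≠ 0 := by exact_mod_cast hc 5 (by norm_num)
  obtain ⟨ζ, hζ⟩ := exists_root (K := AlgebraicClosure F) (N := 3) h3'
  have hζ3 := hζ.pow_eq_one
  -- elements of order three
  obtain ⟨x, y, E1, E2, E3⟩ := h.dimE h3 a_pow b_pow ab_comm g_a g_b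
  obtain ⟨C1, C2⟩ := h.dim3 h3 hζ c_pow
  -- Klein four groups
  have k0 := h.klein_top h2
  -- Scott
  have S1 := h.scott_gen gen1
  have S4 := h.scott_gen gen4
  have S5 := h.scott_gen gen5
  have S6 := h.scott_gen gen6
  have S7 := h.scott_gen gen7
  have u1 := h.two_le_d (x := y1) (by decide +kernel)
  have u2 := h.two_le_d (x := x1 * y1) (by decide +kernel)
  have u4 := h.two_le_d (x := x2 * y4) (by decide +kernel)
  have u5 := h.two_le_d (x := x2 * y5) (by decide +kernel)
  have v1 := h.d_conj cj_x1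
  have v2 := h.d_conj cj_x2
  have v3 := h.d_conj cj_x3
  have v4 := h.d_conj cj_y4
  have v6 := h.d_conj cj_x6
  have v7 := h.d_conj cj_x7
  have v8 := h.d_conj cj_y7
  have v9 := h.d_conj cj_x7_y7
  have v10 := h.d_conj cj_c
  have v11 := h.d_conj cj_t
  have v12 := h.d_conj cj_τ
  have v13 := h.d_conj cj_t_τ
  have w5 := h.dim5 h5 (x := y5) (d := H908.Ten.d5) (by decide +kernel) (by decide +kernel) (by decide +kernel)
  -- parity
  obtain ⟨p1, P1⟩ := h.d_even (N := 2) (hc 2 (by norm_num)) (g := s) (by decide +kernel)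
  obtain ⟨p2, P2⟩ := h.d_even (N := 3) (hc 3 (by norm_num)) (g := a) (by decide +kernel)
  obtain ⟨p3, P3⟩ := h.d_even (N := 3) (hc 3 (by norm_num)) (g := a * b) (by decide +kernel)
  obtain ⟨p4, P4⟩ := h.d_even (N := 4) (hc 4 (by norm_num)) (g := r) (by decide +kernel)
  obtain ⟨p5, P5⟩ := h.even_two (N := 2) (hc 2 (by norm_num)) (g := s) (k := t) (by decide +kernel) (by decide +kernel) s_t
  -- `c` and the Klein four group
  have inv : ∀ (g k : A7) (i : AlgebraicClosure F), g * k = k * g → ∀ v ∈ (h.σ g).eigenspace i, h.σ k v ∈ (h.σ g).eigenspace i := by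
    intro g k i hgk v hv
    rw [Module.End.mem_eigenspace_iff] at hv ⊢
    rw [← mul_apply', hgk, mul_apply', hv, map_smul]
  have hca : c * a⁻¹ = a⁻¹ * c := by decide +kernel
  have K0 := klein3 (σ := h.σ) h2 s_sq t_sq s_t a_s' a_t' (U := _root_.Cfsg.Agent.H637.JW.Fix h.σ c) (inv c s 1 c_s') (inv c t 1 c_t') (inv c a⁻¹ 1 hca)
  have K1 := klein3 (σ := h.σ) h2 s_sq t_sq s_t a_s' a_t' (U := (h.σ c).eigenspace ζ) (inv c s ζ c_s') (inv c t ζ c_t')
    (inv c a⁻¹ ζ hca)
  have K2 : finrank (AlgebraicClosure F) (_root_.Cfsg.Agent.H637.JW.Fix h.σ c ⊓ _root_.Cfsg.Agent.H637.JW.Fix h.σ s : Submodule _ _) = h.d (c * s) := by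
    rw [← h.fix_cs]; rfl
  -- decomposition of the fixed space of the Klein four group under `c`
  have hL := sum_inf_eigen h3' hζ (A := h.σ c) (by rw [← map_pow, c_pow, map_one]) (U := _root_.Cfsg.Agent.H637.JW.Fix h.σ s ⊓ _root_.Cfsg.Agent.H637.JW.Fix h.σ t) (by
    rintro v ⟨hv1, hv2⟩
    rw [SetLike.mem_coe, mem_Fix] at hv1 hv2
    refine ⟨?_, ?_⟩
    · rw [SetLike.mem_coe, mem_Fix, ← mul_apply', ← c_s', mul_apply', hv1]
    · rw [SetLike.mem_coe, mem_Fix, ← mul_apply', ← c_t', mul_apply', hv2])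
  have hL' : finrank (AlgebraicClosure F) ((_root_.Cfsg.Agent.H637.JW.Fix h.σ s ⊓ _root_.Cfsg.Agent.H637.JW.Fix h.σ t) ⊓ (h.σ c).eigenspace (ζ ^ (0 : ZMod 3).val) : Submodule _ _) +
      finrank (AlgebraicClosure F) ((_root_.Cfsg.Agent.H637.JW.Fix h.σ s ⊓ _root_.Cfsg.Agent.H637.JW.Fix h.σ t) ⊓ (h.σ c).eigenspace (ζ ^ (1 : ZMod 3).val) : Submodule _ _) +
      finrank (AlgebraicClosure F) ((_root_.Cfsg.Agent.H637.JW.Fix h.σ s ⊓ _root_.Cfsg.Agent.H637.JW.Fix h.σ t) ⊓ (h.σ c).eigenspace (ζ ^ (2 : ZMod 3).val) : Submodule _ _) =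
      finrank (AlgebraicClosure F) (_root_.Cfsg.Agent.H637.JW.Fix h.σ s ⊓ _root_.Cfsg.Agent.H637.JW.Fix h.σ t : Submodule _ _) := by
    rw [← hL]
    exact (Fin.sum_univ_three (fun i : Fin 3 => finrank (AlgebraicClosure F)
      ((_root_.Cfsg.Agent.H637.JW.Fix h.σ s ⊓ _root_.Cfsg.Agent.H637.JW.Fix h.σ t) ⊓ (h.σ c).eigenspace (ζ ^ (i : ZMod 3).val) : Submodule _ _))).symm
  have q0 : ((_root_.Cfsg.Agent.H637.JW.Fix h.σ s ⊓ _root_.Cfsg.Agent.H637.JW.Fix h.σ t) ⊓ (h.σ c).eigenspace (ζ ^ (0 : ZMod 3).val) : Submodule (AlgebraicClosure F) _) =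
      _root_.Cfsg.Agent.H637.JW.Fix h.σ c ⊓ _root_.Cfsg.Agent.H637.JW.Fix h.σ s ⊓ _root_.Cfsg.Agent.H637.JW.Fix h.σ t := by
    rw [ZMod.val_zero, pow_zero, inf_comm, inf_assoc]
    rfl
  have q1 : ((_root_.Cfsg.Agent.H637.JW.Fix h.σ s ⊓ _root_.Cfsg.Agent.H637.JW.Fix h.σ t) ⊓ (h.σ c).eigenspace (ζ ^ (1 : ZMod 3).val) : Submodule (AlgebraicClosure F) _) =
      (h.σ c).eigenspace ζ ⊓ _root_.Cfsg.Agent.H637.JW.Fix h.σ s ⊓ _root_.Cfsg.Agent.H637.JW.Fix h.σ t := by
    have : (1 : ZMod 3).val = 1 := rfl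
    rw [this, pow_one, inf_comm, inf_assoc]
  have q2 : ((_root_.Cfsg.Agent.H637.JW.Fix h.σ s ⊓ _root_.Cfsg.Agent.H637.JW.Fix h.σ t) ⊓ (h.σ c).eigenspace (ζ ^ (2 : ZMod 3).val) : Submodule (AlgebraicClosure F) _) =
      (h.σ c).eigenspace (ζ ^ 2) ⊓ _root_.Cfsg.Agent.H637.JW.Fix h.σ s ⊓ _root_.Cfsg.Agent.H637.JW.Fix h.σ t := by
    have : (2 : ZMod 3).val = 2 := rfl
    rw [this, inf_comm, inf_assoc]
  rw [q0, q1, q2] at hL'
  -- the involution `τ` swaps the two eigenspaces
  have hτ : ∀ (ω : AlgebraicClosure F) (v : Fin 10 → AlgebraicClosure F),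
      v ∈ (h.σ c).eigenspace ω ⊓ _root_.Cfsg.Agent.H637.JW.Fix h.σ s ⊓ _root_.Cfsg.Agent.H637.JW.Fix h.σ t →
      h.σ τ v ∈ (h.σ c).eigenspace (ω ^ 2) ⊓ _root_.Cfsg.Agent.H637.JW.Fix h.σ s ⊓ _root_.Cfsg.Agent.H637.JW.Fix h.σ t := by
    rintro ω v ⟨⟨hv1, hv2⟩, hv3⟩
    rw [SetLike.mem_coe, Module.End.mem_eigenspace_iff] at hv1
    rw [SetLike.mem_coe, mem_Fix] at hv2 hv3
    have e1 : ∀ z : A7, h.σ z (h.σ τ v) = h.σ τ (h.σ (τ⁻¹ * z * τ) v) := by
      intro z
      rw [← mul_apply', ← mul_apply']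
      congr 2
      group
    refine ⟨⟨?_, ?_⟩, ?_⟩
    · rw [SetLike.mem_coe, Module.End.mem_eigenspace_iff, e1, τ_c, mul_apply', hv1, map_smul, hv1, smul_smul, map_smul, pow_two]
    · rw [SetLike.mem_coe, mem_Fix, e1, τ_s, mul_apply', hv3, hv2]
    · rw [SetLike.mem_coe, mem_Fix, e1, τ_t, hv3]
  have m1 : finrank (AlgebraicClosure F) ((h.σ c).eigenspace ζ ⊓ _root_.Cfsg.Agent.H637.JW.Fix h.σ s ⊓ _root_.Cfsg.Agent.H637.JW.Fix h.σ t : Submodule _ _) ≤
      finrank (AlgebraicClosure F) ((h.σ c).eigenspace (ζ ^ 2) ⊓ _root_.Cfsg.Agent.H637.JW.Fix h.σ s ⊓ _root_.Cfsg.Agent.H637.JW.Fix h.σ t : Submodule _ _) :=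
    finrank_le_of_map (σ := h.σ) τ (hτ ζ)
  have m2 : finrank (AlgebraicClosure F) ((h.σ c).eigenspace (ζ ^ 2) ⊓ _root_.Cfsg.Agent.H637.JW.Fix h.σ s ⊓ _root_.Cfsg.Agent.H637.JW.Fix h.σ t : Submodule _ _) ≤
      finrank (AlgebraicClosure F) ((h.σ c).eigenspace ζ ⊓ _root_.Cfsg.Agent.H637.JW.Fix h.σ s ⊓ _root_.Cfsg.Agent.H637.JW.Fix h.σ t : Submodule _ _) := by
    refine finrank_le_of_map (σ := h.σ) τ fun v hv => ?_
    have := hτ _ v hv
    rwa [show (ζ ^ 2) ^ 2 = ζ by rw [← pow_mul]; calc ζ ^ (2 * 2) = ζ ^ 3 * ζ := by ring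
        _ = ζ := by rw [hζ3, one_mul]] at this
  -- bounds
  have b1 : finrank (AlgebraicClosure F) ((h.σ c).eigenspace ζ ⊓ _root_.Cfsg.Agent.H637.JW.Fix h.σ s ⊓ _root_.Cfsg.Agent.H637.JW.Fix h.σ t : Submodule _ _) ≤
      finrank (AlgebraicClosure F) ((h.σ c).eigenspace ζ) := Submodule.finrank_mono (inf_le_left.trans inf_le_left)
  -- dihedral group of order eight
  have D1 := klein (σ := h.σ) h2 (a := s) (b := τ) (U := _root_.Cfsg.Agent.H637.JW.Fix h.σ t)
    (fun v _ => by rw [← mul_apply', s_sq, map_one]; rfl) (fun v _ => by rw [← mul_apply', τ_sq, map_one]; rfl)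
    (fun v hv => by
      rw [mem_Fix] at hv
      rw [← mul_apply', s_τ, mul_apply', mul_apply', hv])
    (inv t s 1 s_t.symm) (inv t τ 1 t_τ)
  have D2 := klein (σ := h.σ) h2 (a := t) (b := τ) (U := ⊤)
    (fun v _ => by rw [← mul_apply', t_sq, map_one]; rfl) (fun v _ => by rw [← mul_apply', τ_sq, map_one]; rfl)
    (fun v _ => by rw [← mul_apply', ← mul_apply', t_τ]) (fun _ _ => trivial) (fun _ _ => trivial)
  rw [top_inf_eq, top_inf_eq, top_inf_eq, finrank_top, Module.finrank_fin_fun] at D2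
  have D3 : (_root_.Cfsg.Agent.H637.JW.Fix h.σ t ⊓ _root_.Cfsg.Agent.H637.JW.Fix h.σ (s * τ) : Submodule (AlgebraicClosure F) _) = _root_.Cfsg.Agent.H637.JW.Fix h.σ r := by
    refine le_antisymm inf_le_right (le_inf (fun v hv => ?_) le_rfl)
    rw [mem_Fix] at hv ⊢
    rw [← r_sq, mul_apply', hv, hv]
  have D4 : (_root_.Cfsg.Agent.H637.JW.Fix h.σ t ⊓ _root_.Cfsg.Agent.H637.JW.Fix h.σ s : Submodule (AlgebraicClosure F) _) = _root_.Cfsg.Agent.H637.JW.Fix h.σ s ⊓ _root_.Cfsg.Agent.H637.JW.Fix h.σ t := inf_comm _ _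
  rw [D3, D4] at D1
  have D5 : finrank (AlgebraicClosure F) (_root_.Cfsg.Agent.H637.JW.Fix h.σ s ⊓ _root_.Cfsg.Agent.H637.JW.Fix h.σ t ⊓ _root_.Cfsg.Agent.H637.JW.Fix h.σ τ : Submodule _ _) ≤
      finrank (AlgebraicClosure F) (_root_.Cfsg.Agent.H637.JW.Fix h.σ s ⊓ _root_.Cfsg.Agent.H637.JW.Fix h.σ t : Submodule _ _) := Submodule.finrank_mono inf_le_left
  have D6 : finrank (AlgebraicClosure F) ((h.σ c).eigenspace ζ ⊓ _root_.Cfsg.Agent.H637.JW.Fix h.σ s ⊓ _root_.Cfsg.Agent.H637.JW.Fix h.σ t : Submodule _ _) ≤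
      finrank (AlgebraicClosure F) (_root_.Cfsg.Agent.H637.JW.Fix h.σ s ⊓ _root_.Cfsg.Agent.H637.JW.Fix h.σ t ⊓ _root_.Cfsg.Agent.H637.JW.Fix h.σ τ : Submodule _ _) := by
    set W := ((h.σ c).eigenspace ζ ⊓ _root_.Cfsg.Agent.H637.JW.Fix h.σ s ⊓ _root_.Cfsg.Agent.H637.JW.Fix h.σ t : Submodule (AlgebraicClosure F) _) with hW
    have hinj : Function.Injective ((1 + h.σ τ : Module.End (AlgebraicClosure F) (Fin 10 → AlgebraicClosure F)).domRestrict W) := by
      rw [← LinearMap.ker_eq_bot, LinearMap.ker_eq_bot']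
      rintro ⟨v, hv⟩ h0
      apply Subtype.ext
      have h1 : v + h.σ τ v = 0 := h0
      have e2 := (hτ ζ v hv).1.1
      have e1 := hv.1.1
      rw [SetLike.mem_coe, Module.End.mem_eigenspace_iff] at e1 e2
      have e3 : h.σ τ v = -v := (neg_eq_of_add_eq_zero_right h1).symm
      rw [e3, map_neg, e1, smul_neg, neg_inj] at e2
      have e4 : (ζ - ζ ^ 2) • v = 0 := by rw [sub_smul, e2, sub_self]
      have e5 : ζ - ζ ^ 2 ≠ 0 := by
        intro h6
        have h7 : ζ * (1 - ζ) = 0 := by linear_combination h6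
        rcases mul_eq_zero.1 h7 with h8 | h8
        · exact hζ.ne_zero (by norm_num) h8
        · exact hζ.ne_one (by norm_num) (sub_eq_zero.1 h8).symm
      exact (smul_eq_zero.1 e4).resolve_left e5
    have h1 := LinearMap.finrank_range_of_inj hinj
    rw [← h1]
    refine Submodule.finrank_mono ?_
    rintro _ ⟨⟨v, hv⟩, rfl⟩
    have h4 := hτ ζ v hv
    change v + h.σ τ v ∈ _
    refine ⟨⟨?_, ?_⟩, ?_⟩
    · exact Submodule.add_mem _ hv.1.2 h4.1.2
    · exact Submodule.add_mem _ hv.2 h4.2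
    · rw [SetLike.mem_coe, mem_Fix, map_add, ← mul_apply', τ_sq, map_one, Module.End.one_apply, add_comm]
  -- case B
  have hB : finrank (AlgebraicClosure F) (_root_.Cfsg.Agent.H637.JW.Fix h.σ c ⊓ _root_.Cfsg.Agent.H637.JW.Fix h.σ s ⊓ _root_.Cfsg.Agent.H637.JW.Fix h.σ t : Submodule _ _) ≠ h.d c ∨
      finrank (AlgebraicClosure F) (_root_.Cfsg.Agent.H637.JW.Fix h.σ a ⊓ _root_.Cfsg.Agent.H637.JW.Fix h.σ b : Submodule _ _) = 0 := by
    by_cases hn : finrank (AlgebraicClosure F) (_root_.Cfsg.Agent.H637.JW.Fix h.σ c ⊓ _root_.Cfsg.Agent.H637.JW.Fix h.σ s ⊓ _root_.Cfsg.Agent.H637.JW.Fix h.σ t : Submodule _ _) = h.d c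
    · exact Or.inr (h.caseB hn)
    · exact Or.inl hn
  have z1 : finrank (AlgebraicClosure F) (Fix h.σ c) = h.d c := rfl
  have z2 : finrank (AlgebraicClosure F) (Fix h.σ t) = h.d s := v11.symm
  have z3 : finrank (AlgebraicClosure F) (Fix h.σ r) = h.d r := rfl
  have z5 : finrank (AlgebraicClosure F) (Fix h.σ τ) = h.d s := v12.symm
  have z6 : finrank (AlgebraicClosure F) (Fix h.σ (t * τ)) = h.d s := v13.symm
  rw [z1, K2] at K0
  rw [z2, z5, z6] at D2
  rw [z2, z3] at D1
  have F1 : h.d s ≤ 6 := by clear K0 K1 D1 D2 hL' S4 S5 S6 S7; (clear * - S1 u1 u2 v1; omega)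
  have F2 : h.d a + h.d (a * b) ≤ 8 := by clear K0 K1 D1 D2 hL' S1 S5 S6 S7; (clear * - S4 u4 v2 v4; omega)
  have F3 : 2 * h.d (a * b) ≤ 10 := by clear K0 K1 D1 D2 hL' S1 S5 S4 S7; (clear * - C1 C2 S6 v3 v6 v10 P2 F2; omega)
  have F4 : h.d a + h.d y5 ≤ 8 := by clear K0 K1 D1 D2 hL' S1 S4 S6 S7; (clear * - S5 u5 v2; omega)
  have F5 : 3 * h.d r ≤ 10 := by clear K0 K1 D1 D2 hL' S1 S5 S6 S4; omega
  rcases arith E1 E2 E3 C1 k0 F1 F2 F3 F4 F5 v10 w5 P1 P2 P3 P4 K0 K1 hL' m1 m2 b1 D1 (by rw [D2]; ring) D5 D6 hB with hA | hC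
  · exfalso
    have hA1 := hA.1
    clear K0 K1 D1 D2 hL' S1 S5 S6 S4 S7 hA
    (clear * - k0 P5 hA1; omega)
  · exact hC

end AT

end Cfsg.Agent.H908.SpTen
end

-- part: H912/Sp10/AltFix
section
set_option linter.all false
open scoped Cfsg.Agent.FastGrp

/-!
# Fixed spaces in symplectic representations (helper912)

* `even_fix` : the fixed space of a commuting set of elements of order prime to the characteristic has even dimension;
* `no_ten` : degree ten, an element `g` of order four conjugate to `-g` whose square lies in a four-group with conjugate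
  involutions: impossible.
-/

set_option autoImplicit false
set_option linter.unusedSectionVars false

namespace Cfsg.Agent.H912.Sp10

open Module Cfsg.Agent.H912.Bd Cfsg.Agent.H871.Par

section

variable {K : Type*} [Field K] {V : Type*} [AddCommGroup V] [Module K V] {L : Type*} [Group L]
  [FiniteDimensional K V] (ρ : L →* Module.End K V)

/-- the vectors fixed by a set -/
def FixS (S : Set L) : Submodule K V where
  carrier := {v | ∀ x ∈ S, ρ x v = v}
  add_mem' := fun ha hb x hx => by rw [map_add, ha x hx, hb x hx]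
  zero_mem' := fun x _ => map_zero _
  smul_mem' := fun c a ha x hx => by rw [map_smul, ha x hx]

omit [FiniteDimensional K V] in
theorem mem_FixS {S : Set L} {v : V} : v ∈ FixS ρ S ↔ ∀ x ∈ S, ρ x v = v := Iff.rfl

theorem closure_comm {S : Set L} (hS : ∀ x ∈ S, ∀ y ∈ S, x * y = y * x) :
    ∀ a ∈ Subgroup.closure S, ∀ b ∈ Subgroup.closure S, a * b = b * a := by
  have h1 : Subgroup.closure S ≤ Subgroup.centralizer S := by
    rw [Subgroup.closure_le]
    intro x hx
    rw [SetLike.mem_coe, Subgroup.mem_centralizer_iff]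
    intro y hy
    exact hS y hy x hx
  have h2 : Subgroup.closure S ≤ Subgroup.centralizer (Subgroup.closure S : Set L) := by
    rw [Subgroup.closure_le]
    intro x hx
    rw [SetLike.mem_coe, Subgroup.mem_centralizer_iff]
    intro y hy
    exact ((Subgroup.mem_centralizer_iff.1 (h1 hy)) x hx).symm
  intro a ha b hb
  exact (Subgroup.mem_centralizer_iff.1 (h2 hb)) a ha

theorem even_fix [IsAlgClosed K] (B : LinearMap.BilinForm K V) (hnd : ∀ u, (∀ v, B u v = 0) → u = 0)
    (hinv : ∀ g u v, B (ρ g u) (ρ g v) = B u v) (hAlt : B.IsAlt) {N : ℕ} (hN : (N : K) ≠ 0) {S : Set L}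
    (hS : ∀ x ∈ S, ∀ y ∈ S, x * y = y * x) (hSN : ∀ x ∈ S, x ^ N = 1) : Even (finrank K (FixS ρ S)) := by
  have hA := closure_comm hS
  have hAN : ∀ a ∈ Subgroup.closure S, a ^ N = 1 := by
    intro a ha
    induction ha using Subgroup.closure_induction with
    | mem x hx => exact hSN x hx
    | one => exact one_pow _
    | mul x y hx hy h1 h2 =>
      have hc : Commute x y := hA x hx y hy
      rw [hc.mul_pow, h1, h2, one_mul]
    | inv x _ h1 => rw [inv_pow, h1, inv_one]
  have h1 := even_wt ρ hA hN hAN B hnd hinv hAlt (χ := fun _ => 1) (fun _ => one_mul 1)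
  have h2 : wt ρ (Subgroup.closure S) (fun _ => 1) = FixS ρ S := by
    ext v
    rw [mem_wt, mem_FixS]
    constructor
    · intro h x hx
      have := h ⟨x, Subgroup.subset_closure hx⟩
      rwa [one_smul] at this
    · rintro h ⟨a, ha⟩
      rw [one_smul]
      change ρ a v = v
      induction ha using Subgroup.closure_induction with
      | mem x hx => exact h x hx
      | one => rw [map_one]; rfl
      | mul x y _ _ h1 h2 => rw [map_mul, Module.End.mul_apply, h2, h1]
      | inv x _ h1 =>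
        have h3 := congrArg (ρ x⁻¹) h1
        rw [← Module.End.mul_apply, ← map_mul, inv_mul_cancel, map_one, Module.End.one_apply] at h3
        exact h3.symm
  rwa [h2] at h1

end

section

variable {K : Type*} [Field K] {V : Type*} [AddCommGroup V] [Module K V]

/-- eigenvectors in a submodule -/
def Eg (S : Submodule K V) (r : Module.End K V) (μ : K) : Submodule K V where
  carrier := {v | v ∈ S ∧ r v = μ • v}
  add_mem' := fun ha hb => ⟨S.add_mem ha.1 hb.1, by rw [map_add, ha.2, hb.2, smul_add]⟩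
  zero_mem' := ⟨S.zero_mem, by rw [map_zero, smul_zero]⟩
  smul_mem' := fun c a ha => ⟨S.smul_mem c ha.1, by rw [map_smul, ha.2, smul_comm]⟩

theorem mem_Eg {S : Submodule K V} {r : Module.End K V} {μ : K} {v : V} : v ∈ Eg S r μ ↔ v ∈ S ∧ r v = μ • v :=
  Iff.rfl

variable [FiniteDimensional K V]

theorem finrank_Eg (h2 : (2 : K) ≠ 0) {S : Submodule K V} {r : Module.End K V} (hS : ∀ v ∈ S, r v ∈ S)
    (hr : ∀ v ∈ S, r (r v) = v) : finrank K S = finrank K (Eg S r 1) + finrank K (Eg S r (-1)) := by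
  have h1 := Submodule.finrank_sup_add_finrank_inf_eq (Eg S r 1) (Eg S r (-1))
  have hinf : Eg S r 1 ⊓ Eg S r (-1) = ⊥ := by
    rw [eq_bot_iff]
    rintro v ⟨⟨_, h3⟩, _, h4⟩
    rw [h3, one_smul, neg_smul, one_smul] at h4
    have h5 : (2 : K) • v = 0 := by
      rw [two_smul]
      nth_rw 1 [h4]
      rw [neg_add_cancel]
    rw [Submodule.mem_bot]
    exact (smul_eq_zero.1 h5).resolve_left h2
  have hsup : Eg S r 1 ⊔ Eg S r (-1) = S := by
    apply le_antisymm
    · exact sup_le (fun v hv => hv.1) (fun v hv => hv.1)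
    · intro v hv
      have h3 : v = (2 : K)⁻¹ • (v + r v) + (2 : K)⁻¹ • (v - r v) := by
        rw [← smul_add, add_add_sub_cancel, ← two_smul K v, smul_smul, inv_mul_cancel₀ h2, one_smul]
      rw [h3]
      apply Submodule.add_mem_sup
      · refine ⟨S.smul_mem _ (S.add_mem hv (hS v hv)), ?_⟩
        rw [map_smul, map_add, hr v hv, one_smul, add_comm]
      · refine ⟨S.smul_mem _ (S.sub_mem hv (hS v hv)), ?_⟩
        rw [map_smul, map_sub, hr v hv, neg_smul, one_smul, ← smul_neg, neg_sub]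
  rw [hinf, finrank_bot, add_zero, hsup] at h1
  exact h1

theorem finrank_Eg_conj {L : Type*} [Group L] (ρ : L →* Module.End K V) {a b : L} (h : IsConj a b) (μ : K) :
    finrank K (Eg ⊤ (ρ a) μ) = finrank K (Eg ⊤ (ρ b) μ) := by
  have key : ∀ {a b : L}, IsConj a b → finrank K (Eg ⊤ (ρ a) μ) ≤ finrank K (Eg ⊤ (ρ b) μ) := by
    intro a b h
    obtain ⟨c, hc⟩ := isConj_iff.1 h
    let f : Eg ⊤ (ρ a) μ →ₗ[K] Eg ⊤ (ρ b) μ := (ρ c).restrict (fun v hv => by
      refine ⟨trivial, ?_⟩
      rw [← Module.End.mul_apply, ← map_mul, ← hc, inv_mul_cancel_right, map_mul, Module.End.mul_apply, hv.2,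
        map_smul])
    refine LinearMap.finrank_le_finrank_of_injective (f := f) ?_
    rw [injective_iff_map_eq_zero]
    intro v hv
    have h1 : ρ c v.1 = 0 := congrArg Subtype.val hv
    have h2 := congrArg (ρ c⁻¹) h1
    rw [← Module.End.mul_apply, ← map_mul, inv_mul_cancel, map_one, Module.End.one_apply, map_zero] at h2
    exact Subtype.ext h2
  exact le_antisymm (key h) (key h.symm)

/-- **Degree ten.** -/
theorem no_ten [IsAlgClosed K] {L : Type*} [Group L] (ρ : L →* Module.End K V)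
    (B : LinearMap.BilinForm K V) (hnd : ∀ u, (∀ v, B u v = 0) → u = 0)
    (hinv : ∀ g u v, B (ρ g u) (ρ g v) = B u v) (hAlt : B.IsAlt) (h2 : (2 : K) ≠ 0) (hV : finrank K V = 10)
    {g z u n : L} (hgz : g * g = z) (hz : z * z = 1) (hu : u * u = 1) (huz : u * z = z * u)
    (hc1 : IsConj z u) (hc2 : IsConj z (z * u)) (hn : ρ n = -1) (hgn : IsConj g (n * g)) (hz1 : ρ z ≠ 1) : False := by
  have ap : ∀ (a b : L) (v : V), ρ a (ρ b v) = ρ (a * b) v := fun a b v => by
    rw [← Module.End.mul_apply, ← map_mul]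
  have ap1 : ∀ v : V, ρ 1 v = v := fun v => by rw [map_one, Module.End.one_apply]
  have h2N : ((2 : ℕ) : K) ≠ 0 := by exact_mod_cast h2
  have h4N : ((4 : ℕ) : K) ≠ 0 := by
    have : ((4 : ℕ) : K) = 2 * 2 := by norm_num
    rw [this]
    exact mul_ne_zero h2 h2
  -- the parities
  have hev1 := even_fix ρ B hnd hinv hAlt (S := {z, u}) h2N (by
    rintro x (rfl | rfl) y (rfl | rfl)
    · rfl
    · exact huz.symm
    · exact huz
    · rfl) (by
    rintro x (rfl | rfl)
    · rw [pow_two, hz]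
    · rw [pow_two, hu])
  have hev2 := even_fix ρ B hnd hinv hAlt (S := {g}) h4N (by
    rintro x rfl y rfl
    rfl) (by
    rintro x rfl
    rw [show 4 = 2 * 2 from rfl, pow_mul, pow_two, pow_two, hgz, hz])
  -- the four-group
  have e0 := finrank_Eg h2 (S := (⊤ : Submodule K V)) (r := ρ z) (fun v _ => trivial) (fun v _ => by
    rw [ap, hz, ap1])
  have e1 := finrank_Eg h2 (S := Eg (⊤ : Submodule K V) (ρ z) 1) (r := ρ u) (fun v hv => ⟨trivial, by
    rw [ap, ← huz, ← ap, hv.2, one_smul, one_smul]⟩) (fun v _ => by rw [ap, hu, ap1])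
  have e2 := finrank_Eg h2 (S := Eg (⊤ : Submodule K V) (ρ z) (-1)) (r := ρ u) (fun v hv => ⟨trivial, by
    rw [ap, ← huz, ← ap, hv.2, map_smul]⟩) (fun v _ => by rw [ap, hu, ap1])
  have e3 := finrank_Eg h2 (S := Eg (⊤ : Submodule K V) (ρ u) 1) (r := ρ z) (fun v hv => ⟨trivial, by
    rw [ap, huz, ← ap, hv.2, one_smul, one_smul]⟩) (fun v _ => by rw [ap, hz, ap1])
  have e4 := finrank_Eg h2 (S := Eg (⊤ : Submodule K V) (ρ (z * u)) 1) (r := ρ z) (fun v hv => ⟨trivial, by
    rw [ap, mul_assoc, huz, ← mul_assoc, ← ap, ← ap, ap z u, hv.2, one_smul, one_smul]⟩)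
    (fun v _ => by rw [ap, hz, ap1])
  have c1 := finrank_Eg_conj ρ hc1 1
  have c2 := finrank_Eg_conj ρ hc2 1
  rw [finrank_top, hV] at e0
  have f1 : Eg (Eg (⊤ : Submodule K V) (ρ u) 1) (ρ z) 1 = Eg (Eg (⊤ : Submodule K V) (ρ z) 1) (ρ u) 1 := by
    ext v
    simp only [mem_Eg, Submodule.mem_top, true_and]
    exact and_comm
  have f2 : Eg (Eg (⊤ : Submodule K V) (ρ u) 1) (ρ z) (-1) = Eg (Eg (⊤ : Submodule K V) (ρ z) (-1)) (ρ u) 1 := by
    ext v
    simp only [mem_Eg, Submodule.mem_top, true_and]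
    exact and_comm
  have f3 : Eg (Eg (⊤ : Submodule K V) (ρ (z * u)) 1) (ρ z) 1 = Eg (Eg (⊤ : Submodule K V) (ρ z) 1) (ρ u) 1 := by
    ext v
    simp only [mem_Eg, Submodule.mem_top, true_and, one_smul]
    constructor
    · rintro ⟨h3, h4⟩
      refine ⟨h4, ?_⟩
      rw [← huz, ← ap, h4] at h3
      exact h3
    · rintro ⟨h3, h4⟩
      refine ⟨?_, h3⟩
      rw [← ap, h4, h3]
  have f4 : Eg (Eg (⊤ : Submodule K V) (ρ (z * u)) 1) (ρ z) (-1) = Eg (Eg (⊤ : Submodule K V) (ρ z) (-1)) (ρ u) (-1) := by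
    ext v
    simp only [mem_Eg, Submodule.mem_top, true_and, one_smul, neg_smul]
    constructor
    · rintro ⟨h3, h4⟩
      refine ⟨h4, ?_⟩
      rw [← huz, ← ap, h4, map_neg] at h3
      rw [← h3, neg_neg] 
      nth_rw 2 [← h3]
    · rintro ⟨h3, h4⟩
      refine ⟨?_, h3⟩
      rw [← ap, h4, map_neg, h3, neg_neg]
  rw [f1, f2] at e3
  rw [f3, f4] at e4
  -- the first parity
  have g1 : FixS ρ ({z, u} : Set L) = Eg (Eg (⊤ : Submodule K V) (ρ z) 1) (ρ u) 1 := by
    ext v
    simp only [mem_FixS, mem_Eg, Submodule.mem_top, true_and, one_smul, Set.mem_insert_iff, Set.mem_singleton_iff,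
      forall_eq_or_imp, forall_eq]
  rw [g1] at hev1
  -- the element of order four
  have e5 := finrank_Eg h2 (S := Eg (⊤ : Submodule K V) (ρ z) 1) (r := ρ g) (fun v hv => ⟨trivial, by
    rw [ap, ← hgz, mul_assoc, hgz, ← ap, hv.2, one_smul, one_smul]⟩) (fun v hv => by
      rw [ap, hgz, hv.2, one_smul])
  have g2 : Eg (Eg (⊤ : Submodule K V) (ρ z) 1) (ρ g) 1 = Eg (⊤ : Submodule K V) (ρ g) 1 := by
    ext v
    simp only [mem_Eg, Submodule.mem_top, true_and, one_smul]
    constructor
    · exact fun h => h.2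
    · intro h
      refine ⟨?_, h⟩
      rw [← hgz, ← ap, h, h]
  have g3 : Eg (Eg (⊤ : Submodule K V) (ρ z) 1) (ρ g) (-1) = Eg (⊤ : Submodule K V) (ρ g) (-1) := by
    ext v
    simp only [mem_Eg, Submodule.mem_top, true_and, one_smul, neg_smul]
    constructor
    · exact fun h => h.2
    · intro h
      refine ⟨?_, h⟩
      rw [← hgz, ← ap, h, map_neg, h, neg_neg]
  have g4 : Eg (⊤ : Submodule K V) (ρ g) (-1) = Eg (⊤ : Submodule K V) (ρ (n * g)) 1 := by
    ext v
    simp only [mem_Eg, Submodule.mem_top, true_and, one_smul, neg_smul]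
    rw [map_mul, hn, Module.End.mul_apply, LinearMap.neg_apply, Module.End.one_apply, neg_eq_iff_eq_neg]
  have c3 := finrank_Eg_conj ρ hgn 1
  rw [g2, g3, g4, ← c3] at e5
  have g5 : FixS ρ ({g} : Set L) = Eg (⊤ : Submodule K V) (ρ g) 1 := by
    ext v
    simp only [mem_FixS, mem_Eg, Submodule.mem_top, true_and, one_smul, Set.mem_singleton_iff, forall_eq]
  rw [g5] at hev2
  -- not everything is fixed
  have h10 : finrank K (Eg (⊤ : Submodule K V) (ρ z) 1) ≠ 10 := by
    intro h
    apply hz1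
    have h3 : Eg (⊤ : Submodule K V) (ρ z) 1 = ⊤ := Submodule.eq_top_of_finrank_eq (by rw [h, hV])
    refine LinearMap.ext fun v => ?_
    have h4 : v ∈ Eg (⊤ : Submodule K V) (ρ z) 1 := by rw [h3]; trivial
    rw [h4.2, one_smul, Module.End.one_apply]
  obtain ⟨i, hi⟩ := hev1
  obtain ⟨j, hj⟩ := hev2
  omega

end

end Cfsg.Agent.H912.Sp10
end

-- part: H912/Sp10/Fam
section
set_option linter.all false
open scoped Cfsg.Agent.FastGrp

/-!
# Families `W i j = "e_i - e_j"` in degree ten, characteristic two (helper912)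

`fixQ_fam` : a core of degree ten in characteristic two permuting a family `W : Fin m → Fin m → V`, `m = 11, 12`,
`W i j + W j k = W i k`, with `f (W i j) (W i k)` constant, fixes a quadratic form.
-/

set_option autoImplicit false
set_option linter.unusedSectionVars false

namespace Cfsg.Agent.H912.Sp10

open Cfsg Cfsg.Geo Matrix Cfsg.Agent.H919.Q2
open Cfsg.Agent.H915.LD (Core Soc toSoc FixA FixQ)

universe u

variable {ι : Type} [Fintype ι] [DecidableEq ι] {F : Type u} [Field F] {f : (ι → F) → (ι → F) → F}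
  {P : Subgroup (GL ι F)}

section alg

variable (h2 : (2 : F) = 0)

include h2 in
theorem dbl (v : ι → F) : v + v = 0 := by
  rw [← two_smul F, h2, zero_smul]

include h2 in
theorem dblF (a : F) : a + a = 0 := by
  rw [← two_mul, h2, zero_mul]

end alg

/-- the core is irreducible and not trivial -/
theorem fixed_zero (hC : Core P) (hn : Fintype.card ι = 10) {v : ι → F}
    (hv : ∀ g ∈ P, (g : Matrix ι ι F) *ᵥ v = v) : v = 0 := by
  by_contra h0
  have h1 := hC.absIrred.1 (Submodule.span F {v}) (by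
    rintro _ ⟨g, hg, rfl⟩
    rintro _ ⟨w, hw, rfl⟩
    obtain ⟨c, rfl⟩ := Submodule.mem_span_singleton.1 hw
    rw [Matrix.toLin'_apply, Matrix.mulVec_smul, hv g hg]
    exact hw)
  rcases h1 with h1 | h1
  · rw [Submodule.span_singleton_eq_bot] at h1
    exact h0 h1
  · have h3 := finrank_span_singleton (K := F) h0
    rw [h1, finrank_top, Module.finrank_fintype_fun_eq_card, hn] at h3
    omega

section fam

variable {m : ℕ} {W : Fin m → Fin m → ι → F}

theorem W_self (add : ∀ i j k, W i j + W j k = W i k) (i : Fin m) : W i i = 0 := by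
  have := add i i i
  rwa [add_eq_left] at this

theorem W_symm (h2 : (2 : F) = 0) (add : ∀ i j k, W i j + W j k = W i k) (i j : Fin m) : W j i = W i j := by
  have h1 := add i j i
  rw [W_self add] at h1
  have h3 := dbl h2 (W i j)
  exact add_left_cancel (h1.trans h3.symm)

/-- the span -/
theorem W_span (hC : Core P) (add : ∀ i j k, W i j + W j k = W i k) {i0 j0 : Fin m} (ne : W i0 j0 ≠ 0)
    (act : ∀ g ∈ P, ∃ τ : Equiv.Perm (Fin m), ∀ i j, (g : Matrix ι ι F) *ᵥ W i j = W (τ i) (τ j)) (l : Fin m) :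
    Submodule.span F (Set.range fun i => W i l) = ⊤ := by
  have h1 := hC.absIrred.1 (Submodule.span F (Set.range fun i => W i l)) (by
    rintro _ ⟨g, hg, rfl⟩
    rintro _ ⟨w, hw, rfl⟩
    rw [Matrix.toLin'_apply]
    obtain ⟨τ, hτ⟩ := act g hg
    induction hw using Submodule.span_induction with
    | mem x hx =>
      obtain ⟨i, rfl⟩ := hx
      dsimp only
      rw [hτ, ← add (τ i) l (τ l)]
      have h3 : W l (τ l) = - W (τ l) l := by
        rw [eq_neg_iff_add_eq_zero, add, W_self add]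
      rw [h3, ← sub_eq_add_neg]
      exact Submodule.sub_mem _ (Submodule.subset_span ⟨_, rfl⟩) (Submodule.subset_span ⟨_, rfl⟩)
    | zero => rw [Matrix.mulVec_zero]; exact Submodule.zero_mem _
    | add x y _ _ hx hy => rw [Matrix.mulVec_add]; exact Submodule.add_mem _ hx hy
    | smul c x _ hx => rw [Matrix.mulVec_smul]; exact Submodule.smul_mem _ _ hx)
  refine h1.resolve_left fun h0 => ?_
  apply ne
  have h3 : ∀ i, W i l = 0 := by
    intro i
    have : W i l ∈ Submodule.span F (Set.range fun i => W i l) := Submodule.subset_span ⟨i, rfl⟩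
    rw [h0] at this
    exact this
  have h4 : W l j0 = - W j0 l := by
    rw [eq_neg_iff_add_eq_zero, add, W_self add]
  rw [← add i0 l j0, h3, h4, h3, neg_zero, add_zero]

/-- invariance of a quadratic form with constant value on the family -/
theorem inv_of_const (hC : Core P) (hP : InvB P f) (add : ∀ i j k, W i j + W j k = W i k) {i0 j0 : Fin m}
    (ne : W i0 j0 ≠ 0) (act : ∀ g ∈ P, ∃ τ : Equiv.Perm (Fin m), ∀ i j, (g : Matrix ι ι F) *ᵥ W i j = W (τ i) (τ j))
    {Q : (ι → F) → F} (hQ : QP f Q) {φ : F} (hQW : ∀ i j, i ≠ j → Q (W i j) = φ) : Inv P Q := by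
  intro g hg v
  have hQ' : QP f fun v => Q ((g : Matrix ι ι F) *ᵥ v) :=
    ⟨fun c v => by rw [Matrix.mulVec_smul, hQ.smul], fun v w => by rw [Matrix.mulVec_add, hQ.add, hP g hg]⟩
  have h1 := qp_ext_span (S := Set.range fun i => W i j0) hQ' hQ (W_span hC add ne act j0) (by
    rintro _ ⟨i, rfl⟩
    obtain ⟨τ, hτ⟩ := act g hg
    dsimp only
    rw [hτ]
    by_cases hij : i = j0
    · rw [hij, W_self add, W_self add]
    · rw [hQW _ _ hij, hQW _ _ fun h => hij (τ.injective h)])
  exact congrFun h1 v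

end fam

/-- **Eleven or twelve points.** -/
theorem fixQ_fam (h2 : (2 : F) = 0) (hC : Core P) (hf : IsSymplecticForm f) (hfix : FixesForm (matrixSet P) f)
    (hn : Fintype.card ι = 10) {m : ℕ} (hm : m = 11 ∨ m = 12) {W : Fin m → Fin m → ι → F}
    (add : ∀ i j k, W i j + W j k = W i k) {i0 j0 : Fin m} (ne : W i0 j0 ≠ 0)
    (act : ∀ g ∈ P, ∃ τ : Equiv.Perm (Fin m), ∀ i j, (g : Matrix ι ι F) *ᵥ W i j = W (τ i) (τ j)) {φ : F}
    (hφ : ∀ i j k, i ≠ j → i ≠ k → j ≠ k → f (W i j) (W i k) = φ) : FixQ P := by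
  have hP : InvB P f := fun g hg v w => hfix _ ⟨g, hg, rfl⟩ v w
  have key : ∀ {Q : (ι → F) → F}, QP f Q → (∀ i j, i ≠ j → Q (W i j) = φ) → FixQ P := fun hQ h =>
    fixQ_of hf hQ (inv_of_const hC hP add ne act hQ h)
  have sym := W_symm h2 add
  have h3 : φ + φ + φ = φ := by rw [dblF h2, zero_add]
  rcases hm with rfl | rfl
  · -- eleven points
    have hsp := W_span hC add ne act (Fin.last 10)
    have hsp' : ⊤ ≤ Submodule.span F (Set.range fun i : Fin 10 => W i.castSucc (Fin.last 10)) := by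
      rw [← hsp, Submodule.span_le]
      rintro _ ⟨i, rfl⟩
      dsimp only
      induction i using Fin.lastCases with
      | last => rw [W_self add]; exact Submodule.zero_mem _
      | cast i => exact Submodule.subset_span ⟨i, rfl⟩
    have hli : LinearIndependent F (fun i : Fin 10 => W i.castSucc (Fin.last 10)) :=
      linearIndependent_of_top_le_span_of_card_eq_finrank hsp' (by
        rw [Module.finrank_fintype_fun_eq_card, hn, Fintype.card_fin])
    let b : Module.Basis (Fin 10) F (ι → F) := Module.Basis.mk hli hsp'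
    have hb : ∀ i, b i = W i.castSucc (Fin.last 10) := fun i => by simp [b]
    obtain ⟨Q, hQ, hQb⟩ := exists_qp_basis h2 hf b (fun _ => φ)
    have hlast : ∀ i : Fin 11, i ≠ Fin.last 10 → Q (W i (Fin.last 10)) = φ := by
      intro i hi
      induction i using Fin.lastCases with
      | last => exact absurd rfl hi
      | cast i => rw [← hb]; exact hQb i
    refine key hQ fun i j hij => ?_
    by_cases hi : i = Fin.last 10
    · rw [hi, sym, hlast j (fun h => hij (hi.trans h.symm))]
    · by_cases hj : j = Fin.last 10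
      · rw [hj, hlast i hi]
      · rw [← add i (Fin.last 10) j, hQ.add, hlast i hi, sym j (Fin.last 10), hlast j hj, sym (Fin.last 10) i,
          sym (Fin.last 10) j, hφ _ _ _ (Ne.symm hi) (Ne.symm hj) hij, h3]
  · -- twelve points
    have hsum : ∀ l : Fin 12, ∑ i, W i l = 0 := by
      have h12 : ∀ x : ι → F, (12 : ℕ) • x = 0 := by
        intro x
        rw [show 12 = 6 * 2 from rfl, mul_smul, two_nsmul, dbl h2, smul_zero]
      have hc : ∀ l l', ∑ i, W i l = ∑ i, W i l' := by
        intro l l'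
        have h4 : ∑ i, W i l' = ∑ i, W i l + ∑ _i : Fin 12, W l l' := by
          rw [← Finset.sum_add_distrib]
          exact Finset.sum_congr rfl fun i _ => (add i l l').symm
        rw [Finset.sum_const, Finset.card_univ, Fintype.card_fin] at h4
        rw [h4, h12, add_zero]
      intro l
      refine fixed_zero hC hn fun g hg => ?_
      obtain ⟨τ, hτ⟩ := act g hg
      rw [Matrix.mulVec_sum]
      have h4 : ∑ i, (g : Matrix ι ι F) *ᵥ W i l = ∑ i, W (τ i) (τ l) := Finset.sum_congr rfl fun i _ => hτ i l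
      rw [h4, Equiv.sum_comp τ (fun i => W i (τ l))]
      exact hc _ _
    set L : Fin 12 := Fin.last 11 with hL
    set M : Fin 12 := (Fin.last 10).castSucc with hM
    have hML : M ≠ L := by decide
    have hsM : W M L = ∑ i : Fin 10, W i.castSucc.castSucc L := by
      have h4 := hsum L
      rw [Fin.sum_univ_castSucc, Fin.sum_univ_castSucc, W_self add, add_zero] at h4
      have h5 := dbl h2 (W M L)
      exact (add_right_cancel (h4.trans h5.symm)).symm
    have hsp := W_span hC add ne act L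
    have hsp' : ⊤ ≤ Submodule.span F (Set.range fun i : Fin 10 => W i.castSucc.castSucc L) := by
      rw [← hsp, Submodule.span_le]
      rintro _ ⟨i, rfl⟩
      dsimp only
      induction i using Fin.lastCases with
      | last => rw [W_self add]; exact Submodule.zero_mem _
      | cast i =>
        induction i using Fin.lastCases with
        | last =>
          rw [← hM, hsM]
          exact Submodule.sum_mem _ fun i _ => Submodule.subset_span ⟨i, rfl⟩
        | cast i => exact Submodule.subset_span ⟨i, rfl⟩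
    have hli : LinearIndependent F (fun i : Fin 10 => W i.castSucc.castSucc L) :=
      linearIndependent_of_top_le_span_of_card_eq_finrank hsp' (by
        rw [Module.finrank_fintype_fun_eq_card, hn, Fintype.card_fin])
    let b : Module.Basis (Fin 10) F (ι → F) := Module.Basis.mk hli hsp'
    have hb : ∀ i, b i = W i.castSucc.castSucc L := fun i => by simp [b]
    obtain ⟨Q, hQ, hQb⟩ := exists_qp_basis h2 hf b (fun _ => φ)
    have hff : ∀ i j : Fin 12, i ≠ L → j ≠ L → i ≠ j → f (W i L) (W j L) = φ := by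
      intro i j hi hj hij
      rw [sym L i, sym L j, hφ _ _ _ (Ne.symm hi) (Ne.symm hj) hij]
    have hQM : Q (W M L) = φ := by
      have hne : ∀ i : Fin 10, (i.castSucc.castSucc : Fin 12) ≠ L := by
        intro i h
        have h5 := congrArg Fin.val h
        rw [Fin.val_castSucc, Fin.val_castSucc, hL, Fin.val_last] at h5
        have := i.2
        omega
      have h4 := qp_sum_const hf hQ (fun i : Fin 10 => W i.castSucc.castSucc L) (c := φ) (d := φ)
        (fun i j hij => hff _ _ (hne i) (hne j) fun h =>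
          hij (Fin.castSucc_injective _ (Fin.castSucc_injective _ h))) (fun i => by rw [← hb]; exact hQb i)
        Finset.univ
      rw [hsM, h4, Finset.card_univ, Fintype.card_fin]
      have h5 : ((Nat.choose 10 2 : ℕ) : F) = 45 := by
        rw [show Nat.choose 10 2 = 45 from rfl]
        norm_num
      rw [h5]
      push_cast
      linear_combination 27 * φ * h2
    have hlast : ∀ i : Fin 12, i ≠ L → Q (W i L) = φ := by
      intro i hi
      induction i using Fin.lastCases with
      | last => exact absurd rfl hi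
      | cast i =>
        induction i using Fin.lastCases with
        | last => exact hQM
        | cast i => rw [← hb]; exact hQb i
    refine key hQ fun i j hij => ?_
    by_cases hi : i = L
    · rw [hi, sym, hlast j (fun h => hij (hi.trans h.symm))]
    · by_cases hj : j = L
      · rw [hj, hlast i hi]
      · rw [← add i L j, hQ.add, hlast i hi, sym j L, hlast j hj, hff i j hi hj hij, h3]

end Cfsg.Agent.H912.Sp10
end
end
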