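import Cfsg.Agent.H917.OmAlt2
import Cfsg.Agent.H906.Cover_m3
import Cfsg.Agent.H637.SevenA8_m3
import Cfsg.Agent.S0752
import Mathlib
import Cfsg.Agent.H114.TyTwo_m3
import Cfsg.Agent.H883.Bridge
import Cfsg.Agent.FastGrp
import Cfsg.Agent.Prune
set_option linter.all false

section
prune_inst 0x7fbfa9ffbbf8ebffffff7e7fae9edffdffbb3fffe6fff9cb7fe061ff2b9f6b00cdc56b8d0bea12fe0fb6c01410f87b43fb7eefffe26bd87ffffd1ff41ffbfe1ffdf7b508519488340fb82ff783f0778e7f3fffffffffffffffffffffffffffaeffbfffffffff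

-- part: H908/TenDim
section
prune_inst 0x4400000700000000018050002000000080000000000000000a0000401490000004000001a0001040200004060000048110000800000000000000400000000000080000020400100600000000000000000000000000000000000000000000000000000000
set_option linter.all false
open scoped Cfsg.Agent.FastGrp

-- part: H908/TenBase
section
/-!
# Representations in `Ω₁₀(q)` (helper908, after helper917's `OmBase`, `OmTools`)

`OT F T` : a faithful absolutely irreducible representation of `T` in `Ω(Q)`, `Q` a quadratic form on `F¹⁰`.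

* `even_fix` : the fixed space of every element has even dimension;
* `scott` : Scott's lemma.
-/

set_option autoImplicit false
set_option linter.unusedSectionVars false

namespace Cfsg.Agent.H908.Ten

open Cfsg Cfsg.Geo Module
open Matrix hiding mul_apply'
open Cfsg.Agent.H637.JW Cfsg.Agent.H917.Om

universe u v

/-! ### The context -/

/-- A faithful absolutely irreducible representation in `Ω(Q)`, `Q` a quadratic form on `F¹⁰`. -/
structure OT (F : Type u) [Field F] (T : Type v) [Group T] where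
  ρ : T →* GL (Fin 10) F
  Q : (Fin 10 → F) → F
  nd : IsNondegenerateQuadraticForm Q
  mem : ∀ g, ρ g ∈ omegaGL Q
  irr : ActsAbsolutelyIrreducibly (matrixSet ρ.range)
  inj : Function.Injective ρ

variable {F : Type u} [Field F] {T : Type v} [Group T]

theorem mem_omegaGL_fix {Q : (Fin 10 → F) → F} {g : GL (Fin 10) F} (h : g ∈ omegaGL Q) (v : Fin 10 → F) :
    Q ((g : Matrix (Fin 10) (Fin 10) F) *ᵥ v) = Q v := by
  obtain ⟨w, -, rfl⟩ := h
  exact (ClassicalGeometry.Reflection.mem_isometryGroup_iff _ _).1 w.2 v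

namespace OT

variable (h : OT F T)

theorem fixQ (g : T) (v : Fin 10 → F) : h.Q ((h.ρ g : Matrix (Fin 10) (Fin 10) F) *ᵥ v) = h.Q v :=
  mem_omegaGL_fix (h.mem g) v

/-- Pull back to another group. -/
def congr {T' : Type*} [Group T'] (e : T' ≃* T) : OT F T' where
  ρ := h.ρ.comp e.toMonoidHom
  Q := h.Q
  nd := h.nd
  mem := fun g => h.mem (e g)
  irr := by
    have h1 : (h.ρ.comp e.toMonoidHom).range = h.ρ.range := by
      ext x
      constructor
      · rintro ⟨y, rfl⟩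
        exact ⟨e y, rfl⟩
      · rintro ⟨y, rfl⟩
        exact ⟨e.symm y, by simp⟩
    rw [h1]
    exact h.irr
  inj := h.inj.comp e.injective

/-- **The fixed space of every element has even dimension** (over `F`). -/
theorem even_fixF (g : T) :
    Even (finrank F (LinearMap.ker ((h.ρ g : Matrix (Fin 10) (Fin 10) F) - 1).mulVecLin)) := by
  obtain ⟨w, hw, hwg⟩ : ∃ w : isometryGroup F (⇑(H925.qf h.nd)), w ∈ commutator (isometryGroup F (⇑(H925.qf h.nd))) ∧
      (w : GL (Fin 10) F) = h.ρ g := h.mem g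
  have hnd : (QuadraticMap.polarBilin (H925.qf h.nd)).Nondegenerate := by
    refine H932.nondegenerate_polarBilin ?_
    intro x hx
    by_contra h0
    obtain ⟨-, y, hxy⟩ := h.nd.nondegenerate x h0
    exact hxy (hx y)
  have h1 := ClassicalGeometry.OrthDickson.dsign_eq_one_of_mem_commutator (H925.qf h.nd) hnd
    (Or.inr (by rw [Fintype.card_fin]; norm_num)) w hw
  have h1 := (ClassicalGeometry.OrthDickson.dsign_def (H925.qf h.nd) w).symm.trans h1
  rw [Fintype.card_fin] at h1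
  have h2 : Even (finrank F (ClassicalGeometry.OrthCharTwo.fixSp (Q := H925.qf h.nd) w) + 10) := by
    by_contra hodd
    rw [Nat.not_even_iff_odd] at hodd
    rw [hodd.neg_one_pow] at h1
    exact absurd h1 (by decide)
  have h3 : ClassicalGeometry.OrthCharTwo.fixSp (Q := H925.qf h.nd) w =
      LinearMap.ker ((h.ρ g : Matrix (Fin 10) (Fin 10) F) - 1).mulVecLin := by
    ext x
    rw [ClassicalGeometry.OrthCharTwo.mem_fixSp, ClassicalGeometry.OrthCharTwo.act_def, LinearMap.mem_ker,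
      Matrix.mulVecLin_apply, Matrix.sub_mulVec, Matrix.one_mulVec, sub_eq_zero]
    rw [← hwg]
  rw [h3] at h2
  have h4 : Even 10 := by decide
  exact (Nat.even_add.1 h2).2 h4

/-- The representation over the algebraic closure. -/
noncomputable def σ : T →* Module.End (AlgebraicClosure F) (Fin 10 → AlgebraicClosure F) :=
  _root_.Cfsg.Agent.H637.JW.ext h.ρ (AlgebraicClosure F)

theorem σ_apply (g : T) (v : Fin 10 → AlgebraicClosure F) :
    h.σ g v = ((h.ρ g : Matrix (Fin 10) (Fin 10) F).map (algebraMap F (AlgebraicClosure F))) *ᵥ v := rfl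

theorem even_fix (g : T) : Even (finrank (AlgebraicClosure F) (Fix h.σ g)) := by
  have h1 : _root_.Cfsg.Agent.H637.JW.Fix h.σ g = LinearMap.ker
      ((((h.ρ g : Matrix (Fin 10) (Fin 10) F) - 1).map (algebraMap F (AlgebraicClosure F)))).mulVecLin := by
    ext v
    rw [mem_Fix, LinearMap.mem_ker, Matrix.mulVecLin_apply, σ_apply, Matrix.map_sub _ (fun a b => map_sub _ a b),
      Matrix.map_one _ (map_zero _) (map_one _), Matrix.sub_mulVec, Matrix.one_mulVec, sub_eq_zero]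
  have h2 := finrank_ker_add_rank (((h.ρ g : Matrix (Fin 10) (Fin 10) F) - 1).map (algebraMap F (AlgebraicClosure F)))
  have h3 := finrank_ker_add_rank ((h.ρ g : Matrix (Fin 10) (Fin 10) F) - 1)
  rw [rank_map_field] at h2
  rw [h1, show finrank (AlgebraicClosure F) _ = finrank F _ from Nat.add_right_cancel (h2.trans h3.symm)]
  exact h.even_fixF g

/-! ### The bilinear form over the algebraic closure -/

/-- The Gram matrix of the polar form. -/
noncomputable def gram : Matrix (Fin 10) (Fin 10) F :=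
  Matrix.of fun i j => QuadraticMap.polar h.Q (Pi.single i 1) (Pi.single j 1)

theorem polar_eq (u v : Fin 10 → F) : QuadraticMap.polar h.Q u v = u ⬝ᵥ (h.gram *ᵥ v) := by
  have hb := h.nd.polar_bilinear
  have e : ∀ u v, QuadraticMap.polar h.Q u v = (QuadraticMap.polarBilin (H925.qf h.nd)) u v := fun u v => rfl
  rw [e, ← LinearMap.sum_repr_mul_repr_mul (Pi.basisFun F (Fin 10)) (Pi.basisFun F (Fin 10)) (B := QuadraticMap.polarBilin (H925.qf h.nd))]
  rw [Finsupp.sum_fintype _ _ (by intro i; simp)]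
  simp only [dotProduct, mulVec]
  refine Finset.sum_congr rfl fun i _ => ?_
  rw [Finsupp.sum_fintype _ _ (by intro j; simp), Finset.mul_sum]
  refine Finset.sum_congr rfl fun j _ => ?_
  simp only [Pi.basisFun_repr, Pi.basisFun_apply, smul_eq_mul]
  change u i * (v j * h.gram i j) = u i * (h.gram i j * v j)
  ring

theorem gram_symm : h.gramᵀ = h.gram := by
  ext i j
  exact QuadraticMap.polar_comm _ _ _

theorem gram_det : h.gram.det ≠ 0 := by
  intro h0
  obtain ⟨v, hv, hv2⟩ := Matrix.exists_mulVec_eq_zero_iff.2 h0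
  obtain ⟨⟨x, hx⟩, -⟩ := h.nd.nondegenerate v hv
  apply hx
  rw [polar_eq, hv2, dotProduct_zero]

theorem gram_inv (g : T) : (h.ρ g : Matrix (Fin 10) (Fin 10) F)ᵀ * h.gram * (h.ρ g : Matrix (Fin 10) (Fin 10) F) = h.gram := by
  have key : ∀ u v, u ⬝ᵥ (((h.ρ g : Matrix (Fin 10) (Fin 10) F)ᵀ * h.gram * (h.ρ g : Matrix (Fin 10) (Fin 10) F)) *ᵥ v) =
      u ⬝ᵥ (h.gram *ᵥ v) := by
    intro u v
    rw [← polar_eq, ← Matrix.mulVec_mulVec, ← Matrix.mulVec_mulVec, Matrix.dotProduct_mulVec, Matrix.vecMul_transpose,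
      ← polar_eq]
    simp only [QuadraticMap.polar, ← Matrix.mulVec_add]
    rw [h.fixQ, h.fixQ, h.fixQ]
  ext i j
  have := key (Pi.single i 1) (Pi.single j 1)
  simpa using this

/-- The bilinear form over the algebraic closure. -/
noncomputable def B (u v : Fin 10 → AlgebraicClosure F) : AlgebraicClosure F :=
  u ⬝ᵥ (h.gram.map (algebraMap F (AlgebraicClosure F)) *ᵥ v)

theorem B_add_left (u u' v : Fin 10 → AlgebraicClosure F) : h.B (u + u') v = h.B u v + h.B u' v := by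
  rw [B, B, B, add_dotProduct]

theorem B_smul_left (c : AlgebraicClosure F) (u v : Fin 10 → AlgebraicClosure F) : h.B (c • u) v = c * h.B u v := by
  rw [B, B, smul_dotProduct, smul_eq_mul]

theorem B_comm (u v : Fin 10 → AlgebraicClosure F) : h.B u v = h.B v u := by
  rw [B, B, Matrix.dotProduct_mulVec, dotProduct_comm, ← Matrix.mulVec_transpose, ← Matrix.transpose_map, h.gram_symm]

theorem B_add_right (u v v' : Fin 10 → AlgebraicClosure F) : h.B u (v + v') = h.B u v + h.B u v' := by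
  rw [B_comm, B_add_left, h.B_comm v, h.B_comm v']

theorem B_smul_right (c : AlgebraicClosure F) (u v : Fin 10 → AlgebraicClosure F) : h.B u (c • v) = c * h.B u v := by
  rw [B_comm, B_smul_left, h.B_comm v]

theorem B_inv (g : T) (u v : Fin 10 → AlgebraicClosure F) : h.B (h.σ g u) (h.σ g v) = h.B u v := by
  have h1 := congrArg (fun M : Matrix (Fin 10) (Fin 10) F => M.map (algebraMap F (AlgebraicClosure F))) (h.gram_inv g)
  simp only [Matrix.map_mul] at h1
  have h2 : h.B u v = u ⬝ᵥ (((h.ρ g : Matrix (Fin 10) (Fin 10) F)ᵀ.map (algebraMap F (AlgebraicClosure F)) *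
      h.gram.map (algebraMap F (AlgebraicClosure F)) *
      (h.ρ g : Matrix (Fin 10) (Fin 10) F).map (algebraMap F (AlgebraicClosure F))) *ᵥ v) := by
    rw [h1]; rfl
  rw [h2, ← Matrix.mulVec_mulVec, ← Matrix.mulVec_mulVec, Matrix.dotProduct_mulVec u,
    Matrix.transpose_map, Matrix.vecMul_transpose]
  rfl

theorem B_nondeg {v : Fin 10 → AlgebraicClosure F} (hv : ∀ u, h.B u v = 0) : v = 0 := by
  by_contra h0
  have h1 : (h.gram.map (algebraMap F (AlgebraicClosure F))) *ᵥ v = 0 := by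
    funext i
    have := hv (Pi.single i 1)
    rw [B, single_one_dotProduct] at this
    exact this
  have h2 := Matrix.exists_mulVec_eq_zero_iff.1 ⟨v, h0, h1⟩
  have h3 := RingHom.map_det (algebraMap F (AlgebraicClosure F)) h.gram
  rw [RingHom.mapMatrix_apply, h2] at h3
  exact h.gram_det ((map_eq_zero _).1 h3)

/-! ### Irreducibility over the algebraic closure -/

theorem map_mem (W : Submodule (AlgebraicClosure F) (Fin 10 → AlgebraicClosure F))
    (hW : ∀ g, ∀ v ∈ W, h.σ g v ∈ W) (M : Matrix (Fin 10) (Fin 10) F) {v : Fin 10 → AlgebraicClosure F} (hv : v ∈ W) :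
    (M.map (algebraMap F (AlgebraicClosure F))) *ᵥ v ∈ W := by
  have h1 : M ∈ Submodule.span F (matrixSet h.ρ.range) := by
    rw [H920.span_eq_top h.irr]; trivial
  induction h1 using Submodule.span_induction with
  | mem x hx =>
    obtain ⟨y, ⟨g, rfl⟩, rfl⟩ := hx
    exact hW g v hv
  | zero =>
    rw [Matrix.map_zero _ (map_zero _), Matrix.zero_mulVec]
    exact W.zero_mem
  | add x y _ _ hx hy =>
    rw [Matrix.map_add _ (fun a b => map_add _ a b), Matrix.add_mulVec]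
    exact W.add_mem hx hy
  | smul c x _ hx =>
    have : (c • x).map (algebraMap F (AlgebraicClosure F)) =
        algebraMap F (AlgebraicClosure F) c • x.map (algebraMap F (AlgebraicClosure F)) := by
      ext i j
      simp
    rw [this, Matrix.smul_mulVec]
    exact W.smul_mem _ hx

/-- **Irreducibility over the algebraic closure.** -/
theorem eq_top_of_inv (W : Submodule (AlgebraicClosure F) (Fin 10 → AlgebraicClosure F))
    (hW : ∀ g, ∀ v ∈ W, h.σ g v ∈ W) {w : Fin 10 → AlgebraicClosure F} (hw : w ∈ W) (hw0 : w ≠ 0) : W = ⊤ := by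
  obtain ⟨j, hj⟩ : ∃ j, w j ≠ 0 := by
    by_contra hno
    push Not at hno
    exact hw0 (funext hno)
  have h1 : ∀ i, (Pi.single i 1 : Fin 10 → AlgebraicClosure F) ∈ W := by
    intro i
    have h2 := h.map_mem W hW (Matrix.single i j 1) hw
    have h3 : ((Matrix.single i j (1 : F)).map (algebraMap F (AlgebraicClosure F))) *ᵥ w = w j • Pi.single i 1 := by
      funext k
      simp only [mulVec, dotProduct, Matrix.map_apply, Matrix.single_apply]
      by_cases hk : i = k
      · subst hk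
        simp
      · simp [hk, Ne.symm hk]
    rw [h3] at h2
    have h4 := W.smul_mem (w j)⁻¹ h2
    rwa [smul_smul, inv_mul_cancel₀ hj, one_smul] at h4
  rw [eq_top_iff]
  intro v _
  rw [show v = ∑ i, v i • (Pi.single i 1 : Fin 10 → AlgebraicClosure F) by
    funext k; simp [Finset.sum_apply, Pi.single_apply]]
  exact W.sum_mem fun i _ => W.smul_mem _ (h1 i)

/-- no fixed vectors -/
theorem eq_zero_of_fixed {v : Fin 10 → AlgebraicClosure F} (hv : ∀ g, h.σ g v = v) : v = 0 := by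
  by_contra h0
  have h1 := h.eq_top_of_inv (Submodule.span (AlgebraicClosure F) {v}) (by
    intro g w hw
    obtain ⟨c, rfl⟩ := Submodule.mem_span_singleton.1 hw
    rw [map_smul, hv g]
    exact hw) (Submodule.mem_span_singleton_self v) h0
  have h2 := finrank_span_singleton (K := AlgebraicClosure F) h0
  rw [h1, finrank_top, Module.finrank_fin_fun] at h2
  omega

theorem σ_injective : Function.Injective h.σ := by
  intro a b hab
  apply h.inj
  apply Units.ext
  have h1 : ((h.ρ a : Matrix (Fin 10) (Fin 10) F).map (algebraMap F (AlgebraicClosure F))) =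
      ((h.ρ b : Matrix (Fin 10) (Fin 10) F).map (algebraMap F (AlgebraicClosure F))) := by
    ext i j
    have h2 := congrFun (LinearMap.congr_fun hab (Pi.single j 1)) i
    rw [σ_apply, σ_apply] at h2
    simpa using h2
  ext i j
  have h2 := congrFun (congrFun h1 i) j
  simpa using h2

/-! ### Weights -/

section weights

variable {κ : Type*} [Fintype κ] {N : ℕ} [NeZero N] (hN : (N : AlgebraicClosure F) ≠ 0) {ζ : AlgebraicClosure F}
  (hζ : IsPrimitiveRoot ζ N) {x : κ → T} (hc : ∀ j k, x j * x k = x k * x j) (hx : ∀ k, x k ^ N = 1)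

theorem B_eq_zero {c d : κ → ZMod N} (hζ : IsPrimitiveRoot ζ N) {x : κ → T} (hcd : c + d ≠ 0)
    {u v : Fin 10 → AlgebraicClosure F} (hu : u ∈ W N ζ (fun k => h.σ (x k)) c)
    (hv : v ∈ W N ζ (fun k => h.σ (x k)) d) : h.B u v = 0 := by
  obtain ⟨k, hk⟩ : ∃ k, (c + d) k ≠ 0 := by
    by_contra hno
    push Not at hno
    exact hcd (funext hno)
  have h1 := mem_W.1 hu k
  have h2 := mem_W.1 hv k
  have h3 := h.B_inv (x k) u v
  rw [h1, h2, B_smul_left, B_smul_right, ← mul_assoc, ← pow_val_add hζ.pow_eq_one] at h3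
  have h4 : ζ ^ (c k + d k).val ≠ 1 := by
    intro h5
    apply hk
    have h6 := hζ.pow_inj (ZMod.val_lt (c k + d k)) (NeZero.pos N) (by rw [h5, pow_zero])
    exact (ZMod.val_eq_zero _).1 h6
  have h5 : (ζ ^ (c k + d k).val - 1) * h.B u v = 0 := by linear_combination h3
  exact (mul_eq_zero.1 h5).resolve_left (sub_ne_zero.2 h4)

include hN hζ hc hx in
theorem finrank_W_neg_le (c : κ → ZMod N) :
    finrank (AlgebraicClosure F) (W N ζ (fun k => h.σ (x k)) c) ≤
      finrank (AlgebraicClosure F) (W N ζ (fun k => h.σ (x k)) (-c)) := by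
  classical
  have hcomm : ∀ j k, h.σ (x j) * h.σ (x k) = h.σ (x k) * h.σ (x j) := fun j k => by
    rw [← map_mul, ← map_mul, hc]
  have hpow : ∀ k, h.σ (x k) ^ N = 1 := fun k => by rw [← map_pow, hx, map_one]
  have htop := iSup_W hN hζ hcomm hpow
  let f : W N ζ (fun k => h.σ (x k)) c →ₗ[AlgebraicClosure F] Module.Dual (AlgebraicClosure F) (W N ζ (fun k => h.σ (x k)) (-c)) :=
    { toFun := fun u =>
        { toFun := fun v => h.B u.1 v.1
          map_add' := fun v w => h.B_add_right _ _ _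
          map_smul' := fun a v => h.B_smul_right _ _ _ }
      map_add' := fun u v => by
        ext w
        exact h.B_add_left _ _ _
      map_smul' := fun a v => by
        ext w
        exact h.B_smul_left _ _ _ }
  have hf : Function.Injective f := by
    rw [← LinearMap.ker_eq_bot, LinearMap.ker_eq_bot']
    intro u hu
    apply Subtype.ext
    apply h.B_nondeg
    intro w
    have hw : w ∈ (⨆ d, W N ζ (fun k => h.σ (x k)) d) := by rw [htop]; trivial
    induction hw using Submodule.iSup_induction' with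
    | mem d w hw =>
      by_cases hd : d = -c
      · subst hd
        rw [h.B_comm]
        exact LinearMap.congr_fun hu ⟨w, hw⟩
      · refine h.B_eq_zero hζ ?_ hw u.2
        intro h0
        exact hd (eq_neg_of_add_eq_zero_left h0)
    | zero => rw [h.B_comm]; rw [show (0 : Fin 10 → AlgebraicClosure F) = (0 : AlgebraicClosure F) • 0 by simp, B_smul_right, zero_mul]
    | add a b _ _ ha hb => rw [B_add_left, ha, hb, add_zero]
  have h1 := LinearMap.finrank_le_finrank_of_injective hf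
  rwa [Subspace.dual_finrank_eq] at h1

include hN hζ hc hx in
/-- **Self-duality of weights.** -/
theorem finrank_W_neg (c : κ → ZMod N) :
    finrank (AlgebraicClosure F) (W N ζ (fun k => h.σ (x k)) (-c)) =
      finrank (AlgebraicClosure F) (W N ζ (fun k => h.σ (x k)) c) := by
  refine le_antisymm ?_ (h.finrank_W_neg_le hN hζ hc hx c)
  have := h.finrank_W_neg_le hN hζ hc hx (-c)
  rwa [neg_neg] at this

end weights

/-- The invariant form as a bilinear form. -/
noncomputable def Bf : LinearMap.BilinForm (AlgebraicClosure F) (Fin 10 → AlgebraicClosure F) :=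
  LinearMap.mk₂ (AlgebraicClosure F) h.B h.B_add_left h.B_smul_left h.B_add_right h.B_smul_right

theorem Bf_nondeg : h.Bf.Nondegenerate := by
  refine ⟨fun v hv => ?_, fun v hv => ?_⟩
  · exact h.B_nondeg fun u => by rw [h.B_comm]; exact hv u
  · exact h.B_nondeg hv

theorem finrank_orth (U : Submodule (AlgebraicClosure F) (Fin 10 → AlgebraicClosure F)) :
    finrank (AlgebraicClosure F) (h.Bf.orthogonal U) + finrank (AlgebraicClosure F) U = 10 := by
  have h1 := LinearMap.BilinForm.finrank_orthogonal h.Bf_nondeg U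
  have h2 := Submodule.finrank_le U
  rw [Module.finrank_fin_fun] at h1 h2
  omega

/-- the range of `g - 1` -/
noncomputable def R (g : T) : Submodule (AlgebraicClosure F) (Fin 10 → AlgebraicClosure F) :=
  LinearMap.range (h.σ g - 1)

theorem finrank_R (g : T) : finrank (AlgebraicClosure F) (h.R g) + finrank (AlgebraicClosure F) (Fix h.σ g) = 10 := by
  have h1 := LinearMap.finrank_range_add_finrank_ker (h.σ g - 1)
  rw [Module.finrank_fin_fun] at h1
  have h2 : _root_.Cfsg.Agent.H637.JW.Fix h.σ g = LinearMap.ker (h.σ g - 1) := by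
    ext v
    rw [mem_Fix, LinearMap.mem_ker, LinearMap.sub_apply, Module.End.one_apply, sub_eq_zero]
  rw [h2]
  exact h1

/-- a vector orthogonal to `(g - 1) V` is fixed by `g` -/
theorem fixed_of_orth {g : T} {v : Fin 10 → AlgebraicClosure F} (hv : ∀ u, h.B (h.σ g u - u) v = 0) : h.σ g v = v := by
  have h1 : h.σ g⁻¹ v = v := by
    rw [← sub_eq_zero]
    apply h.B_nondeg
    intro u
    have h2 := hv u
    rw [sub_eq_add_neg, h.B_add_left, ← neg_one_smul (AlgebraicClosure F) u, h.B_smul_left] at h2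
    have h3 := h.B_inv g⁻¹ (h.σ g u) v
    rw [← mul_apply', inv_mul_cancel, map_one, Module.End.one_apply] at h3
    rw [sub_eq_add_neg, h.B_add_right, ← neg_one_smul (AlgebraicClosure F) v, h.B_smul_right, h3]
    linear_combination h2
  have h2 := congrArg (h.σ g) h1
  rw [← mul_apply', mul_inv_cancel, map_one, Module.End.one_apply] at h2
  exact h2.symm

/-- **Scott's lemma.** -/
theorem scott {x y : T} (hxy : ∀ v, h.σ x v = v → h.σ y v = v → v = 0) :
    finrank (AlgebraicClosure F) (Fix h.σ x) + finrank (AlgebraicClosure F) (Fix h.σ y) +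
      finrank (AlgebraicClosure F) (Fix h.σ (x * y)) ≤ 10 := by
  have hx := h.finrank_R x
  have hy := h.finrank_R y
  have hz := h.finrank_R (x * y)
  -- `R x ⊔ R y = ⊤`
  have htop : h.R x ⊔ h.R y = ⊤ := by
    have h1 := h.finrank_orth (h.R x ⊔ h.R y)
    have h2 : h.Bf.orthogonal (h.R x ⊔ h.R y) = ⊥ := by
      rw [eq_bot_iff]
      intro v hv
      rw [LinearMap.BilinForm.mem_orthogonal_iff] at hv
      rw [Submodule.mem_bot]
      refine hxy v (h.fixed_of_orth fun u => ?_) (h.fixed_of_orth fun u => ?_)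
      · exact hv _ (Submodule.mem_sup_left ⟨u, rfl⟩)
      · exact hv _ (Submodule.mem_sup_right ⟨u, rfl⟩)
    rw [h2, finrank_bot, zero_add] at h1
    exact Submodule.eq_top_of_finrank_eq (by rw [h1, Module.finrank_fin_fun])
  let δ : (h.R x × h.R y) × h.R (x * y) →ₗ[AlgebraicClosure F] (Fin 10 → AlgebraicClosure F) :=
    ((h.R x).subtype.coprod (h.R y).subtype).coprod (h.R (x * y)).subtype
  have hδ : LinearMap.range δ = ⊤ := by
    rw [eq_top_iff, ← htop]
    intro v hv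
    obtain ⟨a, ha, b, hb, rfl⟩ := Submodule.mem_sup.1 hv
    exact ⟨((⟨a, ha⟩, ⟨b, hb⟩), 0), by simp only [δ, _root_.LinearMap.coprod_apply, _root_.Submodule.subtype_apply, _root_.ZeroMemClass.coe_zero, _root_.add_zero]⟩
  let β : (Fin 10 → AlgebraicClosure F) →ₗ[AlgebraicClosure F] LinearMap.ker δ :=
    { toFun := fun v => ⟨((⟨h.σ x (h.σ y v) - h.σ y v, ⟨h.σ y v, rfl⟩⟩, ⟨h.σ y v - v, ⟨v, rfl⟩⟩),
        ⟨-(h.σ (x * y) v - v), neg_mem ⟨v, rfl⟩⟩), by
          rw [LinearMap.mem_ker]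
          simp only [δ, LinearMap.coprod_apply, Submodule.subtype_apply, mul_apply']
          abel⟩
      map_add' := fun u v => by
        apply Subtype.ext
        refine Prod.ext (Prod.ext (Subtype.ext ?_) (Subtype.ext ?_)) (Subtype.ext ?_) <;>
          simp only [map_add, Prod.fst_add, Prod.snd_add, Submodule.coe_add] <;> abel
      map_smul' := fun c v => by
        apply Subtype.ext
        refine Prod.ext (Prod.ext (Subtype.ext ?_) (Subtype.ext ?_)) (Subtype.ext ?_) <;>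
          simp only [map_smul, Prod.smul_fst, Prod.smul_snd, Submodule.coe_smul, RingHom.id_apply, smul_sub, smul_neg] }
  have hβ : Function.Injective β := by
    refine (injective_iff_map_eq_zero β).2 fun v hv => ?_
    have h1 := congrArg Subtype.val hv
    have h2 : h.σ y v - v = 0 := congrArg (fun z => ((z.1.2 : h.R y) : Fin 10 → AlgebraicClosure F)) h1
    have h3 : h.σ x (h.σ y v) - h.σ y v = 0 := congrArg (fun z => ((z.1.1 : h.R x) : Fin 10 → AlgebraicClosure F)) h1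
    rw [sub_eq_zero] at h2
    rw [h2, sub_eq_zero] at h3
    exact hxy v h3 h2
  have h1 := LinearMap.finrank_le_finrank_of_injective hβ
  have h2 := LinearMap.finrank_range_add_finrank_ker δ
  rw [hδ, finrank_top, Module.finrank_fin_fun, Module.finrank_prod, Module.finrank_prod] at h2
  rw [Module.finrank_fin_fun] at h1
  omega


end OT

end Cfsg.Agent.H908.Ten
end

-- part: H908/TenDim
section
/-!
# Dimensions of fixed spaces (helper908)

* `sum_inf_eigen` : decomposition of an invariant subspace under an operator of finite order;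
* `klein`, `klein3` : Klein four groups;
* `OT.dim7`, `OT.dim5`, `OT.dim3`, `OT.dimE` : elements of order 7, 5, 3 in dimension ten;
* `sum_trace` : traces and the dimension of the fixed space.
-/

set_option autoImplicit false
set_option linter.unusedSectionVars false

namespace Cfsg.Agent.H908.Ten

open Cfsg Cfsg.Geo Module
open Matrix hiding mul_apply'
open Cfsg.Agent.H637.JW Cfsg.Agent.H917.Om

universe u v

section gen

variable {K : Type*} [Field K] {V : Type*} [AddCommGroup V] [Module K V] [FiniteDimensional K V]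

theorem finrank_map_sub {U : Submodule K V} (W : Submodule K U) :
    finrank K (W.map U.subtype) = finrank K W :=
  (Submodule.equivMapOfInjective U.subtype U.injective_subtype W).finrank_eq.symm

/-- An invariant subspace is the direct sum of its intersections with the eigenspaces. -/
theorem sum_inf_eigen [IsAlgClosed K] {N : ℕ} [NeZero N] (hN : (N : K) ≠ 0) {ζ : K} (hζ : IsPrimitiveRoot ζ N)
    {A : Module.End K V} (hA : A ^ N = 1) {U : Submodule K V} (hU : ∀ v ∈ U, A v ∈ U) :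
    ∑ i : ZMod N, finrank K (U ⊓ A.eigenspace (ζ ^ i.val) : Submodule K V) = finrank K U := by
  have hpow : ∀ (k : ℕ) (v : U), (((A.restrict hU) ^ k) v : V) = (A ^ k) v := by
    intro k
    induction k with
    | zero => intro v; rfl
    | succ k ih =>
      intro v
      rw [pow_succ, pow_succ, Module.End.mul_apply, Module.End.mul_apply, ih]
      rfl
  have h1 : (A.restrict hU) ^ N = 1 := by
    ext v
    rw [hpow, hA]
    rfl
  have h2 := sum_W (κ := Unit) hN hζ (f := fun _ => A.restrict hU) (fun _ _ => rfl) (fun _ => h1)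
  rw [← h2, ← (Equiv.funUnique Unit (ZMod N)).symm.sum_comp]
  refine Finset.sum_congr rfl fun i _ => ?_
  have h3 : (W N ζ (fun _ : Unit => A.restrict hU) ((Equiv.funUnique Unit (ZMod N)).symm i)).map U.subtype =
      (U ⊓ A.eigenspace (ζ ^ i.val) : Submodule K V) := by
    ext v
    rw [Submodule.mem_map, Submodule.mem_inf, Module.End.mem_eigenspace_iff]
    constructor
    · rintro ⟨w, hw, rfl⟩
      rw [mem_W] at hw
      exact ⟨w.2, congrArg Subtype.val (hw ())⟩
    · rintro ⟨hv, hv2⟩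
      refine ⟨⟨v, hv⟩, ?_, rfl⟩
      rw [mem_W]
      intro _
      exact Subtype.ext hv2
  rw [← h3]
  exact finrank_map_sub _

/-- Involutions. -/
theorem two_inf (h2 : (2 : K) ≠ 0) {A : Module.End K V} {U : Submodule K V} (hA : ∀ v ∈ U, A (A v) = v)
    (hU : ∀ v ∈ U, A v ∈ U) :
    finrank K (U ⊓ A.eigenspace 1 : Submodule K V) + finrank K (U ⊓ A.eigenspace (-1) : Submodule K V) = finrank K U := by
  rw [← Submodule.finrank_sup_add_finrank_inf_eq]
  have h3 : (U ⊓ A.eigenspace 1) ⊓ (U ⊓ A.eigenspace (-1)) = (⊥ : Submodule K V) := by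
    rw [eq_bot_iff]
    rintro v ⟨⟨_, h4⟩, ⟨_, h5⟩⟩
    rw [SetLike.mem_coe, Module.End.mem_eigenspace_iff] at h4 h5
    rw [h4, one_smul, neg_one_smul] at h5
    have h6 : (2 : K) • v = 0 := by
      rw [two_smul]
      nth_rewrite 1 [h5]
      exact neg_add_cancel v
    exact (smul_eq_zero.1 h6).resolve_left h2
  have h4 : (U ⊓ A.eigenspace 1) ⊔ (U ⊓ A.eigenspace (-1)) = U := by
    refine le_antisymm (sup_le inf_le_left inf_le_left) ?_
    intro v hv
    rw [Submodule.mem_sup]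
    refine ⟨(2 : K)⁻¹ • (v + A v), ⟨U.smul_mem _ (U.add_mem hv (hU v hv)), ?_⟩, (2 : K)⁻¹ • (v - A v),
      ⟨U.smul_mem _ (U.sub_mem hv (hU v hv)), ?_⟩, ?_⟩
    · rw [SetLike.mem_coe, Module.End.mem_eigenspace_iff, map_smul, map_add, hA v hv, one_smul, add_comm]
    · rw [SetLike.mem_coe, Module.End.mem_eigenspace_iff, map_smul, map_sub, hA v hv, neg_one_smul, ← smul_neg, neg_sub]
    · rw [← smul_add, show v + A v + (v - A v) = (2 : K) • v by rw [two_smul]; abel, smul_smul,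
        inv_mul_cancel₀ h2, one_smul]
  rw [h3, finrank_bot, add_zero, h4]

end gen

section rep

variable {K : Type*} [Field K] {V : Type*} [AddCommGroup V] [Module K V] [FiniteDimensional K V]
variable {G : Type*} [Group G] {σ : G →* Module.End K V}

/-- **Klein four groups.** -/
theorem klein (h2 : (2 : K) ≠ 0) {a b : G} {U : Submodule K V}
    (haa : ∀ v ∈ U, σ a (σ a v) = v) (hbb : ∀ v ∈ U, σ b (σ b v) = v) (hcab : ∀ v ∈ U, σ a (σ b v) = σ b (σ a v))
    (hUa : ∀ v ∈ U, σ a v ∈ U) (hUb : ∀ v ∈ U, σ b v ∈ U) :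
    finrank K U + 2 * finrank K (U ⊓ _root_.Cfsg.Agent.H637.JW.Fix σ a ⊓ _root_.Cfsg.Agent.H637.JW.Fix σ b : Submodule K V) =
      finrank K (U ⊓ _root_.Cfsg.Agent.H637.JW.Fix σ a : Submodule K V) + finrank K (U ⊓ _root_.Cfsg.Agent.H637.JW.Fix σ b : Submodule K V) +
        finrank K (U ⊓ _root_.Cfsg.Agent.H637.JW.Fix σ (a * b) : Submodule K V) := by
  -- invariance
  have i1 : ∀ (c : K) (v : V), v ∈ U ⊓ (σ a).eigenspace c → σ b v ∈ U ⊓ (σ a).eigenspace c := by
    rintro c v ⟨h1, h3⟩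
    rw [SetLike.mem_coe, Module.End.mem_eigenspace_iff] at h3
    refine ⟨hUb v h1, ?_⟩
    rw [SetLike.mem_coe, Module.End.mem_eigenspace_iff, hcab v h1, h3, map_smul]
  have i2 : ∀ (c : K) (v : V), v ∈ U ⊓ (σ b).eigenspace c → σ a v ∈ U ⊓ (σ b).eigenspace c := by
    rintro c v ⟨h1, h3⟩
    rw [SetLike.mem_coe, Module.End.mem_eigenspace_iff] at h3
    refine ⟨hUa v h1, ?_⟩
    rw [SetLike.mem_coe, Module.End.mem_eigenspace_iff, ← hcab v h1, h3, map_smul]
  have i3 : ∀ (v : V), v ∈ U ⊓ _root_.Cfsg.Agent.H637.JW.Fix σ (a * b) → σ a v ∈ U ⊓ _root_.Cfsg.Agent.H637.JW.Fix σ (a * b) := by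
    rintro v ⟨h1, h3⟩
    rw [SetLike.mem_coe, mem_Fix, mul_apply'] at h3
    refine ⟨hUa v h1, ?_⟩
    rw [SetLike.mem_coe, mem_Fix, mul_apply', ← hcab v h1, h3]
  have e0 := two_inf h2 haa hUa
  have e1 := two_inf h2 (U := U ⊓ (σ a).eigenspace 1) (fun v hv => hbb v hv.1) (i1 1)
  have e2 := two_inf h2 (U := U ⊓ (σ a).eigenspace (-1)) (fun v hv => hbb v hv.1) (i1 (-1))
  have e3 := two_inf h2 (U := U ⊓ (σ b).eigenspace 1) (fun v hv => haa v hv.1) (i2 1)
  have e4 := two_inf h2 (U := U ⊓ _root_.Cfsg.Agent.H637.JW.Fix σ (a * b)) (fun v hv => haa v hv.1) i3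
  have j1 : (U ⊓ (σ b).eigenspace 1) ⊓ (σ a).eigenspace 1 = (U ⊓ (σ a).eigenspace 1) ⊓ (σ b).eigenspace 1 := by
    rw [inf_assoc, inf_assoc, inf_comm ((σ b).eigenspace 1)]
  have j2 : (U ⊓ (σ b).eigenspace 1) ⊓ (σ a).eigenspace (-1) = (U ⊓ (σ a).eigenspace (-1)) ⊓ (σ b).eigenspace 1 := by
    rw [inf_assoc, inf_assoc, inf_comm ((σ b).eigenspace 1)]
  have j3 : (U ⊓ _root_.Cfsg.Agent.H637.JW.Fix σ (a * b)) ⊓ (σ a).eigenspace 1 = (U ⊓ (σ a).eigenspace 1) ⊓ (σ b).eigenspace 1 := by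
    ext v
    simp only [Submodule.mem_inf, Module.End.mem_eigenspace_iff, mem_Fix, mul_apply', one_smul]
    constructor
    · rintro ⟨⟨h1, h3⟩, h4⟩
      refine ⟨⟨h1, h4⟩, ?_⟩
      rw [hcab v h1, h4] at h3
      exact h3
    · rintro ⟨⟨h1, h3⟩, h4⟩
      refine ⟨⟨h1, ?_⟩, h3⟩
      rw [h4, h3]
  have j4 : (U ⊓ _root_.Cfsg.Agent.H637.JW.Fix σ (a * b)) ⊓ (σ a).eigenspace (-1) = (U ⊓ (σ a).eigenspace (-1)) ⊓ (σ b).eigenspace (-1) := by
    ext v
    simp only [Submodule.mem_inf, Module.End.mem_eigenspace_iff, mem_Fix, mul_apply', neg_one_smul]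
    constructor
    · rintro ⟨⟨h1, h3⟩, h4⟩
      refine ⟨⟨h1, h4⟩, ?_⟩
      rw [hcab v h1, h4, map_neg] at h3
      exact neg_eq_iff_eq_neg.1 h3
    · rintro ⟨⟨h1, h3⟩, h4⟩
      refine ⟨⟨h1, ?_⟩, h3⟩
      rw [h4, map_neg, h3, neg_neg]
  rw [j1, j2] at e3
  rw [j3, j4] at e4
  have k1 : finrank K (U ⊓ _root_.Cfsg.Agent.H637.JW.Fix σ a ⊓ _root_.Cfsg.Agent.H637.JW.Fix σ b : Submodule K V) =
    finrank K ((U ⊓ (σ a).eigenspace 1) ⊓ (σ b).eigenspace 1 : Submodule K V) := rfl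
  have k2 : finrank K (U ⊓ _root_.Cfsg.Agent.H637.JW.Fix σ a : Submodule K V) = finrank K (U ⊓ (σ a).eigenspace 1 : Submodule K V) := rfl
  have k3 : finrank K (U ⊓ _root_.Cfsg.Agent.H637.JW.Fix σ b : Submodule K V) = finrank K (U ⊓ (σ b).eigenspace 1 : Submodule K V) := rfl
  rw [k1, k2, k3]
  (clear * - e0 e2 e3 e4; omega)

/-- **Klein four groups normalised by an element of order three.** -/
theorem klein3 (h2 : (2 : K) ≠ 0) {a b s : G} (ha : a * a = 1) (hb : b * b = 1) (hab : a * b = b * a)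
    (hs1 : s * a * s⁻¹ = b) (hs2 : s * b * s⁻¹ = a * b) {U : Submodule K V}
    (hUa : ∀ v ∈ U, σ a v ∈ U) (hUb : ∀ v ∈ U, σ b v ∈ U) (hUs : ∀ v ∈ U, σ s v ∈ U) :
    finrank K U + 2 * finrank K (U ⊓ _root_.Cfsg.Agent.H637.JW.Fix σ a ⊓ _root_.Cfsg.Agent.H637.JW.Fix σ b : Submodule K V) =
      3 * finrank K (U ⊓ _root_.Cfsg.Agent.H637.JW.Fix σ a : Submodule K V) := by
  have h := klein (σ := σ) h2 (fun v _ => by rw [← mul_apply', ha, map_one]; rfl)
    (fun v _ => by rw [← mul_apply', hb, map_one]; rfl) (fun v _ => by rw [← mul_apply', ← mul_apply', hab]) hUa hUb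
  have key : ∀ x y : G, s * x * s⁻¹ = y → finrank K (U ⊓ _root_.Cfsg.Agent.H637.JW.Fix σ x : Submodule K V) ≤
      finrank K (U ⊓ _root_.Cfsg.Agent.H637.JW.Fix σ y : Submodule K V) := by
    intro x y hxy
    refine finrank_le_of_map (σ := σ) s fun v hv => ⟨hUs v hv.1, ?_⟩
    have h1 := mem_Fix.1 hv.2
    rw [SetLike.mem_coe, mem_Fix, ← hxy, ← mul_apply', inv_mul_cancel_right, mul_apply', h1]
  have h1 := key a b hs1
  have h3 := key b (a * b) hs2
  have h4 := key (a * b) a (by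
    have : s * (a * b) * s⁻¹ = (s * a * s⁻¹) * (s * b * s⁻¹) := by group
    rw [this, hs1, hs2, hab, ← mul_assoc, hb, one_mul])
  omega

/-- **Traces and fixed spaces.** -/
theorem sum_trace {N : ℕ} (hN : (N : K) ≠ 0) {x : G} (hx : x ^ N = 1) :
    ∑ k ∈ Finset.range N, LinearMap.trace K V (σ (x ^ k)) = N * (finrank K (Fix σ x) : K) := by
  set p : Module.End K V := (N : K)⁻¹ • ∑ k ∈ Finset.range N, σ (x ^ k) with hp
  have hproj : LinearMap.IsProj (_root_.Cfsg.Agent.H637.JW.Fix σ x) p := by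
    refine ⟨fun v => ?_, fun v hv => ?_⟩
    · rw [mem_Fix, hp, LinearMap.smul_apply, map_smul, LinearMap.sum_apply, map_sum]
      congr 1
      have h1 : ∀ k, σ x (σ (x ^ k) v) = σ (x ^ (k + 1)) v := fun k => by rw [← mul_apply', ← pow_succ']
      simp only [h1]
      have h3 := Finset.sum_range_succ (fun k => σ (x ^ k) v) N
      rw [Finset.sum_range_succ', hx, pow_zero] at h3
      exact add_right_cancel h3
    · rw [hp, LinearMap.smul_apply, LinearMap.sum_apply]
      have h1 : ∀ k, σ (x ^ k) v = v := by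
        intro k
        induction k with
        | zero => rw [pow_zero, map_one, Module.End.one_apply]
        | succ k ih => rw [pow_succ', mul_apply', ih]; exact mem_Fix.1 hv
      simp only [h1]
      rw [Finset.sum_const, Finset.card_range, ← Nat.cast_smul_eq_nsmul K, smul_smul, inv_mul_cancel₀ hN, one_smul]
  have h1 := hproj.trace
  rw [hp, map_smul, map_sum, smul_eq_mul] at h1
  rw [← h1, ← mul_assoc, mul_inv_cancel₀ hN, one_mul]

theorem eig_conj {N : ℕ} [NeZero N] {ζ : K} (hζ : IsPrimitiveRoot ζ N) {x d : G} {m : ℕ} (hd : d⁻¹ * x * d = x ^ m)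
    (i : ZMod N) : finrank K ((σ x).eigenspace (ζ ^ i.val)) ≤ finrank K ((σ x).eigenspace (ζ ^ ((m : ZMod N) * i).val)) := by
  refine finrank_le_of_map (σ := σ) d fun v hv => ?_
  rw [Module.End.mem_eigenspace_iff] at hv ⊢
  have h1 : ((m : ZMod N) * i).val = (m * i.val) % N := by
    rw [ZMod.val_mul, ZMod.val_natCast, Nat.mod_mul_mod]
  have h2 : σ x (σ d v) = σ d (σ (d⁻¹ * x * d) v) := by
    rw [← mul_apply', ← mul_apply']
    congr 2
    group
  rw [h2, hd, map_pow, pow_apply hv, map_smul, h1, pow_mod_of_pow_eq_one hζ.pow_eq_one, ← pow_mul, mul_comm]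

end rep

namespace OT

variable {F : Type u} [Field F] {T : Type v} [Group T] (h : OT F T)

/-- the dimension of the fixed space -/
noncomputable def d (g : T) : ℕ := finrank (AlgebraicClosure F) (Fix h.σ g)

theorem d_conj {g g' : T} (hc : IsConj g g') : h.d g = h.d g' := finrank_Fix_of_isConj hc

theorem d_even (g : T) : Even (h.d g) := h.even_fix g

theorem d_le (g : T) : h.d g ≤ 10 := by
  have := Submodule.finrank_le (_root_.Cfsg.Agent.H637.JW.Fix h.σ g)
  rwa [Module.finrank_fin_fun] at this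

theorem d_ne {g : T} (hg : g ≠ 1) : h.d g ≠ 10 := by
  intro h10
  apply hg
  apply h.σ_injective
  have h1 : _root_.Cfsg.Agent.H637.JW.Fix h.σ g = ⊤ := Submodule.eq_top_of_finrank_eq (by rw [Module.finrank_fin_fun]; exact h10)
  refine LinearMap.ext fun v => ?_
  have h2 : v ∈ _root_.Cfsg.Agent.H637.JW.Fix h.σ g := by rw [h1]; trivial
  rw [map_one, Module.End.one_apply]
  exact mem_Fix.1 h2

theorem sum_eig {N : ℕ} [NeZero N] (hN : (N : AlgebraicClosure F) ≠ 0) {ζ : AlgebraicClosure F}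
    (hζ : IsPrimitiveRoot ζ N) {x : T} (hx : x ^ N = 1) :
    ∑ i : ZMod N, finrank (AlgebraicClosure F) ((h.σ x).eigenspace (ζ ^ i.val)) = 10 := by
  have h1 := sum_inf_eigen hN hζ (A := h.σ x) (by rw [← map_pow, hx, map_one]) (U := ⊤) (fun v _ => trivial)
  rw [finrank_top, Module.finrank_fin_fun] at h1
  refine Eq.trans (Finset.sum_congr rfl fun i _ => ?_) h1
  have h2 : (⊤ ⊓ (h.σ x).eigenspace (ζ ^ i.val) : Submodule (AlgebraicClosure F) _) = (h.σ x).eigenspace (ζ ^ i.val) :=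
    top_inf_eq _
  rw [h2]

theorem eig_neg {N : ℕ} [NeZero N] (hN : (N : AlgebraicClosure F) ≠ 0) {ζ : AlgebraicClosure F}
    (hζ : IsPrimitiveRoot ζ N) {x : T} (hx : x ^ N = 1) (i : ZMod N) :
    finrank (AlgebraicClosure F) ((h.σ x).eigenspace (ζ ^ (-i).val)) =
      finrank (AlgebraicClosure F) ((h.σ x).eigenspace (ζ ^ i.val)) := by
  have h1 := h.finrank_W_neg (κ := Unit) hN hζ (x := fun _ => x) (fun _ _ => rfl) (fun _ => hx) (fun _ => i)
  have h2 : ∀ j : ZMod N, W N ζ (fun _ : Unit => h.σ x) (fun _ => j) = (h.σ x).eigenspace (ζ ^ j.val) := fun j => iInf_const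
  have h3 : (-fun _ : Unit => i) = fun _ => -i := rfl
  rw [h3, h2, h2] at h1
  exact h1

theorem eig_zero {ζ : AlgebraicClosure F} (N : ℕ) [NeZero N] (x : T) :
    finrank (AlgebraicClosure F) ((h.σ x).eigenspace (ζ ^ (0 : ZMod N).val)) = h.d x := by
  rw [ZMod.val_zero, pow_zero]
  rfl

/-- **Elements of order seven.** -/
theorem dim7 (h7 : (7 : AlgebraicClosure F) ≠ 0) {x d : T} (hx : x ^ 7 = 1) (hx1 : x ≠ 1) (hd : d⁻¹ * x * d = x ^ 2) :
    h.d x = 4 := by
  have h7' : ((7 : ℕ) : AlgebraicClosure F) ≠ 0 := by exact_mod_cast h7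
  obtain ⟨ζ, hζ⟩ := exists_root (K := AlgebraicClosure F) (N := 7) h7'
  have hsum := h.sum_eig h7' hζ hx
  have hneg := h.eig_neg h7' hζ hx
  have hconj := fun i : ZMod 7 => eig_conj (σ := h.σ) hζ hd i
  have h0 := h.eig_zero (ζ := ζ) 7 x
  set D : ZMod 7 → ℕ := fun i => finrank (AlgebraicClosure F) ((h.σ x).eigenspace (ζ ^ i.val)) with hD
  have e1 : D 1 ≤ D 2 := hconj 1
  have e2 : D 2 ≤ D 4 := hconj 2
  have e3 : D 4 ≤ D 1 := hconj 4
  have e4 : D 6 = D 1 := hneg 1
  have e5 : D 5 = D 2 := hneg 2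
  have e6 : D 3 = D 4 := hneg 4
  have e0 : D 0 = h.d x := h0
  have hs : D 0 + D 1 + D 2 + D 3 + D 4 + D 5 + D 6 = 10 := by
    rw [← hsum]
    exact (Fin.sum_univ_seven (fun i : Fin 7 => D i)).symm
  have hne := h.d_ne hx1
  have hd10 := h.d_le x
  (clear * - e1 e2 e3 e4 e5 e6 e0 hs hne; omega)

/-- **Elements of order five.** -/
theorem dim5 (h5 : (5 : AlgebraicClosure F) ≠ 0) {x d : T} (hx : x ^ 5 = 1) (hx1 : x ≠ 1) (hd : d⁻¹ * x * d = x ^ 2) :
    h.d x = 2 ∨ h.d x = 6 := by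
  have h5' : ((5 : ℕ) : AlgebraicClosure F) ≠ 0 := by exact_mod_cast h5
  obtain ⟨ζ, hζ⟩ := exists_root (K := AlgebraicClosure F) (N := 5) h5'
  have hsum := h.sum_eig h5' hζ hx
  have hconj := fun i : ZMod 5 => eig_conj (σ := h.σ) hζ hd i
  have h0 := h.eig_zero (ζ := ζ) 5 x
  set D : ZMod 5 → ℕ := fun i => finrank (AlgebraicClosure F) ((h.σ x).eigenspace (ζ ^ i.val)) with hD
  have e1 : D 1 ≤ D 2 := hconj 1
  have e2 : D 2 ≤ D 4 := hconj 2
  have e3 : D 4 ≤ D 3 := hconj 4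
  have e4 : D 3 ≤ D 1 := hconj 3
  have e0 : D 0 = h.d x := h0
  have hs : D 0 + D 1 + D 2 + D 3 + D 4 = 10 := by
    rw [← hsum]
    exact (Fin.sum_univ_five (fun i : Fin 5 => D i)).symm
  have hne := h.d_ne hx1
  omega

/-- **Elements of order three.** -/
theorem dim3 (h3 : (3 : AlgebraicClosure F) ≠ 0) {ζ : AlgebraicClosure F} (hζ : IsPrimitiveRoot ζ 3) {x : T} (hx : x ^ 3 = 1) :
    h.d x + 2 * finrank (AlgebraicClosure F) ((h.σ x).eigenspace ζ) = 10 ∧
      finrank (AlgebraicClosure F) ((h.σ x).eigenspace (ζ ^ 2)) = finrank (AlgebraicClosure F) ((h.σ x).eigenspace ζ) := by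
  have h3' : ((3 : ℕ) : AlgebraicClosure F) ≠ 0 := by exact_mod_cast h3
  have hsum := h.sum_eig h3' hζ hx
  have hneg := h.eig_neg h3' hζ hx
  have h0 := h.eig_zero (ζ := ζ) 3 x
  set D : ZMod 3 → ℕ := fun i => finrank (AlgebraicClosure F) ((h.σ x).eigenspace (ζ ^ i.val)) with hD
  have e1 : D 2 = D 1 := hneg 1
  have e0 : D 0 = h.d x := h0
  have hs : D 0 + D 1 + D 2 = 10 := by
    rw [← hsum]
    exact (Fin.sum_univ_three (fun i : Fin 3 => D i)).symm
  have f1 : D 1 = finrank (AlgebraicClosure F) ((h.σ x).eigenspace ζ) := by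
    change finrank (AlgebraicClosure F) ((h.σ x).eigenspace (ζ ^ 1)) = _
    rw [pow_one]
  have f2 : D 2 = finrank (AlgebraicClosure F) ((h.σ x).eigenspace (ζ ^ 2)) := rfl
  omega

/-- **Elementary abelian groups of order nine.** -/
theorem dimE (h3 : (3 : AlgebraicClosure F) ≠ 0) {a b g : T} (ha : a ^ 3 = 1) (hb : b ^ 3 = 1) (hab : a * b = b * a)
    (hga : g⁻¹ * a * g = b) (hgb : g⁻¹ * b * g = a * a) :
    ∃ x y : ℕ, finrank (AlgebraicClosure F) (_root_.Cfsg.Agent.H637.JW.Fix h.σ a ⊓ _root_.Cfsg.Agent.H637.JW.Fix h.σ b : Submodule _ _) + 4 * x + 4 * y = 10 ∧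
      h.d a = finrank (AlgebraicClosure F) (_root_.Cfsg.Agent.H637.JW.Fix h.σ a ⊓ _root_.Cfsg.Agent.H637.JW.Fix h.σ b : Submodule _ _) + 2 * x ∧
      h.d (a * b) = finrank (AlgebraicClosure F) (_root_.Cfsg.Agent.H637.JW.Fix h.σ a ⊓ _root_.Cfsg.Agent.H637.JW.Fix h.σ b : Submodule _ _) + 2 * y := by
  have h3' : ((3 : ℕ) : AlgebraicClosure F) ≠ 0 := by exact_mod_cast h3
  obtain ⟨ζ, hζ⟩ := exists_root (K := AlgebraicClosure F) (N := 3) h3'
  have hζ3 := hζ.pow_eq_one
  have hsum := h.sum_eig h3' hζ ha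
  have hcomm : ∀ v, h.σ a (h.σ b v) = h.σ b (h.σ a v) := fun v => by rw [← mul_apply', ← mul_apply', hab]
  set D : ZMod 3 → ZMod 3 → ℕ := fun i j => finrank (AlgebraicClosure F)
    ((h.σ a).eigenspace (ζ ^ i.val) ⊓ (h.σ b).eigenspace (ζ ^ j.val) : Submodule _ _) with hD
  have hrow : ∀ i, ∑ j, D i j = finrank (AlgebraicClosure F) ((h.σ a).eigenspace (ζ ^ i.val)) := by
    intro i
    refine sum_inf_eigen h3' hζ (A := h.σ b) (by rw [← map_pow, hb, map_one]) (fun v hv => ?_)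
    rw [Module.End.mem_eigenspace_iff] at hv ⊢
    rw [hcomm, hv, map_smul]
  have hdiag : ∑ i, D i (-i) = h.d (a * b) := by
    have h1 := sum_inf_eigen h3' hζ (A := h.σ a) (by rw [← map_pow, ha, map_one]) (U := _root_.Cfsg.Agent.H637.JW.Fix h.σ (a * b)) (fun v hv => by
      rw [mem_Fix] at hv ⊢
      rw [mul_apply', ← hcomm, ← mul_apply' a b, hv])
    rw [d, ← h1]
    refine Finset.sum_congr rfl fun i _ => ?_
    have h2 : (_root_.Cfsg.Agent.H637.JW.Fix h.σ (a * b) ⊓ (h.σ a).eigenspace (ζ ^ i.val) : Submodule (AlgebraicClosure F) _) =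
        (h.σ a).eigenspace (ζ ^ i.val) ⊓ (h.σ b).eigenspace (ζ ^ (-i).val) := by
      ext v
      simp only [Submodule.mem_inf, Module.End.mem_eigenspace_iff, mem_Fix, mul_apply']
      have h4 : ζ ^ (-i).val * ζ ^ i.val = 1 := by
        rw [← pow_val_add hζ3, neg_add_cancel, ZMod.val_zero, pow_zero]
      constructor
      · rintro ⟨h5, h6⟩
        refine ⟨h6, ?_⟩
        rw [hcomm, h6, map_smul] at h5
        have h7 := congrArg (fun z => ζ ^ (-i).val • z) h5
        simp only [smul_smul, h4, one_smul] at h7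
        exact h7
      · rintro ⟨h5, h6⟩
        refine ⟨?_, h5⟩
        rw [h6, map_smul, h5, smul_smul, h4, one_smul]
    rw [h2]
  have hDle : ∀ i j, D i j ≤ D j (i + i) := by
    intro i j
    refine finrank_le_of_map (σ := h.σ) g fun v hv => ?_
    rw [Submodule.mem_inf, Module.End.mem_eigenspace_iff, Module.End.mem_eigenspace_iff] at hv ⊢
    have e1 : ∀ z : T, h.σ z (h.σ g v) = h.σ g (h.σ (g⁻¹ * z * g) v) := by
      intro z
      rw [← mul_apply', ← mul_apply']
      congr 2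
      group
    refine ⟨?_, ?_⟩
    · rw [e1, hga, hv.2, map_smul]
    · rw [e1, hgb, act_mul hv.1 hv.1, ← pow_val_add hζ3, map_smul]
  have r : ∀ f : ZMod 3 → ℕ, ∑ i, f i = f 0 + f 1 + f 2 := fun f => Fin.sum_univ_three (fun i : Fin 3 => f i)
  have r0 := hrow 0
  have r1 := hrow 1
  have r2 := hrow 2
  rw [r] at r0 r1 r2
  rw [r] at hsum hdiag
  have hz := h.eig_zero (ζ := ζ) 3 a
  rw [hz] at r0 hsum
  have e1 : D 1 0 ≤ D 0 2 := hDle 1 0
  have e2 : D 0 2 ≤ D 2 0 := hDle 0 2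
  have e3 : D 2 0 ≤ D 0 1 := hDle 2 0
  have e4 : D 0 1 ≤ D 1 0 := hDle 0 1
  have f1 : D 1 1 ≤ D 1 2 := hDle 1 1
  have f2 : D 1 2 ≤ D 2 2 := hDle 1 2
  have f3 : D 2 2 ≤ D 2 1 := hDle 2 2
  have f4 : D 2 1 ≤ D 1 1 := hDle 2 1
  have hdiag' : D 0 0 + D 1 2 + D 2 1 = h.d (a * b) := hdiag
  have h00 : D 0 0 = finrank (AlgebraicClosure F) (_root_.Cfsg.Agent.H637.JW.Fix h.σ a ⊓ _root_.Cfsg.Agent.H637.JW.Fix h.σ b : Submodule _ _) := by
    change finrank (AlgebraicClosure F) ((h.σ a).eigenspace (ζ ^ 0) ⊓ (h.σ b).eigenspace (ζ ^ 0) : Submodule _ _) = _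
    rw [pow_zero]
    rfl
  refine ⟨D 1 0, D 1 1, ?_, ?_, ?_⟩ <;> rw [← h00] <;> omega

/-- **Traces.** -/
theorem sum_tr {N : ℕ} (hN : (N : F) ≠ 0) {x : T} (hx : x ^ N = 1) :
    ∑ k ∈ Finset.range N, ((h.ρ (x ^ k) : Matrix (Fin 10) (Fin 10) F)).trace = N * (h.d x : F) := by
  have hN' : (N : AlgebraicClosure F) ≠ 0 := by
    have := (map_ne_zero (algebraMap F (AlgebraicClosure F))).2 hN
    rwa [map_natCast] at this
  have h1 := sum_trace (σ := h.σ) hN' hx
  apply (algebraMap F (AlgebraicClosure F)).injective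
  rw [map_sum, map_mul, map_natCast, map_natCast]
  refine Eq.trans (Finset.sum_congr rfl fun k _ => ?_) h1
  have h2 : h.σ (x ^ k) = Matrix.toLin' ((h.ρ (x ^ k) : Matrix (Fin 10) (Fin 10) F).map (algebraMap F (AlgebraicClosure F))) := by
    refine LinearMap.ext fun v => ?_
    rw [σ_apply, Matrix.toLin'_apply]
  rw [h2, Matrix.trace_toLin'_eq]
  simp [Matrix.trace]

end OT

end Cfsg.Agent.H908.Ten
end

private theorem dce_aa618b88edf8 : _root_.True := by
  try have : _root_.True := by simp only [_root_.Cfsg.Agent.H908.Ten.OT.d.eq_1]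
  try have : _root_.True := by simp only [_root_.Cfsg.Agent.H908.Ten.OT.B.eq_1]
  exact _root_.True.intro
end

-- part: H908/TenSeven
section
prune_inst 0x405600400414000000000051412000000080000000040000080e00c0401088022890208401810050402288c0060090048100000904040000004000400001c002080805206b248a104240000800000000000000000000000000000000000010004000000000
set_option linter.all false
open scoped Cfsg.Agent.FastGrp

/-!
# `A₇` in `Ω₁₀(q)`: dimensions of the fixed spaces (helper908)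

* `char_seven` : the characteristic is seven;
* `dims` : in characteristic seven, the dimensions of the fixed spaces are those of `Λ²` of the heart, or those of twice
  the heart.
-/

set_option autoImplicit false
set_option linter.unusedSectionVars false

namespace Cfsg.Agent.H908.Ten

open Cfsg Cfsg.Geo Module Equiv Equiv.Perm
open Matrix hiding mul_apply'
open Cfsg.Agent.H637.JW Cfsg.Agent.H637.SevenA7

universe u

/-- the alternating group of degree seven -/
abbrev A7 := alternatingGroup (Fin 7)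

/-- generation -/
def Gen (x y : A7) : Prop := ∀ S : Subgroup A7, x ∈ S → y ∈ S → S = ⊤

theorem three_of {d : A7} (h : ((d : Perm (Fin 7)).support).card = 3) : (d : Perm (Fin 7)).IsThreeCycle :=
  card_support_eq_three_iff.1 h

theorem isConj_of_eq {x y : A7} (g : A7) (h : g * x * g⁻¹ = y) : IsConj x y := isConj_iff.2 ⟨g, h⟩

/-- (2A, 7, 7) -/
def x1 : A7 := _root_.Cfsg.Agent.H637.SevenA7.mk (_root_.Equiv.swap (3 : Fin 7) 4 * _root_.Equiv.swap (5 : Fin 7) 6)
def y1 : A7 := _root_.Cfsg.Agent.H637.SevenA7.mk (_root_.Equiv.swap (0 : Fin 7) 3 * _root_.Equiv.swap (3 : Fin 7) 2 * _root_.Equiv.swap (2 : Fin 7) 5 * _root_.Equiv.swap (5 : Fin 7) 1 * _root_.Equiv.swap (1 : Fin 7) 4 * _root_.Equiv.swap (4 : Fin 7) 6)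
def d1 : A7 := _root_.Cfsg.Agent.H637.SevenA7.mk (_root_.Equiv.swap (1 : Fin 7) 2 * _root_.Equiv.swap (2 : Fin 7) 3 * (_root_.Equiv.swap (4 : Fin 7) 6 * _root_.Equiv.swap (6 : Fin 7) 5))
def e1 : A7 := _root_.Cfsg.Agent.H637.SevenA7.mk (_root_.Equiv.swap (1 : Fin 7) 2 * _root_.Equiv.swap (2 : Fin 7) 6 * (_root_.Equiv.swap (3 : Fin 7) 5 * _root_.Equiv.swap (5 : Fin 7) 4))

theorem gen1 : Gen x1 y1 := fun S hx hy =>
  eq_top_of S y1 (x1 * y1 * x1 * y1 * y1 * y1) hy
    (mul_mem (mul_mem (mul_mem (mul_mem (mul_mem hx hy) hx) hy) hy) hy) (by decide +kernel) (three_of (by decide +kernel))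

/-- (3A, 7, 7) -/
def x2 : A7 := _root_.Cfsg.Agent.H637.SevenA7.mk (_root_.Equiv.swap (4 : Fin 7) 5 * _root_.Equiv.swap (5 : Fin 7) 6)
def y2 : A7 := _root_.Cfsg.Agent.H637.SevenA7.mk (_root_.Equiv.swap (0 : Fin 7) 1 * _root_.Equiv.swap (1 : Fin 7) 2 * _root_.Equiv.swap (2 : Fin 7) 3 * _root_.Equiv.swap (3 : Fin 7) 4 * _root_.Equiv.swap (4 : Fin 7) 5 * _root_.Equiv.swap (5 : Fin 7) 6)
def d2 : A7 := _root_.Cfsg.Agent.H637.SevenA7.mk (_root_.Equiv.swap (1 : Fin 7) 4 * _root_.Equiv.swap (4 : Fin 7) 2 * (_root_.Equiv.swap (3 : Fin 7) 5 * _root_.Equiv.swap (5 : Fin 7) 6))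
def e2 : A7 := _root_.Cfsg.Agent.H637.SevenA7.mk (_root_.Equiv.swap (1 : Fin 7) 5 * _root_.Equiv.swap (5 : Fin 7) 2 * (_root_.Equiv.swap (3 : Fin 7) 4 * _root_.Equiv.swap (4 : Fin 7) 6))

theorem gen2 : Gen x2 y2 := fun S hx hy =>
  eq_top_of S y2 x2 hy hx (by decide +kernel) (three_of (by decide +kernel))

/-- (3B, 7, 7) -/
def x3 : A7 := _root_.Cfsg.Agent.H637.SevenA7.mk (_root_.Equiv.swap (1 : Fin 7) 2 * _root_.Equiv.swap (2 : Fin 7) 3 * (_root_.Equiv.swap (4 : Fin 7) 5 * _root_.Equiv.swap (5 : Fin 7) 6))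
def e3 : A7 := _root_.Cfsg.Agent.H637.SevenA7.mk (_root_.Equiv.swap (1 : Fin 7) 2 * _root_.Equiv.swap (2 : Fin 7) 5 * (_root_.Equiv.swap (3 : Fin 7) 4 * _root_.Equiv.swap (4 : Fin 7) 6))

theorem gen3 : Gen x3 y2 := fun S hx hy =>
  eq_top_of S y2 (x3 * x3 * y2) hy (mul_mem (mul_mem hx hx) hy) (by decide +kernel) (three_of (by decide +kernel))

/-- (3A, 3B, 7) -/
def y4 : A7 := _root_.Cfsg.Agent.H637.SevenA7.mk (_root_.Equiv.swap (0 : Fin 7) 1 * _root_.Equiv.swap (1 : Fin 7) 4 * (_root_.Equiv.swap (2 : Fin 7) 3 * _root_.Equiv.swap (3 : Fin 7) 5))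

theorem gen4 : Gen x2 y4 := fun S hx hy =>
  eq_top_of S (x2 * y4) x2 (mul_mem hx hy) hx (by decide +kernel) (three_of (by decide +kernel))

/-- (3A, 5A, 7) -/
def y5 : A7 := _root_.Cfsg.Agent.H637.SevenA7.mk (_root_.Equiv.swap (0 : Fin 7) 1 * _root_.Equiv.swap (1 : Fin 7) 2 * _root_.Equiv.swap (2 : Fin 7) 3 * _root_.Equiv.swap (3 : Fin 7) 4)
def d5 : A7 := _root_.Cfsg.Agent.H637.SevenA7.mk (_root_.Equiv.swap (1 : Fin 7) 3 * _root_.Equiv.swap (3 : Fin 7) 4 * _root_.Equiv.swap (4 : Fin 7) 2 * _root_.Equiv.swap (5 : Fin 7) 6)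

theorem gen5 : Gen x2 y5 := fun S hx hy =>
  eq_top_of S (x2 * y5) x2 (mul_mem hx hy) hx (by decide +kernel) (three_of (by decide +kernel))

/-- (3B, 3B, 6A) -/
def x6 : A7 := _root_.Cfsg.Agent.H637.SevenA7.mk (_root_.Equiv.swap (0 : Fin 7) 1 * _root_.Equiv.swap (1 : Fin 7) 2 * (_root_.Equiv.swap (3 : Fin 7) 4 * _root_.Equiv.swap (4 : Fin 7) 5))

theorem gen6 : Gen x6 x3 := fun S hx hy =>
  eq_top_of S (x6 * x6 * x3 * x6 * x3 * x3) ((x6 * x3) * (x6 * x3))
    (mul_mem (mul_mem (mul_mem (mul_mem (mul_mem hx hx) hy) hx) hy) hy)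
    (mul_mem (mul_mem hx hy) (mul_mem hx hy)) (by decide +kernel) (three_of (by decide +kernel))

/-- (4A, 4A, 4A) -/
def x7 : A7 := _root_.Cfsg.Agent.H637.SevenA7.mk (_root_.Equiv.swap (1 : Fin 7) 2 * (_root_.Equiv.swap (3 : Fin 7) 4 * _root_.Equiv.swap (4 : Fin 7) 5 * _root_.Equiv.swap (5 : Fin 7) 6))
def y7 : A7 := _root_.Cfsg.Agent.H637.SevenA7.mk (_root_.Equiv.swap (0 : Fin 7) 1 * _root_.Equiv.swap (1 : Fin 7) 2 * _root_.Equiv.swap (2 : Fin 7) 3 * _root_.Equiv.swap (4 : Fin 7) 6)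

theorem gen7 : Gen x7 y7 := fun S hx hy =>
  eq_top_of S (x7 * y7 * y7) ((x7 * x7 * y7 * y7) * (x7 * x7 * y7 * y7))
    (mul_mem (mul_mem hx hy) hy)
    (mul_mem (mul_mem (mul_mem (mul_mem hx hx) hy) hy) (mul_mem (mul_mem (mul_mem hx hx) hy) hy))
    (by decide +kernel) (three_of (by decide +kernel))

/-- an involution inverting `c` and normalising `⟨s, t⟩` -/
def τ : A7 := _root_.Cfsg.Agent.H637.SevenA7.mk (_root_.Equiv.swap (0 : Fin 7) 2 * _root_.Equiv.swap (4 : Fin 7) 5)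
/-- an element of order four with square `t` -/
def r : A7 := s * τ

/-- case B -/
def g1 : A7 := _root_.Cfsg.Agent.H637.SevenA7.mk (_root_.Equiv.swap (0 : Fin 7) 3 * _root_.Equiv.swap (3 : Fin 7) 6 * _root_.Equiv.swap (6 : Fin 7) 2 * _root_.Equiv.swap (2 : Fin 7) 5 * _root_.Equiv.swap (5 : Fin 7) 1 * _root_.Equiv.swap (1 : Fin 7) 4)
def g2 : A7 := _root_.Cfsg.Agent.H637.SevenA7.mk (_root_.Equiv.swap (2 : Fin 7) 6 * _root_.Equiv.swap (6 : Fin 7) 5 * _root_.Equiv.swap (5 : Fin 7) 4 * _root_.Equiv.swap (4 : Fin 7) 3)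
def z2 : A7 := _root_.Cfsg.Agent.H637.SevenA7.mk (_root_.Equiv.swap (0 : Fin 7) 1 * _root_.Equiv.swap (2 : Fin 7) 6)

theorem g1_c : g1⁻¹ * a * g1 = c := by decide +kernel
theorem g1_s : g1⁻¹ * x1 * g1 = s := by decide +kernel
theorem g2_c : g2⁻¹ * b * g2 = c := by decide +kernel
theorem g2_s : g2⁻¹ * z2 * g2 = s := by decide +kernel

theorem genB (S : Subgroup A7) (ha : a ∈ S) (hb : b ∈ S) (hx : x1 ∈ S) (hz : z2 ∈ S) : S = ⊤ :=
  eq_top_of S (z2 * a * x1 * b * z2 * x1) a (mul_mem (mul_mem (mul_mem (mul_mem (mul_mem hz ha) hx) hb) hz) hx) ha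
    (by decide +kernel) (three_of (by decide +kernel))

theorem cj_t : IsConj s t := isConj_of_eq (_root_.Cfsg.Agent.H637.SevenA7.mk ((_root_.Equiv.swap (1 : Fin 7) 2 * _root_.Equiv.swap (2 : Fin 7) 3))) (by decide +kernel)
theorem cj_s_t : IsConj s (s * t) := isConj_of_eq (_root_.Cfsg.Agent.H637.SevenA7.mk ((_root_.Equiv.swap (1 : Fin 7) 3 * _root_.Equiv.swap (3 : Fin 7) 2))) (by decide +kernel)
theorem cj_τ : IsConj s τ := isConj_of_eq (_root_.Cfsg.Agent.H637.SevenA7.mk ((_root_.Equiv.swap (1 : Fin 7) 2 * _root_.Equiv.swap (2 : Fin 7) 4 * _root_.Equiv.swap (4 : Fin 7) 3 * _root_.Equiv.swap (3 : Fin 7) 5))) (by decide +kernel)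
theorem cj_t_τ : IsConj s (t * τ) := isConj_of_eq (_root_.Cfsg.Agent.H637.SevenA7.mk ((_root_.Equiv.swap (0 : Fin 7) 3 * _root_.Equiv.swap (3 : Fin 7) 5 * _root_.Equiv.swap (5 : Fin 7) 2 * _root_.Equiv.swap (2 : Fin 7) 4))) (by decide +kernel)
theorem cj_x1 : IsConj s x1 := isConj_of_eq (_root_.Cfsg.Agent.H637.SevenA7.mk ((_root_.Equiv.swap (0 : Fin 7) 5 * _root_.Equiv.swap (5 : Fin 7) 2 * _root_.Equiv.swap (2 : Fin 7) 4) * _root_.Equiv.swap (1 : Fin 7) 6)) (by decide +kernel)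
theorem cj_c : IsConj a c := isConj_of_eq (_root_.Cfsg.Agent.H637.SevenA7.mk (_root_.Equiv.swap (0 : Fin 7) 4 * (_root_.Equiv.swap (1 : Fin 7) 5 * _root_.Equiv.swap (5 : Fin 7) 2 * _root_.Equiv.swap (2 : Fin 7) 6))) (by decide +kernel)
theorem cj_x2 : IsConj a x2 := isConj_of_eq (_root_.Cfsg.Agent.H637.SevenA7.mk (_root_.Equiv.swap (0 : Fin 7) 4 * (_root_.Equiv.swap (1 : Fin 7) 5 * _root_.Equiv.swap (5 : Fin 7) 2 * _root_.Equiv.swap (2 : Fin 7) 6))) (by decide +kernel)
theorem cj_x3 : IsConj (a * b) x3 := isConj_of_eq (_root_.Cfsg.Agent.H637.SevenA7.mk ((_root_.Equiv.swap (0 : Fin 7) 3 * _root_.Equiv.swap (3 : Fin 7) 6))) (by decide +kernel)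
theorem cj_y4 : IsConj (a * b) y4 := isConj_of_eq (_root_.Cfsg.Agent.H637.SevenA7.mk ((_root_.Equiv.swap (2 : Fin 7) 4 * _root_.Equiv.swap (4 : Fin 7) 3))) (by decide +kernel)
theorem cj_x6 : IsConj (a * b) x6 := isConj_of_eq 1 (by decide +kernel)
theorem cj_x7 : IsConj r x7 := isConj_of_eq (_root_.Cfsg.Agent.H637.SevenA7.mk (_root_.Equiv.swap (0 : Fin 7) 6 * (_root_.Equiv.swap (1 : Fin 7) 5 * _root_.Equiv.swap (5 : Fin 7) 2 * _root_.Equiv.swap (2 : Fin 7) 4))) (by decide +kernel)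
theorem cj_y7 : IsConj r y7 := isConj_of_eq (_root_.Cfsg.Agent.H637.SevenA7.mk (_root_.Equiv.swap (1 : Fin 7) 3 * _root_.Equiv.swap (5 : Fin 7) 6)) (by decide +kernel)
theorem cj_x7_y7 : IsConj r (x7 * y7) := isConj_of_eq (_root_.Cfsg.Agent.H637.SevenA7.mk ((_root_.Equiv.swap (1 : Fin 7) 3 * _root_.Equiv.swap (3 : Fin 7) 2 * _root_.Equiv.swap (2 : Fin 7) 4 * _root_.Equiv.swap (4 : Fin 7) 6))) (by decide +kernel)

theorem s_sq : s * s = 1 := by decide +kernel
theorem t_sq : t * t = 1 := by decide +kernel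
theorem τ_sq : τ * τ = 1 := by decide +kernel
theorem s_t : s * t = t * s := by decide +kernel
theorem a_s' : a⁻¹ * s * a⁻¹⁻¹ = t := by decide +kernel
theorem a_t' : a⁻¹ * t * a⁻¹⁻¹ = s * t := by decide +kernel
theorem c_s' : c * s = s * c := by decide +kernel
theorem c_t' : c * t = t * c := by decide +kernel
theorem c_pow : c ^ 3 = 1 := by decide +kernel
theorem t_τ : t * τ = τ * t := by decide +kernel
theorem τ_s : τ⁻¹ * s * τ = s * t := by decide +kernel
theorem τ_t : τ⁻¹ * t * τ = t := by decide +kernel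
theorem τ_c : τ⁻¹ * c * τ = c * c := by decide +kernel
theorem s_τ : s * τ = τ * (s * t) := by decide +kernel
theorem r_sq : r * r = t := by decide +kernel
theorem cs3 : (c * s) ^ 3 = s := by decide +kernel
theorem cs4 : (c * s) ^ 4 = c := by decide +kernel

/-! ### arithmetic -/

theorem ar1 {f ds p1 : ℕ} (k0' : 10 + 2 * f = 3 * ds) (F1 : ds ≤ 6) (P1 : ds = p1 + p1) :
    (ds = 4 ∧ f = 1) ∨ (ds = 6 ∧ f = 4) := by
  interval_cases ds <;> (clear * - k0'; omega)

theorem ar2 {e x y da dab dc u p2 p3 : ℕ} (E1 : e + 4 * x + 4 * y = 10) (E2 : da = e + 2 * x) (E3 : dab = e + 2 * y)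
    (C1 : dc + 2 * u = 10) (F2 : da + dab ≤ 8) (F3 : 2 * dab ≤ 10) (v : da = dc) (P2 : da = p2 + p2) (P3 : dab = p3 + p3) :
    (da = 4 ∧ dab = 4 ∧ e = 2 ∧ u = 3) ∨ (da = 6 ∧ dab = 2 ∧ e = 2 ∧ u = 2) := by
  have hx : x ≤ 2 := by (clear * - E1; omega)
  have hy : y ≤ 2 := by (clear * - E3 F3; omega)
  interval_cases x <;> interval_cases y <;> (clear * - F2 E3 E1 E2 C1 F3 v P2 P3; omega)

theorem ar3 {f u dc n0 n1 n2 k0 k1 : ℕ} (hf : f = 1 ∨ f = 4) (hu : (dc = 4 ∧ u = 3) ∨ (dc = 6 ∧ u = 2))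
    (K0 : dc + 2 * n0 = 3 * k0) (K1 : u + 2 * n1 = 3 * k1) (hL : n0 + n1 + n2 = f) (m1 : n1 = n2) (b1 : n1 ≤ u)
    (hn : n0 ≠ dc) : (f = 1 ∧ dc = 4 ∧ n1 = 0 ∧ k0 = 2) ∨ (f = 4 ∧ dc = 6 ∧ n1 = 2 ∧ k0 = 2) := by
  subst m1
  have h1 : n1 ≤ 2 := by (clear * - hf hL; omega)
  interval_cases n1 <;> (clear * - hf hu K0 hn K1 hL; (solve | lia | omega))

theorem arith {e x y da dab dc u f ds n0 k0 k1 n1 n2 g g' dr dy p1 p2 p3 p4 : ℕ}
    (E1 : e + 4 * x + 4 * y = 10) (E2 : da = e + 2 * x) (E3 : dab = e + 2 * y) (C1 : dc + 2 * u = 10)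
    (k0' : 10 + 2 * f = 3 * ds) (F1 : ds ≤ 6) (F2 : da + dab ≤ 8) (F3 : 2 * dab ≤ 10) (F4 : da + dy ≤ 8) (F5 : 3 * dr ≤ 10)
    (v : da = dc) (w5 : dy = 2 ∨ dy = 6) (P1 : ds = p1 + p1) (P2 : da = p2 + p2) (P3 : dab = p3 + p3) (P4 : dr = p4 + p4)
    (K0 : dc + 2 * n0 = 3 * k0) (K1 : u + 2 * n1 = 3 * k1) (hL : n0 + n1 + n2 = f) (m1 : n1 ≤ n2) (m2 : n2 ≤ n1)
    (b1 : n1 ≤ u) (D1 : ds + 2 * g = f + g' + dr) (D2 : 10 + 2 * g' = 3 * ds) (D5 : g ≤ f) (D6 : n1 ≤ g)
    (hB : n0 ≠ dc ∨ e = 0) :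
    (ds = 4 ∧ da = 4 ∧ dab = 4 ∧ dr = 2 ∧ dy = 2 ∧ k0 = 2) ∨ (ds = 6 ∧ da = 6 ∧ dab = 2 ∧ dr = 2 ∧ dy = 2 ∧ k0 = 2) := by
  have h1 := ar1 k0' F1 P1
  have h2 := ar2 E1 E2 E3 C1 F2 F3 v P2 P3
  have he : e = 2 := by rcases h2 with h | h <;> exact h.2.2.1
  have h3 := ar3 (f := f) (u := u) (dc := dc) (by rcases h1 with h | h <;> simp [h.2])
    (by rw [← v]; rcases h2 with h | h
        · exact Or.inl ⟨h.1, h.2.2.2⟩
        · exact Or.inr ⟨h.1, h.2.2.2⟩) K0 K1 hL (le_antisymm m1 m2) b1 (by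
      rcases hB with h | h
      · exact h
      · (clear * - E1 h; omega))
  clear E1 E2 E3 K0 K1 hL hB C1 k0' m1 m2
  rcases h3 with ⟨a1, a2, a3, a4⟩ | ⟨a1, a2, a3, a4⟩
  · left
    have b2 : ds = 4 := by (clear * - F1 P4 D1 D2 a1; (solve | lia | omega))
    have b3 : dab = 4 := by omega
    have b4 : g' = 1 := by (clear * - F1 P4 D1 D2 a1; (solve | lia | omega))
    have b5 : dy = 2 := by (clear * - F4 v w5 a2; omega)
    refine ⟨b2, by omega, b3, ?_, b5, a4⟩
    clear h1 h2 w5 P1 P2 P3 F2 F3 F4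
    (clear * - F1 F5 P4 D1 D2 a1; solve | lia | omega)
  · right
    have b2 : ds = 6 := by (clear * - F1 P4 D1 D2 a1; (solve | lia | omega))
    have b3 : dab = 2 := by omega
    have b4 : g' = 4 := by (clear * - F1 P4 D1 D2 a1; (solve | lia | omega))
    have b5 : dy = 2 := by (clear * - F4 v w5 a2; omega)
    refine ⟨b2, by omega, b3, ?_, b5, a4⟩
    clear h1 h2 w5 P1 P2 P3 F2 F3 F4
    (solve | lia | omega)

variable {F : Type u} [Field F]

namespace OT

variable (h : OT F A7)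

/-- the intersection of the fixed spaces of commuting elements of coprime order -/
theorem fix_cs : _root_.Cfsg.Agent.H637.JW.Fix h.σ (c * s) = _root_.Cfsg.Agent.H637.JW.Fix h.σ c ⊓ _root_.Cfsg.Agent.H637.JW.Fix h.σ s := by
  ext v
  rw [Submodule.mem_inf, mem_Fix, mem_Fix, mem_Fix]
  constructor
  · intro hv
    have hp : ∀ k : ℕ, h.σ ((c * s) ^ k) v = v := by
      intro k
      induction k with
      | zero => rw [pow_zero, map_one]; rfl
      | succ k ih => rw [pow_succ', mul_apply', ih, hv]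
    exact ⟨by rw [← cs4]; exact hp 4, by rw [← cs3]; exact hp 3⟩
  · rintro ⟨h1, h2⟩
    rw [mul_apply', h2, h1]

/-- elements of order seven in characteristic seven -/
theorem two_le_d [CharP F 7] {x : A7} (hx : x ^ 7 = 1) : 2 ≤ h.d x := by
  have hF : Fact (Nat.Prime 7) := ⟨by norm_num⟩
  have hK : CharP (AlgebraicClosure F) 7 := charP_of_injective_algebraMap (algebraMap F (AlgebraicClosure F)).injective 7
  have hE : CharP (Module.End (AlgebraicClosure F) (Fin 10 → AlgebraicClosure F)) 7 :=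
    charP_of_injective_algebraMap (FaithfulSMul.algebraMap_injective (AlgebraicClosure F) _) 7
  have h1 : (h.σ x - 1) ^ 7 = 0 := by
    rw [sub_pow_char_of_commute 7 (Commute.one_right (h.σ x)), ← map_pow, hx, map_one, one_pow, sub_self]
  have h2 : h.d x ≠ 0 := by
    intro h0
    have h3 : _root_.Cfsg.Agent.H637.JW.Fix h.σ x = ⊥ := Submodule.finrank_eq_zero.1 h0
    have h4 : Function.Injective (h.σ x - 1 : Module.End (AlgebraicClosure F) (Fin 10 → AlgebraicClosure F)) := by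
      rw [← LinearMap.ker_eq_bot, LinearMap.ker_eq_bot']
      intro v hv
      have : v ∈ _root_.Cfsg.Agent.H637.JW.Fix h.σ x := by
        rw [mem_Fix]
        rw [LinearMap.sub_apply, Module.End.one_apply, sub_eq_zero] at hv
        exact hv
      rwa [h3, Submodule.mem_bot] at this
    have h5 : ∀ k : ℕ, Function.Injective ((h.σ x - 1 : Module.End (AlgebraicClosure F) (Fin 10 → AlgebraicClosure F)) ^ k) := by
      intro k
      induction k with
      | zero => rw [pow_zero]; exact fun _ _ h => h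
      | succ k ih => rw [pow_succ]; exact ih.comp h4
    have h6 := h5 7
    rw [h1] at h6
    have h7 : (Pi.single 0 1 : Fin 10 → AlgebraicClosure F) = 0 := h6 rfl
    have h8 := congrFun h7 0
    simp at h8
  obtain ⟨k, hk⟩ := h.d_even x
  omega

/-- Case B is impossible. -/
theorem caseB (hn : finrank (AlgebraicClosure F) (_root_.Cfsg.Agent.H637.JW.Fix h.σ c ⊓ _root_.Cfsg.Agent.H637.JW.Fix h.σ s ⊓ _root_.Cfsg.Agent.H637.JW.Fix h.σ t : Submodule _ _) = h.d c) :
    finrank (AlgebraicClosure F) (_root_.Cfsg.Agent.H637.JW.Fix h.σ a ⊓ _root_.Cfsg.Agent.H637.JW.Fix h.σ b : Submodule _ _) = 0 := by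
  have h1 : _root_.Cfsg.Agent.H637.JW.Fix h.σ c ⊓ _root_.Cfsg.Agent.H637.JW.Fix h.σ s ⊓ _root_.Cfsg.Agent.H637.JW.Fix h.σ t = _root_.Cfsg.Agent.H637.JW.Fix h.σ c :=
    Submodule.eq_of_le_of_finrank_eq (inf_le_left.trans inf_le_left) hn
  have h2 : ∀ v, h.σ c v = v → h.σ s v = v := by
    intro v hv
    have h3 : v ∈ _root_.Cfsg.Agent.H637.JW.Fix h.σ c ⊓ _root_.Cfsg.Agent.H637.JW.Fix h.σ s ⊓ _root_.Cfsg.Agent.H637.JW.Fix h.σ t := by rw [h1]; exact mem_Fix.2 hv
    exact mem_Fix.1 h3.1.2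
  have key : ∀ (g x z : A7) (v : Fin 10 → AlgebraicClosure F), g⁻¹ * x * g = c → g⁻¹ * z * g = s →
      h.σ x v = v → h.σ z v = v := by
    intro g x z v e1 e2 hv
    have h3 : h.σ c (h.σ g⁻¹ v) = h.σ g⁻¹ v := by
      rw [← e1, ← mul_apply', mul_assoc, mul_inv_cancel, mul_one, mul_apply', hv]
    have h4 := h2 _ h3
    have h5 := congrArg (h.σ g) h4
    rw [← mul_apply', ← mul_apply', ← mul_apply', mul_inv_cancel, map_one, Module.End.one_apply, ← e2] at h5
    have h6 : g * (g⁻¹ * z * g) * g⁻¹ = z := by group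
    rwa [h6] at h5
  rw [Submodule.finrank_eq_zero, eq_bot_iff]
  rintro v ⟨ha, hb⟩
  rw [SetLike.mem_coe, mem_Fix] at ha hb
  rw [Submodule.mem_bot]
  refine h.eq_zero_of_fixed fun g => ?_
  have h3 := genB (stab h.σ v) ha hb (key g1 a x1 v g1_c g1_s ha) (key g2 b z2 v g2_c g2_s hb)
  have h4 : g ∈ stab h.σ v := by rw [h3]; trivial
  exact h4

theorem scott_gen {x y : A7} (hg : Gen x y) : h.d x + h.d y + h.d (x * y) ≤ 10 := by
  refine h.scott fun v hx hy => h.eq_zero_of_fixed fun g => ?_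
  have h1 := hg (stab h.σ v) hx hy
  have h2 : g ∈ stab h.σ v := by rw [h1]; trivial
  exact h2

/-- Klein four group on the whole space -/
theorem klein_top (h2 : (2 : AlgebraicClosure F) ≠ 0) :
    10 + 2 * finrank (AlgebraicClosure F) (_root_.Cfsg.Agent.H637.JW.Fix h.σ s ⊓ _root_.Cfsg.Agent.H637.JW.Fix h.σ t : Submodule _ _) = 3 * h.d s := by
  have h1 := klein3 (σ := h.σ) h2 s_sq t_sq s_t a_s' a_t' (U := ⊤) (fun _ _ => trivial) (fun _ _ => trivial)
    (fun _ _ => trivial)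
  rw [top_inf_eq, finrank_top, Module.finrank_fin_fun] at h1
  exact h1

include h in
/-- **The characteristic is seven.** -/
theorem seven_eq_zero : (7 : F) = 0 := by
  by_contra h7F
  have hc : ∀ n : ℕ, (n : F) ≠ 0 → (n : AlgebraicClosure F) ≠ 0 := by
    intro n hn h0
    apply hn
    apply (algebraMap F (AlgebraicClosure F)).injective
    rw [map_natCast, h0, map_zero]
  have h7 : (7 : AlgebraicClosure F) ≠ 0 := by exact_mod_cast hc 7 (by exact_mod_cast h7F)
  by_cases h2F : (2 : F) = 0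
  · have h3F : (3 : F) ≠ 0 := by
      intro h3
      exact one_ne_zero (α := F) (by linear_combination h3 - h2F)
    have h3 : (3 : AlgebraicClosure F) ≠ 0 := by exact_mod_cast hc 3 (by exact_mod_cast h3F)
    obtain ⟨x, y, e1, e2, e3⟩ := h.dimE h3 a_pow b_pow ab_comm g_a g_b
    have s1 := h.scott_gen gen2
    have s2 := h.scott_gen gen3
    have f1 := h.dim7 h7 (x := y2) (d := H908.Ten.d2) (by decide +kernel) (by decide +kernel) (by decide +kernel)
    have f2 := h.dim7 h7 (x := x2 * y2) (d := H908.Ten.e2) (by decide +kernel) (by decide +kernel) (by decide +kernel)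
    have f3 := h.dim7 h7 (x := x3 * y2) (d := H908.Ten.e3) (by decide +kernel) (by decide +kernel) (by decide +kernel)
    have g1 := h.d_conj cj_x2
    have g2 := h.d_conj cj_x3
    omega
  · have h2 : (2 : AlgebraicClosure F) ≠ 0 := by exact_mod_cast hc 2 (by exact_mod_cast h2F)
    have k := h.klein_top h2
    have s1 := h.scott_gen gen1
    have f1 := h.dim7 h7 (x := y1) (d := H908.Ten.d1) (by decide +kernel) (by decide +kernel) (by decide +kernel)
    have f2 := h.dim7 h7 (x := x1 * y1) (d := H908.Ten.e1) (by decide +kernel) (by decide +kernel) (by decide +kernel)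
    have g1 := h.d_conj cj_x1
    omega

set_option maxHeartbeats 4000000 in
/-- **The dimensions of the fixed spaces** in characteristic seven. -/
theorem dims [CharP F 7] :
    (h.d s = 4 ∧ h.d a = 4 ∧ h.d (a * b) = 4 ∧ h.d r = 2 ∧ h.d y5 = 2 ∧ h.d (c * s) = 2) ∨
    (h.d s = 6 ∧ h.d a = 6 ∧ h.d (a * b) = 2 ∧ h.d r = 2 ∧ h.d y5 = 2 ∧ h.d (c * s) = 2) := by
  have hK : CharP (AlgebraicClosure F) 7 := charP_of_injective_algebraMap (algebraMap F (AlgebraicClosure F)).injective 7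
  have hc : ∀ n : ℕ, ¬ 7 ∣ n → (n : AlgebraicClosure F) ≠ 0 := by
    intro n hn h0
    exact hn ((CharP.cast_eq_zero_iff (AlgebraicClosure F) 7 n).1 h0)
  have h2 : (2 : AlgebraicClosure F) ≠ 0 := by exact_mod_cast hc 2 (by norm_num)
  have h3 : (3 : AlgebraicClosure F) ≠ 0 := by exact_mod_cast hc 3 (by norm_num)
  have h3' : ((3 : ℕ) : AlgebraicClosure F) ≠ 0 := hc 3 (by norm_num)
  have h5 : (5 : AlgebraicClosure F) ≠ 0 := by exact_mod_cast hc 5 (by norm_num)
  obtain ⟨ζ, hζ⟩ := exists_root (K := AlgebraicClosure F) (N := 3) h3'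
  have hζ3 := hζ.pow_eq_one
  -- elements of order three
  obtain ⟨x, y, E1, E2, E3⟩ := h.dimE h3 a_pow b_pow ab_comm g_a g_b
  obtain ⟨C1, C2⟩ := h.dim3 h3 hζ c_pow
  -- Klein four groups
  have k0 := h.klein_top h2
  -- Scott
  have S1 := h.scott_gen gen1
  have S4 := h.scott_gen gen4
  have S5 := h.scott_gen gen5
  have S6 := h.scott_gen gen6
  have S7 := h.scott_gen gen7
  have u1 := h.two_le_d (x := y1) (by decide +kernel)
  have u2 := h.two_le_d (x := x1 * y1) (by decide +kernel)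
  have u4 := h.two_le_d (x := x2 * y4) (by decide +kernel)
  have u5 := h.two_le_d (x := x2 * y5) (by decide +kernel)
  have v1 := h.d_conj cj_x1
  have v2 := h.d_conj cj_x2
  have v3 := h.d_conj cj_x3
  have v4 := h.d_conj cj_y4
  have v6 := h.d_conj cj_x6
  have v7 := h.d_conj cj_x7
  have v8 := h.d_conj cj_y7
  have v9 := h.d_conj cj_x7_y7
  have v10 := h.d_conj cj_c
  have v11 := h.d_conj cj_t
  have v12 := h.d_conj cj_τ
  have v13 := h.d_conj cj_t_τ
  have w5 := h.dim5 h5 (x := y5) (d := H908.Ten.d5) (by decide +kernel) (by decide +kernel) (by decide +kernel)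
  -- parity
  obtain ⟨p1, P1⟩ := h.d_even s
  obtain ⟨p2, P2⟩ := h.d_even a
  obtain ⟨p3, P3⟩ := h.d_even (a * b)
  obtain ⟨p4, P4⟩ := h.d_even r
  -- `c` and the Klein four group
  have inv : ∀ (g k : A7) (i : AlgebraicClosure F), g * k = k * g → ∀ v ∈ (h.σ g).eigenspace i, h.σ k v ∈ (h.σ g).eigenspace i := by
    intro g k i hgk v hv
    rw [Module.End.mem_eigenspace_iff] at hv ⊢
    rw [← mul_apply', hgk, mul_apply', hv, map_smul]
  have hca : c * a⁻¹ = a⁻¹ * c := by decide +kernel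
  have K0 := klein3 (σ := h.σ) h2 s_sq t_sq s_t a_s' a_t' (U := _root_.Cfsg.Agent.H637.JW.Fix h.σ c) (inv c s 1 c_s') (inv c t 1 c_t') (inv c a⁻¹ 1 hca)
  have K1 := klein3 (σ := h.σ) h2 s_sq t_sq s_t a_s' a_t' (U := (h.σ c).eigenspace ζ) (inv c s ζ c_s') (inv c t ζ c_t')
    (inv c a⁻¹ ζ hca)
  have K2 : finrank (AlgebraicClosure F) (_root_.Cfsg.Agent.H637.JW.Fix h.σ c ⊓ _root_.Cfsg.Agent.H637.JW.Fix h.σ s : Submodule _ _) = h.d (c * s) := by
    rw [← h.fix_cs]; rfl
  -- decomposition of the fixed space of the Klein four group under `c`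
  have hL := sum_inf_eigen h3' hζ (A := h.σ c) (by rw [← map_pow, c_pow, map_one]) (U := _root_.Cfsg.Agent.H637.JW.Fix h.σ s ⊓ _root_.Cfsg.Agent.H637.JW.Fix h.σ t) (by
    rintro v ⟨hv1, hv2⟩
    rw [SetLike.mem_coe, mem_Fix] at hv1 hv2
    refine ⟨?_, ?_⟩
    · rw [SetLike.mem_coe, mem_Fix, ← mul_apply', ← c_s', mul_apply', hv1]
    · rw [SetLike.mem_coe, mem_Fix, ← mul_apply', ← c_t', mul_apply', hv2])
  have hL' : finrank (AlgebraicClosure F) ((_root_.Cfsg.Agent.H637.JW.Fix h.σ s ⊓ _root_.Cfsg.Agent.H637.JW.Fix h.σ t) ⊓ (h.σ c).eigenspace (ζ ^ (0 : ZMod 3).val) : Submodule _ _) +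
      finrank (AlgebraicClosure F) ((_root_.Cfsg.Agent.H637.JW.Fix h.σ s ⊓ _root_.Cfsg.Agent.H637.JW.Fix h.σ t) ⊓ (h.σ c).eigenspace (ζ ^ (1 : ZMod 3).val) : Submodule _ _) +
      finrank (AlgebraicClosure F) ((_root_.Cfsg.Agent.H637.JW.Fix h.σ s ⊓ _root_.Cfsg.Agent.H637.JW.Fix h.σ t) ⊓ (h.σ c).eigenspace (ζ ^ (2 : ZMod 3).val) : Submodule _ _) =
      finrank (AlgebraicClosure F) (_root_.Cfsg.Agent.H637.JW.Fix h.σ s ⊓ _root_.Cfsg.Agent.H637.JW.Fix h.σ t : Submodule _ _) := by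
    rw [← hL]
    exact (Fin.sum_univ_three (fun i : Fin 3 => finrank (AlgebraicClosure F)
      ((_root_.Cfsg.Agent.H637.JW.Fix h.σ s ⊓ _root_.Cfsg.Agent.H637.JW.Fix h.σ t) ⊓ (h.σ c).eigenspace (ζ ^ (i : ZMod 3).val) : Submodule _ _))).symm
  have q0 : ((_root_.Cfsg.Agent.H637.JW.Fix h.σ s ⊓ _root_.Cfsg.Agent.H637.JW.Fix h.σ t) ⊓ (h.σ c).eigenspace (ζ ^ (0 : ZMod 3).val) : Submodule (AlgebraicClosure F) _) =
      _root_.Cfsg.Agent.H637.JW.Fix h.σ c ⊓ _root_.Cfsg.Agent.H637.JW.Fix h.σ s ⊓ _root_.Cfsg.Agent.H637.JW.Fix h.σ t := by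
    rw [ZMod.val_zero, pow_zero, inf_comm, inf_assoc]
    rfl
  have q1 : ((_root_.Cfsg.Agent.H637.JW.Fix h.σ s ⊓ _root_.Cfsg.Agent.H637.JW.Fix h.σ t) ⊓ (h.σ c).eigenspace (ζ ^ (1 : ZMod 3).val) : Submodule (AlgebraicClosure F) _) =
      (h.σ c).eigenspace ζ ⊓ _root_.Cfsg.Agent.H637.JW.Fix h.σ s ⊓ _root_.Cfsg.Agent.H637.JW.Fix h.σ t := by
    have : (1 : ZMod 3).val = 1 := rfl
    rw [this, pow_one, inf_comm, inf_assoc]
  have q2 : ((_root_.Cfsg.Agent.H637.JW.Fix h.σ s ⊓ _root_.Cfsg.Agent.H637.JW.Fix h.σ t) ⊓ (h.σ c).eigenspace (ζ ^ (2 : ZMod 3).val) : Submodule (AlgebraicClosure F) _) =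
      (h.σ c).eigenspace (ζ ^ 2) ⊓ _root_.Cfsg.Agent.H637.JW.Fix h.σ s ⊓ _root_.Cfsg.Agent.H637.JW.Fix h.σ t := by
    have : (2 : ZMod 3).val = 2 := rfl
    rw [this, inf_comm, inf_assoc]
  rw [q0, q1, q2] at hL'
  -- the involution `τ` swaps the two eigenspaces
  have hτ : ∀ (ω : AlgebraicClosure F) (v : Fin 10 → AlgebraicClosure F),
      v ∈ (h.σ c).eigenspace ω ⊓ _root_.Cfsg.Agent.H637.JW.Fix h.σ s ⊓ _root_.Cfsg.Agent.H637.JW.Fix h.σ t →
      h.σ τ v ∈ (h.σ c).eigenspace (ω ^ 2) ⊓ _root_.Cfsg.Agent.H637.JW.Fix h.σ s ⊓ _root_.Cfsg.Agent.H637.JW.Fix h.σ t := by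
    rintro ω v ⟨⟨hv1, hv2⟩, hv3⟩
    rw [SetLike.mem_coe, Module.End.mem_eigenspace_iff] at hv1
    rw [SetLike.mem_coe, mem_Fix] at hv2 hv3
    have e1 : ∀ z : A7, h.σ z (h.σ τ v) = h.σ τ (h.σ (τ⁻¹ * z * τ) v) := by
      intro z
      rw [← mul_apply', ← mul_apply']
      (with_reducible congr 2)
      group
    refine ⟨⟨?_, ?_⟩, ?_⟩
    · rw [SetLike.mem_coe, Module.End.mem_eigenspace_iff, e1, τ_c, mul_apply', hv1, map_smul, hv1, smul_smul, map_smul, pow_two]
    · rw [SetLike.mem_coe, mem_Fix, e1, τ_s, mul_apply', hv3, hv2]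
    · rw [SetLike.mem_coe, mem_Fix, e1, τ_t, hv3]
  have m1 : finrank (AlgebraicClosure F) ((h.σ c).eigenspace ζ ⊓ _root_.Cfsg.Agent.H637.JW.Fix h.σ s ⊓ _root_.Cfsg.Agent.H637.JW.Fix h.σ t : Submodule _ _) ≤
      finrank (AlgebraicClosure F) ((h.σ c).eigenspace (ζ ^ 2) ⊓ _root_.Cfsg.Agent.H637.JW.Fix h.σ s ⊓ _root_.Cfsg.Agent.H637.JW.Fix h.σ t : Submodule _ _) :=
    finrank_le_of_map (σ := h.σ) τ (hτ ζ)
  have m2 : finrank (AlgebraicClosure F) ((h.σ c).eigenspace (ζ ^ 2) ⊓ _root_.Cfsg.Agent.H637.JW.Fix h.σ s ⊓ _root_.Cfsg.Agent.H637.JW.Fix h.σ t : Submodule _ _) ≤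
      finrank (AlgebraicClosure F) ((h.σ c).eigenspace ζ ⊓ _root_.Cfsg.Agent.H637.JW.Fix h.σ s ⊓ _root_.Cfsg.Agent.H637.JW.Fix h.σ t : Submodule _ _) := by
    refine finrank_le_of_map (σ := h.σ) τ fun v hv => ?_
    have := hτ _ v hv
    rwa [show (ζ ^ 2) ^ 2 = ζ by rw [← pow_mul]; calc ζ ^ (2 * 2) = ζ ^ 3 * ζ := by ring
        _ = ζ := by rw [hζ3, one_mul]] at this
  -- bounds
  have b1 : finrank (AlgebraicClosure F) ((h.σ c).eigenspace ζ ⊓ _root_.Cfsg.Agent.H637.JW.Fix h.σ s ⊓ _root_.Cfsg.Agent.H637.JW.Fix h.σ t : Submodule _ _) ≤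
      finrank (AlgebraicClosure F) ((h.σ c).eigenspace ζ) := Submodule.finrank_mono (inf_le_left.trans inf_le_left)
  -- dihedral group of order eight
  have D1 := klein (σ := h.σ) h2 (a := s) (b := τ) (U := _root_.Cfsg.Agent.H637.JW.Fix h.σ t)
    (fun v _ => by rw [← mul_apply', s_sq, map_one]; rfl) (fun v _ => by rw [← mul_apply', τ_sq, map_one]; rfl)
    (fun v hv => by
      rw [mem_Fix] at hv
      rw [← mul_apply', s_τ, mul_apply', mul_apply', hv])
    (inv t s 1 s_t.symm) (inv t τ 1 t_τ)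
  have D2 := klein (σ := h.σ) h2 (a := t) (b := τ) (U := ⊤)
    (fun v _ => by rw [← mul_apply', t_sq, map_one]; rfl) (fun v _ => by rw [← mul_apply', τ_sq, map_one]; rfl)
    (fun v _ => by rw [← mul_apply', ← mul_apply', t_τ]) (fun _ _ => trivial) (fun _ _ => trivial)
  rw [top_inf_eq, top_inf_eq, top_inf_eq, finrank_top, Module.finrank_fin_fun] at D2
  have D3 : (_root_.Cfsg.Agent.H637.JW.Fix h.σ t ⊓ _root_.Cfsg.Agent.H637.JW.Fix h.σ (s * τ) : Submodule (AlgebraicClosure F) _) = _root_.Cfsg.Agent.H637.JW.Fix h.σ r := by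
    refine le_antisymm inf_le_right (le_inf (fun v hv => ?_) le_rfl)
    rw [mem_Fix] at hv ⊢
    rw [← r_sq, mul_apply', hv, hv]
  have D4 : (_root_.Cfsg.Agent.H637.JW.Fix h.σ t ⊓ _root_.Cfsg.Agent.H637.JW.Fix h.σ s : Submodule (AlgebraicClosure F) _) = _root_.Cfsg.Agent.H637.JW.Fix h.σ s ⊓ _root_.Cfsg.Agent.H637.JW.Fix h.σ t := inf_comm _ _
  rw [D3, D4] at D1
  have D5 : finrank (AlgebraicClosure F) (_root_.Cfsg.Agent.H637.JW.Fix h.σ s ⊓ _root_.Cfsg.Agent.H637.JW.Fix h.σ t ⊓ _root_.Cfsg.Agent.H637.JW.Fix h.σ τ : Submodule _ _) ≤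
      finrank (AlgebraicClosure F) (_root_.Cfsg.Agent.H637.JW.Fix h.σ s ⊓ _root_.Cfsg.Agent.H637.JW.Fix h.σ t : Submodule _ _) := Submodule.finrank_mono inf_le_left
  have D6 : finrank (AlgebraicClosure F) ((h.σ c).eigenspace ζ ⊓ _root_.Cfsg.Agent.H637.JW.Fix h.σ s ⊓ _root_.Cfsg.Agent.H637.JW.Fix h.σ t : Submodule _ _) ≤
      finrank (AlgebraicClosure F) (_root_.Cfsg.Agent.H637.JW.Fix h.σ s ⊓ _root_.Cfsg.Agent.H637.JW.Fix h.σ t ⊓ _root_.Cfsg.Agent.H637.JW.Fix h.σ τ : Submodule _ _) := by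
    set! W := ((h.σ c).eigenspace ζ ⊓ _root_.Cfsg.Agent.H637.JW.Fix h.σ s ⊓ _root_.Cfsg.Agent.H637.JW.Fix h.σ t : Submodule (AlgebraicClosure F) _) with hW; rewrite [← hW] at b1 m2 m1 q1 hL' K1 ⊢
    have hinj : Function.Injective ((1 + h.σ τ : Module.End (AlgebraicClosure F) (Fin 10 → AlgebraicClosure F)).domRestrict W) := by
      rw [← LinearMap.ker_eq_bot, LinearMap.ker_eq_bot']
      rintro ⟨v, hv⟩ h0
      apply Subtype.ext
      have h1 : v + h.σ τ v = 0 := h0
      have e2 := (hτ ζ v hv).1.1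
      have e1 := hv.1.1
      rw [SetLike.mem_coe, Module.End.mem_eigenspace_iff] at e1 e2
      have e3 : h.σ τ v = -v := (neg_eq_of_add_eq_zero_right h1).symm
      rw [e3, map_neg, e1, smul_neg, neg_inj] at e2
      have e4 : (ζ - ζ ^ 2) • v = 0 := by rw [sub_smul, e2, sub_self]
      have e5 : ζ - ζ ^ 2 ≠ 0 := by
        intro h6
        have h7 : ζ * (1 - ζ) = 0 := by linear_combination h6
        rcases mul_eq_zero.1 h7 with h8 | h8
        · exact hζ.ne_zero (by norm_num) h8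
        · exact hζ.ne_one (by norm_num) (sub_eq_zero.1 h8).symm
      exact (smul_eq_zero.1 e4).resolve_left e5
    have h1 := LinearMap.finrank_range_of_inj hinj
    rw [← h1]
    refine Submodule.finrank_mono ?_
    rintro _ ⟨⟨v, hv⟩, rfl⟩
    have h4 := hτ ζ v hv
    change v + h.σ τ v ∈ _
    refine ⟨⟨?_, ?_⟩, ?_⟩
    · exact Submodule.add_mem _ hv.1.2 h4.1.2
    · exact Submodule.add_mem _ hv.2 h4.2
    · rw [SetLike.mem_coe, mem_Fix, map_add, ← mul_apply', τ_sq, map_one, Module.End.one_apply, add_comm]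
  -- case B
  have hB : finrank (AlgebraicClosure F) (_root_.Cfsg.Agent.H637.JW.Fix h.σ c ⊓ _root_.Cfsg.Agent.H637.JW.Fix h.σ s ⊓ _root_.Cfsg.Agent.H637.JW.Fix h.σ t : Submodule _ _) ≠ h.d c ∨
      finrank (AlgebraicClosure F) (_root_.Cfsg.Agent.H637.JW.Fix h.σ a ⊓ _root_.Cfsg.Agent.H637.JW.Fix h.σ b : Submodule _ _) = 0 := by
    by_cases hn : finrank (AlgebraicClosure F) (_root_.Cfsg.Agent.H637.JW.Fix h.σ c ⊓ _root_.Cfsg.Agent.H637.JW.Fix h.σ s ⊓ _root_.Cfsg.Agent.H637.JW.Fix h.σ t : Submodule _ _) = h.d c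
    · exact Or.inr (h.caseB hn)
    · exact Or.inl hn
  have z1 : finrank (AlgebraicClosure F) (Fix h.σ c) = h.d c := rfl
  have z2 : finrank (AlgebraicClosure F) (Fix h.σ t) = h.d s := v11.symm
  have z3 : finrank (AlgebraicClosure F) (Fix h.σ r) = h.d r := rfl
  have z5 : finrank (AlgebraicClosure F) (Fix h.σ τ) = h.d s := v12.symm
  have z6 : finrank (AlgebraicClosure F) (Fix h.σ (t * τ)) = h.d s := v13.symm
  rw [z1, K2] at K0
  rw [z2, z5, z6] at D2
  rw [z2, z3] at D1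
  have F1 : h.d s ≤ 6 := by clear K0 K1 D1 D2 hL' S4 S5 S6 S7; (clear * - S1 u1 u2 v1; omega)
  have F2 : h.d a + h.d (a * b) ≤ 8 := by clear K0 K1 D1 D2 hL' S1 S5 S6 S7; (clear * - S4 u4 v2 v4; omega)
  have F3 : 2 * h.d (a * b) ≤ 10 := by clear K0 K1 D1 D2 hL' S1 S5 S4 S7; (clear * - S6 v3 v6; omega)
  have F4 : h.d a + h.d y5 ≤ 8 := by clear K0 K1 D1 D2 hL' S1 S4 S6 S7; (clear * - S5 u5 v2; omega)
  have F5 : 3 * h.d r ≤ 10 := by clear K0 K1 D1 D2 hL' S1 S5 S6 S4; omega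
  exact arith E1 E2 E3 C1 k0 F1 F2 F3 F4 F5 v10 w5 P1 P2 P3 P4 K0 K1 hL' m1 m2 b1 D1 (by rw [D2]; ring) D5 D6 hB

end OT

end Cfsg.Agent.H908.Ten
end

-- part: H908/TenQuat
section
prune_inst 0x10000000000000
set_option linter.all false
open scoped Cfsg.Agent.FastGrp

/-!
# No quaternion groups in `Ω₁₀(q)` containing `-1` (helper908)
-/

set_option autoImplicit false
set_option linter.unusedSectionVars false

namespace Cfsg.Agent.H908.Ten

open Cfsg Cfsg.Geo Module
open Matrix hiding mul_apply'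
open Cfsg.Agent.H637.JW

universe u v

theorem even_of_alt {K V : Type*} [Field K] [AddCommGroup V] [Module K V] [FiniteDimensional K V]
    (B : LinearMap.BilinForm K V) (hA : B.IsAlt) (hnd : ∀ u, (∀ v, B u v = 0) → u = 0) : Even (finrank K V) := by
  obtain ⟨m, k, b, h1, h2, h3, h4⟩ := S0752.result B hA
  have hk : k = 0 := by
    by_contra hk
    exact b.ne_zero _ (hnd _ (h4 ⟨0, Nat.pos_of_ne_zero hk⟩))
  subst hk
  rw [Module.finrank_eq_card_basis b, Fintype.card_sum, Fintype.card_sum, Fintype.card_fin, Fintype.card_fin, add_zero]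
  exact ⟨m, rfl⟩

namespace OT

variable {F : Type u} [Field F] {T : Type v} [Group T] (h : OT F T)

include h in
/-- **No quaternion groups containing `-1`.** -/
theorem no_quat (h2 : (2 : F) ≠ 0) {x y : T} (hx : ∀ v, h.σ x (h.σ x v) = -v) (hy : ∀ v, h.σ y (h.σ y v) = -v)
    (hxy : ∀ v, h.σ x (h.σ y v) = -h.σ y (h.σ x v)) : False := by
  have h2' : (2 : AlgebraicClosure F) ≠ 0 := by
    intro h0
    apply h2
    apply (algebraMap F (AlgebraicClosure F)).injective
    rw [map_zero, ← h0]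
    exact map_ofNat _ 2
  obtain ⟨i, hi⟩ : ∃ i : AlgebraicClosure F, i * i = -1 := by
    obtain ⟨i, hi⟩ := IsAlgClosed.exists_pow_nat_eq (-1 : AlgebraicClosure F) (n := 2) (by norm_num)
    exact ⟨i, by rw [← pow_two, hi]⟩
  -- the two eigenspaces
  have hmap : ∀ j : AlgebraicClosure F, finrank (AlgebraicClosure F) ((h.σ x).eigenspace j) ≤
      finrank (AlgebraicClosure F) ((h.σ x).eigenspace (-j)) := by
    intro j
    refine finrank_le_of_map (σ := h.σ) y fun v hv => ?_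
    rw [Module.End.mem_eigenspace_iff] at hv ⊢
    rw [hxy, hv, map_smul, neg_smul]
  have hdim : finrank (AlgebraicClosure F) ((h.σ x).eigenspace i) +
      finrank (AlgebraicClosure F) ((h.σ x).eigenspace (-i)) = 10 := by
    have h3 := two_inf h2' (A := (-i) • h.σ x) (U := ⊤) (fun v _ => by
      rw [LinearMap.smul_apply, LinearMap.smul_apply, map_smul, hx, smul_smul, smul_neg, ← neg_smul, neg_mul_neg, hi,
        neg_neg, one_smul]) (fun _ _ => trivial)
    rw [finrank_top, Module.finrank_fin_fun] at h3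
    have e1 : (⊤ ⊓ ((-i) • h.σ x).eigenspace 1 : Submodule (AlgebraicClosure F) _) = (h.σ x).eigenspace i := by
      ext v
      rw [Submodule.mem_inf, Module.End.mem_eigenspace_iff, Module.End.mem_eigenspace_iff, LinearMap.smul_apply, one_smul]
      constructor
      · rintro ⟨-, hv⟩
        have := congrArg (fun w => i • w) hv
        simp only [smul_smul, mul_neg, hi, neg_neg, one_smul] at this
        exact this
      · intro hv
        refine ⟨trivial, ?_⟩
        rw [hv, smul_smul, neg_mul, hi, neg_neg, one_smul]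
    have e2 : (⊤ ⊓ ((-i) • h.σ x).eigenspace (-1) : Submodule (AlgebraicClosure F) _) = (h.σ x).eigenspace (-i) := by
      ext v
      rw [Submodule.mem_inf, Module.End.mem_eigenspace_iff, Module.End.mem_eigenspace_iff, LinearMap.smul_apply,
        neg_one_smul]
      constructor
      · rintro ⟨-, hv⟩
        have := congrArg (fun w => i • w) hv
        simp only [smul_smul, mul_neg, hi, neg_neg, one_smul, smul_neg] at this
        rw [this, neg_smul]
      · intro hv
        refine ⟨trivial, ?_⟩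
        rw [hv, smul_smul, neg_mul_neg, hi, neg_one_smul]
    rw [e1, e2] at h3
    exact h3
  have h5 : finrank (AlgebraicClosure F) ((h.σ x).eigenspace i) = 5 := by
    have h3 := hmap i
    have h4 := hmap (-i)
    rw [neg_neg] at h4
    omega
  -- the form on the eigenspace
  let C : LinearMap.BilinForm (AlgebraicClosure F) ((h.σ x).eigenspace i) :=
    LinearMap.mk₂ (AlgebraicClosure F) (fun u v => h.B u.1 (h.σ y v.1))
      (fun u u' v => h.B_add_left _ _ _) (fun c u v => h.B_smul_left _ _ _)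
      (fun u v v' => by
        rw [Submodule.coe_add, map_add, h.B_add_right])
      (fun c u v => by
        rw [Submodule.coe_smul, map_smul, h.B_smul_right]
        rfl)
  have hC : ∀ u v, C u v = h.B u.1 (h.σ y v.1) := fun _ _ => rfl
  have hneg : ∀ u v, h.B u (-v) = -h.B u v := by
    intro u v
    rw [← neg_one_smul (AlgebraicClosure F) v, h.B_smul_right, neg_one_mul]
  have halt : C.IsAlt := by
    intro v
    rw [hC]
    have h3 := h.B_inv y v.1 (h.σ y v.1)
    rw [hy, hneg, h.B_comm] at h3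
    have h4 : (2 : AlgebraicClosure F) * h.B v.1 (h.σ y v.1) = 0 := by linear_combination -h3
    exact (mul_eq_zero.1 h4).resolve_left h2'
  have hnd : ∀ u, (∀ v, C u v = 0) → u = 0 := by
    intro u hu
    apply Subtype.ext
    apply h.B_nondeg
    intro w
    rw [h.B_comm]
    -- decompose `w`
    have hux := Module.End.mem_eigenspace_iff.1 u.2
    have hw1 : h.B u.1 (w + (-i) • h.σ x w) = 0 := by
      -- this vector lies in the eigenspace for `i`
      have h6 : h.σ x (w + (-i) • h.σ x w) = i • (w + (-i) • h.σ x w) := by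
        rw [map_add, map_smul, hx, smul_add, smul_smul, mul_neg, hi, neg_neg, one_smul, smul_neg, neg_smul, neg_neg,
          add_comm]
      generalize w + (-i) • h.σ x w = z at h6 ⊢
      have h7 := h.B_inv x u.1 z
      rw [hux, h6, h.B_smul_left, h.B_smul_right, ← mul_assoc, hi] at h7
      have h8 : (2 : AlgebraicClosure F) * h.B u.1 z = 0 := by linear_combination -h7
      exact (mul_eq_zero.1 h8).resolve_left h2'
    have hw2 : h.B u.1 (w - (-i) • h.σ x w) = 0 := by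
      have h6 : h.σ x (w - (-i) • h.σ x w) = (-i) • (w - (-i) • h.σ x w) := by
        rw [map_sub, map_smul, hx, smul_sub, smul_smul, neg_mul_neg, hi]
        module
      generalize w - (-i) • h.σ x w = z at h6 ⊢
      have h7 : -h.σ y z ∈ (h.σ x).eigenspace i := by
        rw [Module.End.mem_eigenspace_iff, map_neg, hxy, h6, map_smul, neg_smul, neg_neg, smul_neg]
      have h8 := hu ⟨_, h7⟩
      rw [hC] at h8
      change h.B u.1 (h.σ y (-h.σ y z)) = 0 at h8
      rwa [map_neg, hy, neg_neg] at h8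
    have h9 : (2 : AlgebraicClosure F) * h.B u.1 w = 0 := by
      rw [h.B_add_right] at hw1
      rw [sub_eq_add_neg, h.B_add_right, hneg] at hw2
      linear_combination hw1 + hw2
    exact (mul_eq_zero.1 h9).resolve_left h2'
  have h6 := even_of_alt C halt hnd
  rw [h5] at h6
  exact absurd h6 (by decide)

end OT

end Cfsg.Agent.H908.Ten
end

-- part: H908/Wedge
section
prune_inst 0x10000000000000
set_option linter.all false
open scoped Cfsg.Agent.FastGrp

/-!
# The second compound matrix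

`wd g` is the matrix of the exterior square of `g`, on the index type `Pr ι` of pairs `i < j`.
-/

set_option autoImplicit false
set_option linter.unusedSectionVars false

namespace Cfsg.Agent.H908.Wd

open Matrix Finset

variable {ι : Type*} [Fintype ι] [LinearOrder ι] {F : Type*} [CommRing F]

/-- pairs `i < j` -/
abbrev Pr (ι : Type*) [LinearOrder ι] := {p : ι × ι // p.1 < p.2}

/-- the second compound of a matrix -/
def wd (g : Matrix ι ι F) : Matrix (Pr ι) (Pr ι) F :=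
  Matrix.of fun p r => g p.1.1 r.1.1 * g p.1.2 r.1.2 - g p.1.1 r.1.2 * g p.1.2 r.1.1

theorem wd_apply (g : Matrix ι ι F) (p r : Pr ι) :
    wd g p r = g p.1.1 r.1.1 * g p.1.2 r.1.2 - g p.1.1 r.1.2 * g p.1.2 r.1.1 := rfl

/-- a sum over all pairs, split into `i < j`, `i > j` and the diagonal -/
theorem sum_pairs {M : Type*} [AddCommMonoid M] (f : ι → ι → M) :
    ∑ i, ∑ j, f i j = (∑ p : Pr ι, (f p.1.1 p.1.2 + f p.1.2 p.1.1)) + ∑ i, f i i := by
  classical
  have h1 : ∑ p : Pr ι, f p.1.1 p.1.2 = ∑ x ∈ (univ : Finset (ι × ι)).filter (fun x => x.1 < x.2), f x.1 x.2 := by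
    rw [Finset.sum_subtype (s := (univ : Finset (ι × ι)).filter (fun x => x.1 < x.2)) (p := fun x => x.1 < x.2)
      (by intro x; simp) (fun x => f x.1 x.2)]
  have h2 : ∑ p : Pr ι, f p.1.2 p.1.1 = ∑ x ∈ (univ : Finset (ι × ι)).filter (fun x => x.2 < x.1), f x.1 x.2 := by
    rw [← Finset.sum_subtype (s := (univ : Finset (ι × ι)).filter (fun x => x.1 < x.2)) (p := fun x => x.1 < x.2)
      (by intro x; simp) (fun x => f x.2 x.1)]
    refine Finset.sum_nbij' (fun x => (x.2, x.1)) (fun x => (x.2, x.1)) ?_ ?_ ?_ ?_ ?_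
    · intro x hx; simpa using hx
    · intro x hx; simpa using hx
    · intro x _; rfl
    · intro x _; rfl
    · intro x _; rfl
  have h3 : ∑ i, f i i = ∑ x ∈ (univ : Finset (ι × ι)).filter (fun x => x.1 = x.2), f x.1 x.2 := by
    refine Finset.sum_nbij' (fun i => (i, i)) (fun x => x.1) ?_ ?_ ?_ ?_ ?_
    · intro i _; simp
    · intro x _; simp
    · intro i _; rfl
    · intro x hx
      have : x.1 = x.2 := by simpa using hx
      exact Prod.ext rfl this
    · intro i _; rfl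
  have h4 : ∑ i, ∑ j, f i j = ∑ x : ι × ι, f x.1 x.2 := (Fintype.sum_prod_type' f).symm
  rw [Finset.sum_add_distrib, h1, h2, h3, h4]
  rw [← Finset.sum_filter_add_sum_filter_not univ (fun x : ι × ι => x.1 < x.2) (fun x => f x.1 x.2), add_assoc]
  congr 1
  rw [← Finset.sum_filter_add_sum_filter_not (univ.filter fun x : ι × ι => ¬ x.1 < x.2) (fun x : ι × ι => x.2 < x.1)
    (fun x => f x.1 x.2)]
  congr 1
  · apply Finset.sum_congr _ (fun _ _ => rfl)
    ext x
    simp only [mem_filter, mem_univ, true_and, not_lt]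
    constructor
    · rintro ⟨_, h⟩; exact h
    · intro h; exact ⟨h.le, h⟩
  · apply Finset.sum_congr _ (fun _ _ => rfl)
    ext x
    simp only [mem_filter, mem_univ, true_and, not_lt]
    constructor
    · rintro ⟨h, h'⟩; exact le_antisymm h' h
    · intro h; exact ⟨h.ge, h.le⟩

theorem wd_mul (a b : Matrix ι ι F) : wd (a * b) = wd a * wd b := by
  ext p r
  rw [wd_apply, Matrix.mul_apply (M := wd a), Matrix.mul_apply, Matrix.mul_apply, Matrix.mul_apply, Matrix.mul_apply]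
  have h1 : (∑ j, a p.1.1 j * b j r.1.1) * (∑ j, a p.1.2 j * b j r.1.2) -
      (∑ j, a p.1.1 j * b j r.1.2) * (∑ j, a p.1.2 j * b j r.1.1) =
      ∑ k, ∑ l, a p.1.1 k * a p.1.2 l * (b k r.1.1 * b l r.1.2 - b k r.1.2 * b l r.1.1) := by
    rw [Finset.sum_mul_sum, Finset.sum_mul_sum, ← Finset.sum_sub_distrib]
    refine Finset.sum_congr rfl fun k _ => ?_
    rw [← Finset.sum_sub_distrib]
    refine Finset.sum_congr rfl fun l _ => ?_
    ring
  rw [h1, sum_pairs]
  have h2 : ∑ i, a p.1.1 i * a p.1.2 i * (b i r.1.1 * b i r.1.2 - b i r.1.2 * b i r.1.1) = 0 :=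
    Finset.sum_eq_zero fun i _ => by ring
  rw [h2, add_zero]
  refine Finset.sum_congr rfl fun x _ => ?_
  rw [wd_apply, wd_apply]
  ring

theorem wd_one : wd (1 : Matrix ι ι F) = 1 := by
  ext p r
  rw [wd_apply]
  obtain ⟨⟨i, j⟩, hij⟩ := p
  obtain ⟨⟨k, l⟩, hkl⟩ := r
  simp only [Matrix.one_apply] at hij hkl ⊢
  by_cases h : i = k ∧ j = l
  · obtain ⟨rfl, rfl⟩ := h
    simp [hij.ne, hij.ne']
  · rw [if_neg (c := (⟨(i, j), hij⟩ : Pr ι) = ⟨(k, l), hkl⟩)]
    · by_cases h1 : i = k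
      · subst h1
        have h2 : j ≠ l := fun h3 => h ⟨rfl, h3⟩
        by_cases h4 : i = l
        · subst h4; exact absurd hkl (lt_irrefl _)
        · simp [h2, h4]
      · by_cases h4 : i = l
        · subst h4
          have h5 : j ≠ k := by
            rintro rfl
            exact absurd hkl (not_lt.2 hij.le)
          simp [h1, h5]
        · simp [h1, h4]
    · intro h1
      apply h
      have h2 := congrArg Subtype.val h1
      exact ⟨congrArg Prod.fst h2, congrArg Prod.snd h2⟩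

theorem wd_transpose (g : Matrix ι ι F) : wd gᵀ = (wd g)ᵀ := by
  ext p r
  change g r.1.1 p.1.1 * g r.1.2 p.1.2 - g r.1.2 p.1.1 * g r.1.1 p.1.2 =
    g r.1.1 p.1.1 * g r.1.2 p.1.2 - g r.1.1 p.1.2 * g r.1.2 p.1.1
  ring

theorem wd_smul (c : F) (g : Matrix ι ι F) : wd (c • g) = c ^ 2 • wd g := by
  ext p r
  change c * g p.1.1 r.1.1 * (c * g p.1.2 r.1.2) - c * g p.1.1 r.1.2 * (c * g p.1.2 r.1.1) =
    c ^ 2 * (g p.1.1 r.1.1 * g p.1.2 r.1.2 - g p.1.1 r.1.2 * g p.1.2 r.1.1)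
  ring

theorem trace_wd (g : Matrix ι ι F) : 2 * (wd g).trace = g.trace ^ 2 - (g * g).trace := by
  have h1 : g.trace ^ 2 - (g * g).trace = ∑ i, ∑ j, (g i i * g j j - g i j * g j i) := by
    rw [Matrix.trace, Matrix.trace, pow_two, Finset.sum_mul_sum, ← Finset.sum_sub_distrib]
    refine Finset.sum_congr rfl fun i _ => ?_
    rw [Matrix.diag_apply, Matrix.diag_apply, Matrix.mul_apply, ← Finset.sum_sub_distrib]
    refine Finset.sum_congr rfl fun j _ => ?_
    simp only [Matrix.diag_apply]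
  rw [h1, sum_pairs, Matrix.trace, Finset.mul_sum]
  have h2 : ∑ i, (g i i * g i i - g i i * g i i) = 0 := Finset.sum_eq_zero fun i _ => by ring
  rw [h2, add_zero]
  refine Finset.sum_congr rfl fun p _ => ?_
  rw [Matrix.diag_apply, wd_apply]
  ring

/-- the second compound as a homomorphism of monoids -/
def wdHom : Matrix ι ι F →* Matrix (Pr ι) (Pr ι) F where
  toFun := wd
  map_one' := wd_one
  map_mul' := wd_mul

/-! ### skew matrices -/

/-- the skew matrix of a vector -/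
def sk (v : Pr ι → F) : Matrix ι ι F :=
  Matrix.of fun i j => if h : i < j then v ⟨(i, j), h⟩ else if h : j < i then - v ⟨(j, i), h⟩ else 0

theorem sk_lt (v : Pr ι → F) {i j : ι} (h : i < j) : sk v i j = v ⟨(i, j), h⟩ := by
  simp [sk, h]

theorem sk_gt (v : Pr ι → F) {i j : ι} (h : j < i) : sk v i j = - v ⟨(j, i), h⟩ := by
  simp [sk, h, h.not_gt]

theorem sk_self (v : Pr ι → F) (i : ι) : sk v i i = 0 := by
  simp [sk]

theorem sk_mulVec (g : Matrix ι ι F) (v : Pr ι → F) : sk (wd g *ᵥ v) = g * sk v * gᵀ := by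
  have key : ∀ i j, (g * sk v * gᵀ) i j =
      ∑ p : Pr ι, (g i p.1.1 * g j p.1.2 - g i p.1.2 * g j p.1.1) * v p := by
    intro i j
    rw [Matrix.mul_apply]
    have h1 : ∑ l, (g * sk v) i l * gᵀ l j = ∑ k, ∑ l, g i k * sk v k l * g j l := by
      rw [Finset.sum_comm]
      refine Finset.sum_congr rfl fun l _ => ?_
      rw [Matrix.mul_apply, Finset.sum_mul]
      refine Finset.sum_congr rfl fun k _ => ?_
      rw [Matrix.transpose_apply]
    rw [h1, sum_pairs]
    have h2 : ∑ k, g i k * sk v k k * g j k = 0 := Finset.sum_eq_zero fun k _ => by rw [sk_self]; ring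
    rw [h2, add_zero]
    refine Finset.sum_congr rfl fun p _ => ?_
    rw [sk_lt v p.2, sk_gt v p.2]
    ring
  ext i j
  rw [key]
  rcases lt_trichotomy i j with h | rfl | h
  · rw [sk_lt _ h]
    rfl
  · rw [sk_self]
    exact (Finset.sum_eq_zero fun p _ => by ring).symm
  · rw [sk_gt _ h, Matrix.mulVec, dotProduct, ← Finset.sum_neg_distrib]
    refine Finset.sum_congr rfl fun p _ => ?_
    rw [wd_apply]
    ring

theorem sk_smul (c : F) (v : Pr ι → F) : sk (c • v) = c • sk v := by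
  ext i j
  rw [Matrix.smul_apply]
  rcases lt_trichotomy i j with h | rfl | h
  · rw [sk_lt _ h, sk_lt _ h]; rfl
  · rw [sk_self, sk_self, smul_zero]
  · rw [sk_gt _ h, sk_gt _ h, smul_neg]; rfl

/-- decomposable vectors -/
def Dec (v : Pr ι → F) : Prop := ∃ a b : ι → F, ∀ i j, sk v i j = a i * b j - b i * a j

theorem Dec.wd {v : Pr ι → F} (h : Dec v) (g : Matrix ι ι F) : Dec (wd g *ᵥ v) := by
  obtain ⟨a, b, h⟩ := h
  refine ⟨g *ᵥ a, g *ᵥ b, fun i j => ?_⟩
  rw [sk_mulVec]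
  have h1 : sk v = Matrix.of fun i j => a i * b j - b i * a j := by
    ext i j; rw [h]; rfl
  rw [h1, Matrix.mul_apply]
  simp only [Matrix.mulVec, dotProduct, Matrix.transpose_apply, Matrix.mul_apply, Matrix.of_apply]
  rw [Finset.sum_mul_sum, Finset.sum_mul_sum, Finset.sum_comm, Finset.sum_comm (γ := ι) (f := fun k l => g i k * b k * (g j l * a l)),
    ← Finset.sum_sub_distrib]
  refine Finset.sum_congr rfl fun l _ => ?_
  rw [← Finset.sum_sub_distrib, Finset.sum_mul]
  refine Finset.sum_congr rfl fun k _ => ?_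
  ring

theorem Dec.smul {v : Pr ι → F} (h : Dec v) (c : F) : Dec (c • v) := by
  obtain ⟨a, b, h⟩ := h
  refine ⟨c • a, b, fun i j => ?_⟩
  rw [sk_smul, Matrix.smul_apply, h]
  simp only [Pi.smul_apply, smul_eq_mul]
  ring

/-- the Plücker relation -/
theorem Dec.pluecker {v : Pr ι → F} (h : Dec v) (i j k l : ι) :
    sk v i j * sk v k l - sk v i k * sk v j l + sk v i l * sk v j k = 0 := by
  obtain ⟨a, b, h⟩ := h
  rw [h, h, h, h, h, h]
  ring

/-- the exterior product of two vectors -/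
def wv (a b : ι → F) : Pr ι → F := fun p => a p.1.1 * b p.1.2 - b p.1.1 * a p.1.2

theorem sk_wv (a b : ι → F) (i j : ι) : sk (wv a b) i j = a i * b j - b i * a j := by
  rcases lt_trichotomy i j with h | rfl | h
  · rw [sk_lt _ h]; rfl
  · rw [sk_self]; ring
  · rw [sk_gt _ h, wv]; ring

theorem sk_add (u v : Pr ι → F) (i j : ι) : sk (u + v) i j = sk u i j + sk v i j := by
  rcases lt_trichotomy i j with h | rfl | h
  · rw [sk_lt _ h, sk_lt _ h, sk_lt _ h]; rfl
  · rw [sk_self, sk_self, sk_self, add_zero]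
  · rw [sk_gt _ h, sk_gt _ h, sk_gt _ h, Pi.add_apply, neg_add]

theorem dec_wv (a b : ι → F) : Dec (wv a b) := ⟨a, b, sk_wv a b⟩

theorem wv_dot (a b c d : ι → F) : wv a b ⬝ᵥ wv c d = (a ⬝ᵥ c) * (b ⬝ᵥ d) - (a ⬝ᵥ d) * (b ⬝ᵥ c) := by
  have h1 : (a ⬝ᵥ c) * (b ⬝ᵥ d) - (a ⬝ᵥ d) * (b ⬝ᵥ c) = ∑ k, ∑ l, a k * b l * (c k * d l - d k * c l) := by
    simp only [dotProduct]
    rw [Finset.sum_mul_sum, Finset.sum_mul_sum, ← Finset.sum_sub_distrib]
    refine Finset.sum_congr rfl fun k _ => ?_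
    rw [← Finset.sum_sub_distrib]
    refine Finset.sum_congr rfl fun l _ => ?_
    ring
  rw [h1, sum_pairs]
  have h2 : ∑ i, a i * b i * (c i * d i - d i * c i) = 0 := Finset.sum_eq_zero fun i _ => by ring
  rw [h2, add_zero, dotProduct]
  refine Finset.sum_congr rfl fun x _ => ?_
  rw [wv, wv]
  ring

theorem wd_wv (g : Matrix ι ι F) (c d : ι → F) : wd g *ᵥ wv c d = wv (g *ᵥ c) (g *ᵥ d) := by
  funext p
  have h := wv_dot (fun j => g p.1.1 j) (fun j => g p.1.2 j) c d
  have h1 : (wd g *ᵥ wv c d) p = wv (fun j => g p.1.1 j) (fun j => g p.1.2 j) ⬝ᵥ wv c d := by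
    rw [Matrix.mulVec, dotProduct, dotProduct]
    refine Finset.sum_congr rfl fun q _ => ?_
    rw [wd_apply, wv, wv]
    ring
  rw [h1, h, wv]
  simp only [Matrix.mulVec]

/-- a matrix whose compound is scalar is scalar -/
theorem scalar_of_wd {F : Type*} [Field F] {g : Matrix ι ι F} {c : F} (hc : c ≠ 0) (h : wd g = c • 1)
    (h3 : 3 ≤ Fintype.card ι) : ∃ d : F, g = d • 1 := by
  classical
  -- two-dimensional coordinate planes are mapped to themselves
  have key : ∀ i j k, i ≠ j → k ≠ i → k ≠ j → g k i = 0 := by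
    intro i j k hij hki hkj
    -- rows `k`, `m` and columns `i`, `j`
    have hm : ∀ m, g k i * g m j - g k j * g m i = 0 := by
      intro m
      rcases lt_trichotomy k m with hkm | rfl | hkm
      · rcases lt_or_gt_of_ne hij with hlt | hlt
        · have h1 := congrFun (congrFun h ⟨(k, m), hkm⟩) ⟨(i, j), hlt⟩
          rw [wd_apply, Matrix.smul_apply, Matrix.one_apply_ne, smul_zero] at h1
          · exact h1
          · intro h2
            exact hki (congrArg (fun x : Pr ι => x.1.1) h2)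
        · have h1 := congrFun (congrFun h ⟨(k, m), hkm⟩) ⟨(j, i), hlt⟩
          rw [wd_apply, Matrix.smul_apply, Matrix.one_apply_ne, smul_zero] at h1
          · linear_combination -h1
          · intro h2
            exact hkj (congrArg (fun x : Pr ι => x.1.1) h2)
      · ring
      · rcases lt_or_gt_of_ne hij with hlt | hlt
        · have h1 := congrFun (congrFun h ⟨(m, k), hkm⟩) ⟨(i, j), hlt⟩
          rw [wd_apply, Matrix.smul_apply, Matrix.one_apply_ne, smul_zero] at h1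
          · linear_combination -h1
          · intro h2
            exact hkj (congrArg (fun x : Pr ι => x.1.2) h2)
        · have h1 := congrFun (congrFun h ⟨(m, k), hkm⟩) ⟨(j, i), hlt⟩
          rw [wd_apply, Matrix.smul_apply, Matrix.one_apply_ne, smul_zero] at h1
          · linear_combination h1
          · intro h2
            exact hki (congrArg (fun x : Pr ι => x.1.2) h2)
    -- the columns `i`, `j` are independent
    have h2 : g i i * g j j - g i j * g j i ≠ 0 := by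
      rcases lt_or_gt_of_ne hij with hlt | hlt
      · have h1 := congrFun (congrFun h ⟨(i, j), hlt⟩) ⟨(i, j), hlt⟩
        rw [wd_apply, Matrix.smul_apply, Matrix.one_apply_eq, smul_eq_mul, mul_one] at h1
        simp only at h1
        rw [h1]; exact hc
      · have h1 := congrFun (congrFun h ⟨(j, i), hlt⟩) ⟨(j, i), hlt⟩
        rw [wd_apply, Matrix.smul_apply, Matrix.one_apply_eq, smul_eq_mul, mul_one] at h1
        simp only at h1
        intro h0
        apply hc
        rw [← h1]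
        linear_combination h0
    have h5 := hm i
    have h6 := hm j
    by_contra h0
    apply h2
    have h7 : g k i * (g i i * g j j - g i j * g j i) = 0 := by
      linear_combination g i i * h6 - g j i * h5
    exact (mul_eq_zero.1 h7).resolve_left h0
  have hoff : ∀ k i, k ≠ i → g k i = 0 := by
    intro k i hki
    obtain ⟨j, hj⟩ : ∃ j, j ∉ ({k, i} : Finset ι) := by
      by_contra hcon
      push Not at hcon
      have h1 := Finset.card_le_card (fun x _ => hcon x : (Finset.univ : Finset ι) ⊆ {k, i})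
      rw [Finset.card_univ] at h1
      have h2 : ({k, i} : Finset ι).card ≤ 2 := Finset.card_le_two
      omega
    rw [Finset.mem_insert, Finset.mem_singleton, not_or] at hj
    exact key i j k (Ne.symm hj.2) hki (Ne.symm hj.1)
  have hdiag : ∀ i j, i ≠ j → g i i * g j j = c := by
    intro i j hij
    rcases lt_or_gt_of_ne hij with hlt | hlt
    · have h1 := congrFun (congrFun h ⟨(i, j), hlt⟩) ⟨(i, j), hlt⟩
      rw [wd_apply, Matrix.smul_apply, Matrix.one_apply_eq, smul_eq_mul, mul_one] at h1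
      simp only at h1
      rw [hoff i j hij, zero_mul, sub_zero] at h1
      exact h1
    · have h1 := congrFun (congrFun h ⟨(j, i), hlt⟩) ⟨(j, i), hlt⟩
      rw [wd_apply, Matrix.smul_apply, Matrix.one_apply_eq, smul_eq_mul, mul_one] at h1
      simp only at h1
      rw [hoff i j hij, mul_zero, sub_zero] at h1
      rw [mul_comm]; exact h1
  have heq : ∀ i j, g i i = g j j := by
    intro i j
    by_cases hij : i = j
    · rw [hij]
    · obtain ⟨k, hk⟩ : ∃ k, k ∉ ({i, j} : Finset ι) := by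
        by_contra hcon
        push Not at hcon
        have h1 := Finset.card_le_card (fun x _ => hcon x : (Finset.univ : Finset ι) ⊆ {i, j})
        rw [Finset.card_univ] at h1
        have h2 : ({i, j} : Finset ι).card ≤ 2 := Finset.card_le_two
        omega
      rw [Finset.mem_insert, Finset.mem_singleton, not_or] at hk
      have h1 := hdiag i k (Ne.symm hk.1)
      have h2 := hdiag j k (Ne.symm hk.2)
      have h3 : g k k ≠ 0 := by
        intro h0
        rw [h0, mul_zero] at h1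
        exact hc h1.symm
      exact mul_right_cancel₀ h3 (h1.trans h2.symm)
  have hne : Nonempty ι := Fintype.card_pos_iff.1 (by omega)
  obtain ⟨i₀⟩ := hne
  refine ⟨g i₀ i₀, ?_⟩
  ext i j
  rw [Matrix.smul_apply, Matrix.one_apply]
  split_ifs with hij
  · subst hij
    rw [smul_eq_mul, mul_one]; exact heq i i₀
  · rw [smul_zero]; exact hoff i j hij

end Cfsg.Agent.H908.Wd

private theorem dce_30ef580cf634 : _root_.True := by
  try have : _root_.True := by simp only [_root_.Cfsg.Agent.H908.Wd.wv.eq_1]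
  try have : _root_.True := by simp only [_root_.Cfsg.Agent.H908.Wd.sk.eq_1]
  exact _root_.True.intro
end

-- part: H908/LamOver
section
prune_inst 0x4010004007100000000000006000000000c000090004008000000084000496000094208011210000010209c0040090000000000004060000004000000001c00000000020081080000400080000000000000000000000000000000000000010000000000000
set_option linter.all false
open scoped Cfsg.Agent.FastGrp

/-!
# The overgroup `Λ²(O₅(q))` in dimension ten

`lam_false`: `H` maximal in `Ω₁₀(Q)` with core `P`, `P` acting as `Λ²` of a representation `ψ` of dimension five whose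
image preserves the form `6·1 - J` and permutes the 42 vectors `± v i`, `v i - v j`, and `H` inducing on `P` only
automorphisms induced by such elements: contradiction.
-/

set_option autoImplicit false
set_option linter.unusedSectionVars false

namespace Cfsg.Agent.H908.Lam

open Cfsg Cfsg.Geo Matrix Cfsg.Agent.H908.Wd Cfsg.Agent.H915.LD Cfsg.Agent.H883.Bridge
open Cfsg.Agent.LieClassical.OrthCore Cfsg.Agent.LieClassical.OrthTrans Cfsg.Agent.LieClassical.OrthFinite
open Cfsg.Agent.H882.Del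

universe u

/-! ### traces determine the span -/

theorem span_of_trace {ι : Type} [Fintype ι] [DecidableEq ι] {F : Type*} [Field F] {G : Type*} [Group G] [Finite G]
    (ρ₁ ρ₂ : G →* Matrix ι ι F) (h₁ : Submodule.span F (Set.range ρ₁) = ⊤) (htr : ∀ g, (ρ₁ g).trace = (ρ₂ g).trace) :
    Submodule.span F (Set.range ρ₂) = ⊤ := by
  classical
  have := Fintype.ofFinite G
  let a₁ : (G → F) →ₗ[F] Matrix ι ι F := Fintype.linearCombination F ρ₁
  let a₂ : (G → F) →ₗ[F] Matrix ι ι F := Fintype.linearCombination F ρ₂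
  have hr₁ : LinearMap.range a₁ = ⊤ := by rw [← h₁]; exact Fintype.range_linearCombination F ρ₁
  have hr₂ : LinearMap.range a₂ = Submodule.span F (Set.range ρ₂) := Fintype.range_linearCombination F ρ₂
  have hk : LinearMap.ker a₂ ≤ LinearMap.ker a₁ := by
    intro x hx
    rw [LinearMap.mem_ker] at hx ⊢
    apply Cfsg.Agent.H906.eq_zero_of_trace_mul h₁
    rintro _ ⟨h, rfl⟩
    have e₁ : a₁ x * ρ₁ h = ∑ g, x g • ρ₁ (g * h) := by
      change (∑ g, x g • ρ₁ g) * ρ₁ h = _
      rw [Finset.sum_mul]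
      exact Finset.sum_congr rfl fun g _ => by rw [smul_mul_assoc, map_mul]
    have e₂ : a₂ x * ρ₂ h = ∑ g, x g • ρ₂ (g * h) := by
      change (∑ g, x g • ρ₂ g) * ρ₂ h = _
      rw [Finset.sum_mul]
      exact Finset.sum_congr rfl fun g _ => by rw [smul_mul_assoc, map_mul]
    have e₃ : (a₁ x * ρ₁ h).trace = (a₂ x * ρ₂ h).trace := by
      rw [e₁, e₂, Matrix.trace_sum, Matrix.trace_sum]
      exact Finset.sum_congr rfl fun g _ => by rw [Matrix.trace_smul, Matrix.trace_smul, htr]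
    rw [e₃, hx, zero_mul, Matrix.trace_zero]
  have h1 := LinearMap.finrank_range_add_finrank_ker a₁
  have h2 := LinearMap.finrank_range_add_finrank_ker a₂
  have h3 := Submodule.finrank_mono hk
  rw [← hr₂]
  apply Submodule.eq_top_of_finrank_eq
  apply le_antisymm (Submodule.finrank_le _)
  have h4 : Module.finrank F (LinearMap.range a₁) = Module.finrank F (Matrix ι ι F) := by rw [hr₁]; exact finrank_top F _
  omega

theorem omegaGL_eq {ι : Type} [Fintype ι] [DecidableEq ι] {F : Type*} [Field F] (Q : (ι → F) → F) :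
    omegaGL Q = ⁅isometryGroup F Q, isometryGroup F Q⁆ := by
  rw [omegaGL]
  exact Subgroup.map_subtype_commutator _

theorem comm_le {G : Type*} [Group G] (K : Subgroup G) : ⁅K, K⁆ ≤ K := by
  rw [Subgroup.commutator_le]
  intro a ha b hb
  exact K.mul_mem (K.mul_mem (K.mul_mem ha hb) (K.inv_mem ha)) (K.inv_mem hb)

theorem mem_isometry {ι : Type} [Fintype ι] [DecidableEq ι] {F : Type*} [Field F] {Q : (ι → F) → F} {g : GL ι F} :
    g ∈ isometryGroup F Q ↔ ∀ v, Q ((g : Matrix ι ι F) *ᵥ v) = Q v :=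
  ⟨fun h v => h v v, fun h v _ => h v⟩

/-! ### the form of dimension five -/

section five

variable {F : Type*} [Field F]

/-- the Gram matrix `6·1 - J` -/
def Sm : Matrix (Fin 5) (Fin 5) F := Matrix.of fun i j => if i = j then 5 else -1

/-- the quadratic form `x ↦ x ⬝ S x` -/
noncomputable def q5 (F : Type*) [Field F] : QuadraticForm F (Fin 5 → F) :=
  (Matrix.toBilin' (Sm : Matrix (Fin 5) (Fin 5) F)).toQuadraticMap

theorem q5_apply (x : Fin 5 → F) : q5 F x = x ⬝ᵥ (Sm *ᵥ x) := by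
  rw [q5, LinearMap.BilinMap.toQuadraticMap_apply, Matrix.toBilin'_apply']

theorem Sm_dot (x y : Fin 5 → F) : x ⬝ᵥ (Sm *ᵥ y) = 6 * (x ⬝ᵥ y) - (∑ i, x i) * ∑ i, y i := by
  have h : (Sm : Matrix (Fin 5) (Fin 5) F) *ᵥ y = fun i => 6 * y i - ∑ j, y j := by
    funext i
    (revert i; simp only [Sm, Matrix.mulVec, dotProduct, Fin.sum_univ_five, _root_.Fin.forall_fin_succ, _root_.Matrix.of_apply, _root_.ite_mul, _root_.neg_mul, _root_.one_mul, Fin.isValue, ↓reduceIte, _root_.zero_ne_one, Fin.reduceEq, _root_.Fin.succ_ne_zero, _root_.Fin.succ_zero_eq_one, _root_.Fin.succ_one_eq_two, Fin.reduceSucc, _root_.IsEmpty.forall_iff, _root_.and_true]) <;> (repeat' with_reducible apply And.intro) <;> ring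
  rw [h]
  generalize ∑ j, y j = c
  rw [dotProduct, dotProduct, Finset.mul_sum, Finset.sum_mul, ← Finset.sum_sub_distrib]
  exact Finset.sum_congr rfl fun i _ => by ring

theorem polar_q5 (x y : Fin 5 → F) : QuadraticMap.polar (q5 F) x y = 2 * (x ⬝ᵥ (Sm *ᵥ y)) := by
  rw [q5, LinearMap.BilinMap.polar_toQuadraticMap, Matrix.toBilin'_apply', Matrix.toBilin'_apply', Sm_dot, Sm_dot,
    dotProduct_comm y x]
  ring

theorem nondeg_q5 (h2 : (2 : F) ≠ 0) (h3 : (3 : F) ≠ 0) : Nondeg (q5 F) := by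
  intro x hx
  have h : ∀ k, 6 * x k - ∑ i, x i = 0 := by
    intro k
    have h1 := hx (Pi.single k 1)
    rw [polar_q5, Sm_dot] at h1
    have h4 : ∑ i, (Pi.single k 1 : Fin 5 → F) i = 1 := by
      rw [Finset.sum_pi_single']
      simp
    rw [h4, dotProduct_single, mul_one, mul_one] at h1
    exact (mul_eq_zero.1 h1).resolve_left h2
  have hs : ∑ i, x i = 0 := by
    have h1 : ∑ k : Fin 5, (6 * x k - ∑ i, x i) = 0 := Finset.sum_eq_zero fun k _ => h k
    rw [Finset.sum_sub_distrib, ← Finset.mul_sum, Finset.sum_const, Finset.card_univ, Fintype.card_fin, nsmul_eq_mul] at h1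
    push_cast at h1
    linear_combination h1
  funext k
  have h1 := h k
  rw [hs, sub_zero] at h1
  have h6 : (6 : F) ≠ 0 := by
    intro h0
    have : (2 : F) * 3 = 0 := by rw [← h0]; norm_num
    rcases mul_eq_zero.1 this with h | h
    · exact h2 h
    · exact h3 h
  exact (mul_eq_zero.1 h1).resolve_left h6

/-- the six vectors with sum zero -/
def v6 (F : Type*) [Field F] (i : Fin 6) : Fin 5 → F := fun j => if (i : ℕ) = 5 then -1 else if (i : ℕ) = j then 1 else 0

theorem v6_castSucc (i : Fin 5) : v6 F i.castSucc = Pi.single i 1 := by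
  funext j
  have h1 : ((i.castSucc : Fin 6) : ℕ) ≠ 5 := by simp; omega
  rw [v6, if_neg h1, Pi.single_apply]
  simp only [Fin.val_castSucc, Fin.ext_iff, eq_comm]

theorem v6_last : v6 F (Fin.last 5) = fun _ => -1 := by
  funext j
  simp [v6]

theorem sys6 : Sys F (v6 F) where
  span := by
    rw [eq_top_iff, ← (Pi.basisFun F (Fin 5)).span_eq, Submodule.span_le]
    rintro _ ⟨i, rfl⟩
    apply Submodule.subset_span
    refine ⟨i.castSucc, ?_⟩
    rw [v6_castSucc, Pi.basisFun_apply]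
  card := by simp
  pos := by simp
  sum := by
    rw [Fin.sum_univ_castSucc]
    simp only [v6_castSucc, v6_last]
    funext j
    rw [Pi.add_apply, Finset.sum_apply, Pi.zero_apply]
    simp [Pi.single_apply]

theorem gr6 : Gr (q5 F) (v6 F) (-2) := by
  intro i j hij
  rw [polar_q5, Sm_dot]
  have hsum : ∀ i : Fin 5, ∑ k, (Pi.single i 1 : Fin 5 → F) k = 1 := by
    intro i
    rw [Finset.sum_pi_single']
    simp
  have hcon : ∑ _k : Fin 5, (-1 : F) = -5 := by
    rw [Finset.sum_const, Finset.card_univ, Fintype.card_fin, nsmul_eq_mul]; push_cast; ring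
  induction i using Fin.lastCases with
  | last =>
    induction j using Fin.lastCases with
    | last => exact absurd rfl hij
    | cast j =>
      rw [v6_castSucc, v6_last, hsum, dotProduct_single, mul_one, hcon]
      ring
  | cast i =>
    induction j using Fin.lastCases with
    | last =>
      rw [v6_castSucc, v6_last, hsum, single_dotProduct, one_mul, hcon]
      ring
    | cast j =>
      have h1 : i ≠ j := fun h => hij (by rw [h])
      rw [v6_castSucc, v6_castSucc, hsum, hsum, dotProduct_single, mul_one, Pi.single_eq_of_ne (Ne.symm h1)]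
      ring

/-- the stabiliser of the 42 vectors in the isometry group, as matrices -/
noncomputable def R6 (F : Type*) [Field F] : Subgroup (GL (Fin 5) F) :=
  (stabR (q5 F) (v6 F)).comap (Cfsg.Agent.LieClassical.OrthFinite.glEquiv (Fin 5) F).toMonoidHom

end five

/-! ### the exterior square of dimension ten -/

section ten

variable {F : Type u} [Field F]

/-- ten pairs -/
noncomputable def e10 : Pr (Fin 5) ≃ Fin 10 := Fintype.equivFinOfCardEq (by decide)

/-- the exterior square, as matrices of size ten -/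
noncomputable def WM : Matrix (Fin 5) (Fin 5) F →* Matrix (Fin 10) (Fin 10) F :=
  ((Matrix.reindexAlgEquiv F F e10 : Matrix (Pr (Fin 5)) (Pr (Fin 5)) F →* Matrix (Fin 10) (Fin 10) F)).comp wdHom

theorem WM_apply (g : Matrix (Fin 5) (Fin 5) F) : WM g = Matrix.reindex e10 e10 (wd g) := rfl

theorem WM_trace (g : Matrix (Fin 5) (Fin 5) F) : (WM g).trace = (wd g).trace := by
  rw [WM_apply, Matrix.trace, Matrix.trace, ← Equiv.sum_comp e10]
  refine Finset.sum_congr rfl fun p _ => ?_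
  simp [Matrix.diag_apply, Matrix.reindex_apply, Matrix.submatrix_apply]

theorem WM_transpose (g : Matrix (Fin 5) (Fin 5) F) : (WM g)ᵀ = WM gᵀ := by
  rw [WM_apply, WM_apply, wd_transpose, Matrix.transpose_reindex]

theorem WM_mulVec (g : Matrix (Fin 5) (Fin 5) F) (v : Fin 10 → F) : (WM g *ᵥ v) ∘ e10 = wd g *ᵥ (v ∘ e10) := by
  funext p
  rw [WM_apply, Function.comp_apply, Matrix.mulVec, Matrix.mulVec, dotProduct, dotProduct, ← Equiv.sum_comp e10]
  refine Finset.sum_congr rfl fun q _ => ?_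
  simp [Matrix.reindex_apply, Matrix.submatrix_apply]

theorem WM_smul (c : F) (g : Matrix (Fin 5) (Fin 5) F) : WM (c • g) = c ^ 2 • WM g := by
  rw [WM_apply, WM_apply, wd_smul]
  rfl

theorem scalar_of_WM {g : Matrix (Fin 5) (Fin 5) F} {c : F} (hc : c ≠ 0) (h : WM g = c • 1) : ∃ d : F, g = d • 1 := by
  apply scalar_of_wd hc _ (by simp)
  ext p q
  have h1 := congrFun (congrFun h (e10 p)) (e10 q)
  rw [WM_apply, Matrix.reindex_apply, Matrix.submatrix_apply, Equiv.symm_apply_apply, Equiv.symm_apply_apply,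
    Matrix.smul_apply, Matrix.one_apply] at h1
  rw [h1, Matrix.smul_apply, Matrix.one_apply]
  simp only [EmbeddingLike.apply_eq_iff_eq]

/-- the exterior square on `GL₅` -/
noncomputable def WG (B : GL (Fin 10) F) : GL (Fin 5) F →* GL (Fin 10) F :=
  (MulAut.conj B).toMonoidHom.comp (Units.map WM)

theorem WG_coe (B : GL (Fin 10) F) (g : GL (Fin 5) F) : ((WG B g : GL (Fin 10) F) : Matrix (Fin 10) (Fin 10) F) =
    (B : Matrix (Fin 10) (Fin 10) F) * WM (g : Matrix (Fin 5) (Fin 5) F) * ((B⁻¹ : GL (Fin 10) F) : Matrix (Fin 10) (Fin 10) F) :=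
  rfl

/-- the invariant form -/
noncomputable def T10 (B : GL (Fin 10) F) : Matrix (Fin 10) (Fin 10) F :=
  ((B⁻¹ : GL (Fin 10) F) : Matrix (Fin 10) (Fin 10) F)ᵀ * WM Sm * ((B⁻¹ : GL (Fin 10) F) : Matrix (Fin 10) (Fin 10) F)

theorem T10_inv (B : GL (Fin 10) F) {g : GL (Fin 5) F} (hg : (g : Matrix (Fin 5) (Fin 5) F)ᵀ * Sm * (g : Matrix (Fin 5) (Fin 5) F) = Sm) :
    ((WG B g : GL (Fin 10) F) : Matrix (Fin 10) (Fin 10) F)ᵀ * T10 B * ((WG B g : GL (Fin 10) F) : Matrix (Fin 10) (Fin 10) F) = T10 B := by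
  have h1 : (WM (g : Matrix (Fin 5) (Fin 5) F))ᵀ * WM Sm * WM (g : Matrix (Fin 5) (Fin 5) F) = WM Sm := by
    rw [WM_transpose, ← map_mul, ← map_mul, hg]
  have h2 : ((B⁻¹ : GL (Fin 10) F) : Matrix (Fin 10) (Fin 10) F) * (B : Matrix (Fin 10) (Fin 10) F) = 1 := by
    rw [← Units.val_mul, inv_mul_cancel, Units.val_one]
  have h3 : (B : Matrix (Fin 10) (Fin 10) F)ᵀ * ((B⁻¹ : GL (Fin 10) F) : Matrix (Fin 10) (Fin 10) F)ᵀ = 1 := by
    rw [← Matrix.transpose_mul, h2, Matrix.transpose_one]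
  rw [WG_coe, T10, Matrix.transpose_mul, Matrix.transpose_mul]
  generalize (B : Matrix (Fin 10) (Fin 10) F) = b at *
  generalize ((B⁻¹ : GL (Fin 10) F) : Matrix (Fin 10) (Fin 10) F) = c at *
  generalize WM (g : Matrix (Fin 5) (Fin 5) F) = w at *
  calc cᵀ * (wᵀ * bᵀ) * (cᵀ * WM Sm * c) * (b * w * c)
      = cᵀ * (wᵀ * ((bᵀ * cᵀ) * (WM Sm * ((c * b) * (w * c))))) := by simp only [Matrix.mul_assoc]
    _ = cᵀ * (wᵀ * WM Sm * w) * c := by rw [h3, h2, Matrix.one_mul, Matrix.one_mul]; simp only [Matrix.mul_assoc]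
    _ = cᵀ * WM Sm * c := by rw [h1]

/-- isometries of `q5` in terms of the Gram matrix -/
theorem mem_iso5 (h2 : (2 : F) ≠ 0) {g : GL (Fin 5) F} (h : g ∈ isometryGroup F (q5 F)) :
    (g : Matrix (Fin 5) (Fin 5) F)ᵀ * Sm * (g : Matrix (Fin 5) (Fin 5) F) = Sm := by
  have h1 : ∀ x y : Fin 5 → F, ((g : Matrix (Fin 5) (Fin 5) F) *ᵥ x) ⬝ᵥ (Sm *ᵥ ((g : Matrix (Fin 5) (Fin 5) F) *ᵥ y)) =
      x ⬝ᵥ (Sm *ᵥ y) := by
    intro x y
    have h3 : QuadraticMap.polar (q5 F) ((g : Matrix (Fin 5) (Fin 5) F) *ᵥ x) ((g : Matrix (Fin 5) (Fin 5) F) *ᵥ y) =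
        QuadraticMap.polar (q5 F) x y := by
      unfold QuadraticMap.polar
      rw [← Matrix.mulVec_add, mem_isometry.1 h, mem_isometry.1 h, mem_isometry.1 h]
    rw [polar_q5, polar_q5] at h3
    exact mul_left_cancel₀ h2 h3
  ext i j
  have h3 := h1 (Pi.single i 1) (Pi.single j 1)
  rw [Matrix.mulVec_mulVec, Matrix.dotProduct_mulVec, Matrix.vecMul_mulVec] at h3
  simpa [Matrix.mulVec_single_one, Matrix.mul_assoc] using h3

/-- decomposable vectors -/
def D10 (B : GL (Fin 10) F) (v : Fin 10 → F) : Prop :=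
  Dec ((((B⁻¹ : GL (Fin 10) F) : Matrix (Fin 10) (Fin 10) F) *ᵥ v) ∘ e10)

theorem D10_WG (B : GL (Fin 10) F) (g : GL (Fin 5) F) {v : Fin 10 → F} (h : D10 B v) :
    D10 B ((WG B g : Matrix (Fin 10) (Fin 10) F) *ᵥ v) := by
  have h2 : ((B⁻¹ : GL (Fin 10) F) : Matrix (Fin 10) (Fin 10) F) * (B : Matrix (Fin 10) (Fin 10) F) = 1 := by
    rw [← Units.val_mul, inv_mul_cancel, Units.val_one]
  unfold D10
  rw [WG_coe, Matrix.mulVec_mulVec, ← Matrix.mul_assoc, ← Matrix.mul_assoc, h2, Matrix.one_mul, ← Matrix.mulVec_mulVec,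
    WM_mulVec]
  exact h.wd _

theorem D10_smul (B : GL (Fin 10) F) (c : F) {v : Fin 10 → F} (h : D10 B v) : D10 B (c • v) := by
  unfold D10
  rw [Matrix.mulVec_smul]
  exact Dec.smul h c

/-- the stabiliser of the set of decomposable vectors -/
def stD (B : GL (Fin 10) F) : Subgroup (GL (Fin 10) F) where
  carrier := {h | ∀ v, D10 B v ↔ D10 B ((h : Matrix (Fin 10) (Fin 10) F) *ᵥ v)}
  one_mem' := fun v => by rw [Units.val_one, Matrix.one_mulVec]
  mul_mem' {a b} ha hb := fun v => by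
    rw [Units.val_mul, ← Matrix.mulVec_mulVec]
    exact (hb v).trans (ha _)
  inv_mem' {a} ha := fun v => by
    have h := ha ((a⁻¹ : GL (Fin 10) F) *ᵥ v : Fin 10 → F)
    rw [Matrix.mulVec_mulVec, ← Units.val_mul, mul_inv_cancel, Units.val_one, Matrix.one_mulVec] at h
    exact h.symm

theorem mem_stD (B : GL (Fin 10) F) {h : GL (Fin 10) F} {g : GL (Fin 5) F} {c : F} (hc : c ≠ 0)
    (hh : (h : Matrix (Fin 10) (Fin 10) F) = c • (WG B g : Matrix (Fin 10) (Fin 10) F)) : h ∈ stD B := by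
  intro v
  constructor
  · intro hv
    rw [hh, Matrix.smul_mulVec]
    exact D10_smul B c (D10_WG B g hv)
  · intro hv
    have h1 : v = c⁻¹ • ((WG B g⁻¹ : Matrix (Fin 10) (Fin 10) F) *ᵥ ((h : Matrix (Fin 10) (Fin 10) F) *ᵥ v)) := by
      rw [hh, Matrix.smul_mulVec, Matrix.mulVec_smul, smul_smul, inv_mul_cancel₀ hc, one_smul, Matrix.mulVec_mulVec,
        ← Units.val_mul, ← map_mul, inv_mul_cancel, map_one, Units.val_one, Matrix.one_mulVec]
    rw [h1]
    exact D10_smul B _ (D10_WG B _ hv)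

/-! ### vectors -/

theorem wd_norm (a b c d : Fin 5 → F) : wv a b ⬝ᵥ (wd Sm *ᵥ wv c d) =
    (a ⬝ᵥ (Sm *ᵥ c)) * (b ⬝ᵥ (Sm *ᵥ d)) - (a ⬝ᵥ (Sm *ᵥ d)) * (b ⬝ᵥ (Sm *ᵥ c)) := by
  rw [wd_wv, wv_dot]

theorem Sm_single (i j : Fin 5) (x y : F) : (Pi.single i x : Fin 5 → F) ⬝ᵥ (Sm *ᵥ Pi.single j y) =
    if i = j then 5 * x * y else -(x * y) := by
  rw [single_dotProduct, Matrix.mulVec_single]
  by_cases h : i = j
  · simp [Sm, h]; ring
  · simp [Sm, h]

/-- a decomposable and an indecomposable vector of the same norm -/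
theorem exists_vectors (h2 : (2 : F) ≠ 0) (h3 : (3 : F) ≠ 0) : ∃ d n : Pr (Fin 5) → F, d ≠ 0 ∧ n ≠ 0 ∧ Dec d ∧ ¬ Dec n ∧
    d ⬝ᵥ (wd Sm *ᵥ d) = n ⬝ᵥ (wd Sm *ᵥ n) := by
  -- the indecomposable vectors
  have key : ∀ x y : F, x * y ≠ 0 → ¬ Dec (wv (Pi.single 0 1) (Pi.single 1 x) + wv (Pi.single 2 1) (Pi.single 3 y) :
      Pr (Fin 5) → F) := by
    intro x y hxy hd
    have h := hd.pluecker 0 1 2 3
    simp only [sk_add, sk_wv] at h
    apply hxy
    simpa [Pi.single_apply] using h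
  have nrm : ∀ x y : F, (wv (Pi.single 0 1) (Pi.single 1 x) + wv (Pi.single 2 1) (Pi.single 3 y) : Pr (Fin 5) → F) ⬝ᵥ
      (wd Sm *ᵥ (wv (Pi.single 0 1) (Pi.single 1 x) + wv (Pi.single 2 1) (Pi.single 3 y))) = 24 * (x ^ 2 + y ^ 2) := by
    intro x y
    rw [Matrix.mulVec_add, add_dotProduct, dotProduct_add, dotProduct_add, wd_norm, wd_norm, wd_norm, wd_norm]
    simp only [Sm_single]
    simp only [↓ _root_.reduceIte, _root_.mul_one, _root_.Fin.isValue, _root_.zero_ne_one, _root_.one_mul, _root_.one_ne_zero, _root_.mul_neg, _root_.neg_mul, _root_.neg_neg, _root_.Fin.reduceEq]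
    ring
  have nz : ∀ v : Pr (Fin 5) → F, ∀ i j : Fin 5, sk v i j ≠ 0 → v ≠ 0 := by
    intro v i j h h0
    apply h
    rw [h0]
    rcases lt_trichotomy i j with h | rfl | h
    · rw [sk_lt _ h]; rfl
    · rw [sk_self]
    · rw [sk_gt _ h]; exact neg_zero
  by_cases h5 : (5 : F) = 0
  · refine ⟨wv (Pi.single 0 1) (Pi.single 1 1 + Pi.single 2 (-1)), _, ?_, ?_, dec_wv _ _, key 1 2 (by rwa [one_mul]), ?_⟩
    · apply nz _ 0 1
      rw [sk_wv]
      simp
    · apply nz _ 0 1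
      rw [sk_add, sk_wv, sk_wv]
      simp
    · rw [nrm, wd_norm]
      simp only [Matrix.mulVec_add, dotProduct_add, add_dotProduct, Sm_single]
      simp only [↓ _root_.reduceIte, _root_.mul_one, _root_.Fin.isValue, _root_.Fin.reduceEq, _root_.neg_neg, _root_.mul_neg, _root_.zero_ne_one, _root_.neg_add_cancel, _root_.one_ne_zero, _root_.MulZeroClass.mul_zero, _root_.sub_zero, _root_.one_pow]
      linear_combination (-12 : F) * h5
  · have h34 : (3 : F) * 4 ≠ 0 := by
      intro h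
      have h' : (3 : F) * (2 * 2) = 0 := by rw [← h]; norm_num
      rcases mul_eq_zero.1 h' with h | h
      · exact h3 h
      · exact h2 (mul_self_eq_zero.1 h)
    refine ⟨wv (Pi.single 0 1) (Pi.single 1 5), _, ?_, ?_, dec_wv _ _, key 3 4 h34, ?_⟩
    · apply nz _ 0 1
      rw [sk_wv]
      simpa [Pi.single_apply] using h5
    · apply nz _ 0 1
      rw [sk_add, sk_wv, sk_wv]
      simpa [Pi.single_apply] using h3
    · rw [nrm, wd_norm]
      simp only [Sm_single]
      simp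
      norm_num

/-! ### the main theorem -/

/-- the Gram matrix of a quadratic form -/
noncomputable def gram {n : ℕ} (Q : QuadraticForm F (Fin n → F)) : Matrix (Fin n) (Fin n) F :=
  LinearMap.BilinForm.toMatrix' (QuadraticMap.polarBilin Q)

theorem gram_dot {n : ℕ} (Q : QuadraticForm F (Fin n → F)) (u v : Fin n → F) :
    u ⬝ᵥ (gram Q *ᵥ v) = QuadraticMap.polar Q u v := by
  rw [← Matrix.toBilin'_apply', gram, Matrix.toBilin'_toMatrix']
  rfl

theorem matrix_ext {n : ℕ} {A B : Matrix (Fin n) (Fin n) F} (h : ∀ u v : Fin n → F, u ⬝ᵥ (A *ᵥ v) = u ⬝ᵥ (B *ᵥ v)) :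
    A = B := by
  ext i j
  have h1 := h (Pi.single i 1) (Pi.single j 1)
  simpa only [Matrix.mulVec_single_one, _root_.Matrix.mulVec_single, _root_.MulOpposite.op_one, _root_.one_smul, _root_.single_dotProduct, _root_.Matrix.col_apply, _root_.one_mul] using h1

theorem gram_inv {n : ℕ} {Q : QuadraticForm F (Fin n → F)} {g : GL (Fin n) F} (h : g ∈ isometryGroup F (Q : (Fin n → F) → F)) :
    (g : Matrix (Fin n) (Fin n) F)ᵀ * gram Q * (g : Matrix (Fin n) (Fin n) F) = gram Q := by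
  apply matrix_ext
  intro u v
  have h1 : u ⬝ᵥ (((g : Matrix (Fin n) (Fin n) F)ᵀ * gram Q * (g : Matrix (Fin n) (Fin n) F)) *ᵥ v) =
      ((g : Matrix (Fin n) (Fin n) F) *ᵥ u) ⬝ᵥ (gram Q *ᵥ ((g : Matrix (Fin n) (Fin n) F) *ᵥ v)) := by
    rw [← Matrix.mulVec_mulVec, ← Matrix.mulVec_mulVec, Matrix.dotProduct_mulVec, Matrix.vecMul_transpose]
  rw [h1, gram_dot, gram_dot]
  unfold QuadraticMap.polar
  rw [← Matrix.mulVec_add, mem_isometry.1 h, mem_isometry.1 h, mem_isometry.1 h]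

theorem iso_of_gram {n : ℕ} (h2 : (2 : F) ≠ 0) {Q : QuadraticForm F (Fin n → F)} {g : GL (Fin n) F}
    (h : (g : Matrix (Fin n) (Fin n) F)ᵀ * gram Q * (g : Matrix (Fin n) (Fin n) F) = gram Q) :
    g ∈ isometryGroup F (Q : (Fin n → F) → F) := by
  rw [mem_isometry]
  intro v
  have h1 : ((g : Matrix (Fin n) (Fin n) F) *ᵥ v) ⬝ᵥ (gram Q *ᵥ ((g : Matrix (Fin n) (Fin n) F) *ᵥ v)) = v ⬝ᵥ (gram Q *ᵥ v) := by
    conv_rhs => rw [← h]
    rw [← Matrix.mulVec_mulVec, ← Matrix.mulVec_mulVec, Matrix.dotProduct_mulVec v, Matrix.vecMul_transpose]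
  rw [gram_dot, gram_dot, QuadraticMap.polar_self, QuadraticMap.polar_self, nsmul_eq_mul, nsmul_eq_mul,
    Nat.cast_ofNat] at h1
  exact mul_left_cancel₀ h2 h1

theorem WM_Sm_ne (h2 : (2 : F) ≠ 0) (h3 : (3 : F) ≠ 0) : (WM Sm : Matrix (Fin 10) (Fin 10) F) ≠ 0 := by
  intro h
  have h1 : (Sm : Matrix (Fin 5) (Fin 5) F) * (1 + Matrix.of fun _ _ => 1) = (6 : F) • 1 := by
    ext i j
    rw [Matrix.mul_apply]
    (revert i j; simp only [Sm, Fin.sum_univ_five, Matrix.one_apply, _root_.Fin.forall_fin_succ, _root_.Matrix.of_apply, _root_.Matrix.add_apply, _root_.ite_mul, _root_.neg_mul, _root_.one_mul, _root_.neg_add_rev, Fin.isValue, _root_.Matrix.smul_apply, _root_.smul_eq_mul, _root_.mul_ite, _root_.mul_one, _root_.MulZeroClass.mul_zero, ↓reduceIte, _root_.one_ne_zero, _root_.zero_add, _root_.neg_zero, _root_.add_zero, Fin.reduceEq, _root_.Fin.succ_zero_eq_one, _root_.zero_ne_one, _root_.Fin.succ_one_eq_two, Fin.reduceSucc, _root_.IsEmpty.forall_iff,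 _root_.and_true, _root_.Fin.succ_ne_zero]) <;> (repeat' with_reducible apply And.intro) <;> norm_num
  have h4 : WM ((6 : F) • (1 : Matrix (Fin 5) (Fin 5) F)) = 0 := by rw [← h1, map_mul, h, zero_mul]
  rw [WM_smul, map_one] at h4
  have h5 := congrFun (congrFun h4 0) 0
  rw [Matrix.smul_apply, Matrix.one_apply_eq, Matrix.zero_apply, smul_eq_mul, mul_one] at h5
  have h6 : (2 : F) * 3 = 0 := by
    have := (sq_eq_zero_iff (a := (6 : F))).1 h5
    rw [← this]; norm_num
  rcases mul_eq_zero.1 h6 with h | h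
  · exact h2 h
  · exact h3 h

theorem mem_R6 {g : GL (Fin 5) F} : g ∈ R6 F ↔
    Cfsg.Agent.LieClassical.OrthFinite.glEquiv (Fin 5) F g ∈ stabR (q5 F) (v6 F) := Iff.rfl

theorem R6_iso {g : GL (Fin 5) F} (h : g ∈ R6 F) : g ∈ isometryGroup F (q5 F : (Fin 5 → F) → F) :=
  mem_isometry.2 fun v => (mem_R6.1 h).1 v

/-- an element of the isometry group that is a multiple of an element of `R6` lies in `R6` -/
theorem R6_of_smul {g r : GL (Fin 5) F} (h2 : (2 : F) ≠ 0)
    (hg : g ∈ isometryGroup F (q5 F : (Fin 5 → F) → F)) (hr : r ∈ R6 F) {d : F}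
    (h : (g : Matrix (Fin 5) (Fin 5) F) = d • (r : Matrix (Fin 5) (Fin 5) F)) : g ∈ R6 F := by
  have hd : d = 1 ∨ d = -1 := by
    -- compare the values of the form
    obtain ⟨x, hx⟩ : ∃ x : Fin 5 → F, q5 F x ≠ 0 := by
      by_contra hcon
      push Not at hcon
      have h4 : QuadraticMap.polar (q5 F) (Pi.single 0 1) (Pi.single 1 1) = -2 := by
        rw [polar_q5, Sm_single, if_neg (by decide)]; ring
      unfold QuadraticMap.polar at h4
      rw [hcon, hcon, hcon] at h4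
      apply h2
      linear_combination h4
    have h5 := mem_isometry.1 hg x
    rw [h, Matrix.smul_mulVec, QuadraticMap.map_smul, mem_isometry.1 (R6_iso hr), smul_eq_mul] at h5
    have h6 : (d * d - 1) * q5 F x = 0 := by linear_combination h5
    have h7 := (mul_eq_zero.1 h6).resolve_right hx
    exact mul_self_eq_one_iff.1 (by linear_combination h7)
  rw [mem_R6]
  have hgv : ∀ v, Cfsg.Agent.LieClassical.OrthFinite.glEquiv (Fin 5) F g v =
      d • Cfsg.Agent.LieClassical.OrthFinite.glEquiv (Fin 5) F r v := by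
    intro v
    rw [Cfsg.Agent.LieClassical.OrthFinite.glEquiv_apply, Cfsg.Agent.LieClassical.OrthFinite.glEquiv_apply, h,
      Matrix.smul_mulVec]
  refine ⟨fun v => mem_isometry.1 hg v, fun x => ?_⟩
  rw [hgv, (mem_R6.1 hr).2 x]
  constructor
  · intro hx
    exact rts_smul hx hd
  · intro hx
    have h5 := rts_smul hx hd
    rw [smul_smul] at h5
    have h6 : d * d = 1 := by rcases hd with rfl | rfl <;> norm_num
    rwa [h6, one_smul] at h5

/-- **The overgroup `Λ²(O₅)`.** -/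
theorem lam_false [Finite F] (h2 : (2 : F) ≠ 0) (h3 : (3 : F) ≠ 0) {Q : (Fin 10 → F) → F}
    (hQ : IsNondegenerateQuadraticForm Q) {H P : Subgroup (GL (Fin 10) F)} (hH : IsMaximalIn (omegaGL Q) H)
    (hc : IsResidualCore H P) (ψ : P →* GL (Fin 5) F)
    (htr : ∀ x : P, 2 * tr (x : GL (Fin 10) F) = tr (ψ x) ^ 2 - tr (ψ x * ψ x)) (hψ : ∀ x, ψ x ∈ R6 F)
    (hH6 : ∀ h ∈ H, ∃ r ∈ R6 F, ∀ x y : P, (y : GL (Fin 10) F) = h * x * h⁻¹ → ψ y = r * ψ x * r⁻¹) : False := by
  classical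
  have hC := core_of_residual hc
  have hfinG : Finite (GL (Fin 10) F) := inferInstance
  -- `P` is conjugate to the exterior square of `ψ`
  obtain ⟨B, hB⟩ : ∃ B : GL (Fin 10) F, ∀ x : P, (x : GL (Fin 10) F) = WG B (ψ x) := by
    let ρ₁ : P →* Matrix (Fin 10) (Fin 10) F := (Units.coeHom _).comp P.subtype
    let ρ₂ : P →* Matrix (Fin 10) (Fin 10) F := (WM (F := F)).comp ((Units.coeHom _).comp ψ)
    have htr' : ∀ x, (ρ₁ x).trace = (ρ₂ x).trace := by
      intro x
      have h4 : (ρ₂ x).trace = (wd ((ψ x : GL (Fin 5) F) : Matrix (Fin 5) (Fin 5) F)).trace := WM_trace _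
      rw [h4]
      apply mul_left_cancel₀ h2
      rw [trace_wd]
      exact htr x
    have h₁ : Submodule.span F (Set.range ρ₁) = ⊤ := Cfsg.Agent.H906.span_subtype hC.absIrred
    obtain ⟨B, hB⟩ := Cfsg.Agent.H906.exists_conj_of_trace ρ₂ ρ₁ (span_of_trace ρ₁ ρ₂ h₁ htr') h₁ (fun x => (htr' x).symm)
    exact ⟨B, fun x => Units.ext (hB x)⟩
  obtain ⟨Q', rfl, hnd⟩ := exists_quadraticForm hQ
  have hG : Good Q' := good_of_card hnd (by simp)
  have hHle : H ≤ omegaGL (Q' : (Fin 10 → F) → F) := hH.1.le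
  have hOI : omegaGL (Q' : (Fin 10 → F) → F) ≤ isometryGroup F (Q' : (Fin 10 → F) → F) := by
    rw [omegaGL_eq]
    exact comm_le _
  have hPI : ∀ x ∈ P, x ∈ isometryGroup F (Q' : (Fin 10 → F) → F) := fun x hx => hOI (hHle (hc.le hx))
  -- the forms
  have hmap : ∀ g : GL (Fin 10) F, (g : Matrix (Fin 10) (Fin 10) F).map (RingEquiv.refl F) = (g : Matrix (Fin 10) (Fin 10) F) := by
    intro g; ext i j; rfl
  have hNinv : ∀ g ∈ P, ((g : Matrix (Fin 10) (Fin 10) F))ᵀ * gram Q' * (g : Matrix (Fin 10) (Fin 10) F).map (RingEquiv.refl F) =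
      gram Q' := fun g hg => by rw [hmap]; exact gram_inv (hPI g hg)
  have hTinv : ∀ g ∈ P, ((g : Matrix (Fin 10) (Fin 10) F))ᵀ * T10 B * (g : Matrix (Fin 10) (Fin 10) F).map (RingEquiv.refl F) =
      T10 B := by
    intro g hg
    rw [hmap]
    have h4 := hB ⟨g, hg⟩
    rw [show g = WG B (ψ ⟨g, hg⟩) from h4]
    exact T10_inv B (mem_iso5 h2 (R6_iso (hψ _)))
  have hN0 : gram Q' ≠ 0 := by
    intro h0
    obtain ⟨x, hx⟩ : ∃ x : Fin 10 → F, x ≠ 0 := ⟨Pi.single 0 1, by simp⟩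
    apply hx
    apply hnd
    intro y
    rw [← gram_dot, h0, Matrix.zero_mulVec, dotProduct_zero]
  have hNu := Cfsg.Agent.H906.isUnit_of_invariant hC.absIrred.1 (RingEquiv.refl F) hN0 hNinv
  obtain ⟨c, hcT⟩ := Cfsg.Agent.H906.exists_smul_of_invariant hC.absIrred (RingEquiv.refl F) hNu hNinv hTinv
  have hBi : (B : Matrix (Fin 10) (Fin 10) F) * ((B⁻¹ : GL (Fin 10) F) : Matrix (Fin 10) (Fin 10) F) = 1 := by
    rw [← Units.val_mul, mul_inv_cancel, Units.val_one]
  have hBi' : ((B⁻¹ : GL (Fin 10) F) : Matrix (Fin 10) (Fin 10) F) * (B : Matrix (Fin 10) (Fin 10) F) = 1 := by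
    rw [← Units.val_mul, inv_mul_cancel, Units.val_one]
  have hBit : (B : Matrix (Fin 10) (Fin 10) F)ᵀ * ((B⁻¹ : GL (Fin 10) F) : Matrix (Fin 10) (Fin 10) F)ᵀ = 1 := by
    rw [← Matrix.transpose_mul, hBi', Matrix.transpose_one]
  have hTB : (B : Matrix (Fin 10) (Fin 10) F)ᵀ * T10 B * (B : Matrix (Fin 10) (Fin 10) F) = WM Sm := by
    rw [T10]
    calc (B : Matrix (Fin 10) (Fin 10) F)ᵀ * (((B⁻¹ : GL (Fin 10) F) : Matrix (Fin 10) (Fin 10) F)ᵀ * WM Sm *
          ((B⁻¹ : GL (Fin 10) F) : Matrix (Fin 10) (Fin 10) F)) * (B : Matrix (Fin 10) (Fin 10) F)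
        = ((B : Matrix (Fin 10) (Fin 10) F)ᵀ * ((B⁻¹ : GL (Fin 10) F) : Matrix (Fin 10) (Fin 10) F)ᵀ) * WM Sm *
          (((B⁻¹ : GL (Fin 10) F) : Matrix (Fin 10) (Fin 10) F) * (B : Matrix (Fin 10) (Fin 10) F)) := by
          simp only [Matrix.mul_assoc]
      _ = WM Sm := by rw [hBit, hBi', Matrix.one_mul, Matrix.mul_one]
  have hc0 : c ≠ 0 := by
    rintro rfl
    rw [zero_smul] at hcT
    rw [hcT, Matrix.mul_zero, Matrix.zero_mul] at hTB
    exact WM_Sm_ne h2 h3 hTB.symm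
  -- isometries of dimension five give isometries of dimension ten
  have hiso : ∀ g ∈ isometryGroup F (q5 F : (Fin 5 → F) → F), WG B g ∈ isometryGroup F (Q' : (Fin 10 → F) → F) := by
    intro g hg
    apply iso_of_gram h2
    have h4 := T10_inv B (mem_iso5 h2 hg)
    rw [hcT, Matrix.mul_smul, Matrix.smul_mul] at h4
    exact smul_right_injective _ hc0 h4
  have homega : ∀ g ∈ omegaGL (q5 F : (Fin 5 → F) → F), WG B g ∈ omegaGL (Q' : (Fin 10 → F) → F) := by
    have h4 : (omegaGL (q5 F : (Fin 5 → F) → F)).map (WG B) ≤ omegaGL (Q' : (Fin 10 → F) → F) := by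
      rw [omegaGL_eq, omegaGL_eq, Subgroup.map_commutator]
      have h5 : (isometryGroup F (q5 F : (Fin 5 → F) → F)).map (WG B) ≤ isometryGroup F (Q' : (Fin 10 → F) → F) := by
        rintro _ ⟨g, hg, rfl⟩
        exact hiso g hg
      exact Subgroup.commutator_mono h5 h5
    exact fun g hg => h4 ⟨g, hg, rfl⟩
  -- elements of `H`, and more generally elements acting on `P` as elements of `R6`
  have hact : ∀ h : GL (Fin 10) F, (∃ r ∈ R6 F, ∀ x y : P, (y : GL (Fin 10) F) = h * x * h⁻¹ → ψ y = r * ψ x * r⁻¹) →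
      (∀ x ∈ P, h * x * h⁻¹ ∈ P) → ∃ r ∈ R6 F, ∃ c : F, c ≠ 0 ∧
        (h : Matrix (Fin 10) (Fin 10) F) = c • (WG B r : Matrix (Fin 10) (Fin 10) F) := by
    rintro h ⟨r, hr, hxy⟩ hn
    refine ⟨r, hr, ?_⟩
    have hcomm : ∀ x ∈ P, ((WG B r)⁻¹ * h) * x = x * ((WG B r)⁻¹ * h) := by
      intro x hx
      have h4 := hxy ⟨x, hx⟩ ⟨h * x * h⁻¹, hn x hx⟩ rfl
      have h5 := hB ⟨h * x * h⁻¹, hn x hx⟩
      rw [h4, map_mul, map_mul, map_inv, ← hB ⟨x, hx⟩] at h5
      change h * x * h⁻¹ = WG B r * x * (WG B r)⁻¹ at h5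
      calc ((WG B r)⁻¹ * h) * x = (WG B r)⁻¹ * (h * x * h⁻¹) * h := by group
        _ = x * ((WG B r)⁻¹ * h) := by rw [h5]; group
    obtain ⟨c', hc'⟩ := hC.absIrred.2 (((WG B r)⁻¹ * h : GL (Fin 10) F) : Matrix (Fin 10) (Fin 10) F) (by
      rintro _ ⟨x, hx, rfl⟩
      rw [← Units.val_mul, ← Units.val_mul, hcomm x hx])
    have h6 : (h : Matrix (Fin 10) (Fin 10) F) = c' • (WG B r : Matrix (Fin 10) (Fin 10) F) := by
      have h7 : (h : Matrix (Fin 10) (Fin 10) F) = (WG B r : Matrix (Fin 10) (Fin 10) F) *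
          (((WG B r)⁻¹ * h : GL (Fin 10) F) : Matrix (Fin 10) (Fin 10) F) := by
        rw [← Units.val_mul, mul_inv_cancel_left]
      rw [h7, hc', Matrix.mul_smul, Matrix.mul_one]
    refine ⟨c', ?_, h6⟩
    rintro rfl
    rw [zero_smul] at h6
    exact h.ne_zero h6
  have hHL : H ≤ stD B ⊓ omegaGL (Q' : (Fin 10 → F) → F) := by
    intro h hh
    refine ⟨?_, hHle hh⟩
    obtain ⟨r, _, c', hc', h4⟩ := hact h (hH6 h hh) (hc.normal h hh)
    exact mem_stD B hc' h4
  rcases hH.2 _ hHL inf_le_right with hM | hM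
  · -- `M = H`
    have hle : E (q5 F) ≤ stabR (q5 F) (v6 F) := by
      have hG5 : Good (q5 F) := good_of_card (nondeg_q5 h2 h3) (by simp)
      rw [← map_omegaGL_eq_E hG5]
      rintro _ ⟨g, hg, rfl⟩
      change g ∈ R6 F
      have hgI : g ∈ isometryGroup F (q5 F : (Fin 5 → F) → F) := by
        rw [omegaGL_eq] at hg
        exact comm_le _ hg
      have hgH : WG B g ∈ H := by
        rw [← hM]
        exact ⟨mem_stD B one_ne_zero (one_smul _ _).symm, homega g hg⟩
      obtain ⟨r, hr, c', hc', h4⟩ := hact _ (hH6 _ hgH) (hc.normal _ hgH)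
      have h5 : ((WG B (r⁻¹ * g) : GL (Fin 10) F) : Matrix (Fin 10) (Fin 10) F) = c' • 1 := by
        rw [map_mul, map_inv, Units.val_mul, h4, Matrix.mul_smul, ← Units.val_mul, inv_mul_cancel, Units.val_one]
      rw [WG_coe] at h5
      have h6 : WM ((r⁻¹ * g : GL (Fin 5) F) : Matrix (Fin 5) (Fin 5) F) = c' • 1 := by
        calc WM ((r⁻¹ * g : GL (Fin 5) F) : Matrix (Fin 5) (Fin 5) F) =
            ((B⁻¹ : GL (Fin 10) F) : Matrix (Fin 10) (Fin 10) F) * ((B : Matrix (Fin 10) (Fin 10) F) *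
              WM ((r⁻¹ * g : GL (Fin 5) F) : Matrix (Fin 5) (Fin 5) F) *
              ((B⁻¹ : GL (Fin 10) F) : Matrix (Fin 10) (Fin 10) F)) * (B : Matrix (Fin 10) (Fin 10) F) := by
              rw [← Matrix.mul_assoc, ← Matrix.mul_assoc, hBi', Matrix.one_mul, Matrix.mul_assoc, hBi', Matrix.mul_one]
          _ = c' • 1 := by rw [h5, Matrix.mul_smul, Matrix.mul_one, Matrix.smul_mul, hBi']
      obtain ⟨d, hd⟩ := scalar_of_WM hc' h6
      refine R6_of_smul h2 hgI hr (d := d) ?_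
      have h7 : (g : Matrix (Fin 5) (Fin 5) F) = (r : Matrix (Fin 5) (Fin 5) F) *
          ((r⁻¹ * g : GL (Fin 5) F) : Matrix (Fin 5) (Fin 5) F) := by
        rw [← Units.val_mul, mul_inv_cancel_left]
      rw [h7, hd, Matrix.mul_smul, Matrix.mul_one]
    exact not_E_le_stabR sys6 h2 (good_of_card (nondeg_q5 h2 h3) (by simp)) h3 (by simp) hle
  · -- `M = Ω`
    obtain ⟨d, n, hd0, hn0, hd, hn, hdn⟩ := exists_vectors (F := F) h2 h3
    -- transfer to dimension ten
    have hval : ∀ v : Pr (Fin 5) → F, 2 * c * Q' ((B : Matrix (Fin 10) (Fin 10) F) *ᵥ (v ∘ e10.symm)) =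
        v ⬝ᵥ (wd Sm *ᵥ v) := by
      intro v
      have h4 : (v ∘ e10.symm) ⬝ᵥ ((WM Sm : Matrix (Fin 10) (Fin 10) F) *ᵥ (v ∘ e10.symm)) = v ⬝ᵥ (wd Sm *ᵥ v) := by
        have h5 : (WM Sm : Matrix (Fin 10) (Fin 10) F) *ᵥ (v ∘ e10.symm) = (wd Sm *ᵥ v) ∘ e10.symm := by
          have h6 := WM_mulVec (Sm : Matrix (Fin 5) (Fin 5) F) (v ∘ e10.symm)
          have h7 : (v ∘ e10.symm) ∘ e10 = v := by funext p; simp
          rw [h7] at h6
          rw [← h6]
          funext i; simp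
        rw [h5, dotProduct, dotProduct, ← Equiv.sum_comp e10]
        simp only [_root_.Function.comp_apply, _root_.Equiv.symm_apply_apply]
      rw [← h4, ← hTB, hcT]
      have h8 : (v ∘ e10.symm) ⬝ᵥ (((B : Matrix (Fin 10) (Fin 10) F)ᵀ * (c • gram Q') * (B : Matrix (Fin 10) (Fin 10) F)) *ᵥ
          (v ∘ e10.symm)) = c * (((B : Matrix (Fin 10) (Fin 10) F) *ᵥ (v ∘ e10.symm)) ⬝ᵥ
            (gram Q' *ᵥ ((B : Matrix (Fin 10) (Fin 10) F) *ᵥ (v ∘ e10.symm)))) := by
        rw [Matrix.mul_smul, Matrix.smul_mul, Matrix.smul_mulVec, dotProduct_smul, smul_eq_mul, ← Matrix.mulVec_mulVec,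
          ← Matrix.mulVec_mulVec, Matrix.dotProduct_mulVec (v ∘ e10.symm), Matrix.vecMul_transpose]
      rw [h8, gram_dot, QuadraticMap.polar_self, nsmul_eq_mul, Nat.cast_ofNat]
      ring
    have hne : ∀ v : Pr (Fin 5) → F, v ≠ 0 → (B : Matrix (Fin 10) (Fin 10) F) *ᵥ (v ∘ e10.symm) ≠ 0 := by
      intro v hv h0
      apply hv
      have h4 : v ∘ e10.symm = 0 := by
        have h5 : ((B⁻¹ : GL (Fin 10) F) : Matrix (Fin 10) (Fin 10) F) *ᵥ ((B : Matrix (Fin 10) (Fin 10) F) *ᵥ (v ∘ e10.symm)) = 0 := by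
          rw [h0, Matrix.mulVec_zero]
        rwa [Matrix.mulVec_mulVec, hBi', Matrix.one_mulVec] at h5
      funext p
      have h6 := congrFun h4 (e10 p)
      simpa using h6
    have hDv : ∀ v : Pr (Fin 5) → F, D10 B ((B : Matrix (Fin 10) (Fin 10) F) *ᵥ (v ∘ e10.symm)) ↔ Dec v := by
      intro v
      unfold D10
      rw [Matrix.mulVec_mulVec, hBi', Matrix.one_mulVec]
      have h7 : (v ∘ e10.symm) ∘ e10 = v := by funext p; simp
      rw [h7]
    have hval2 : Q' ((B : Matrix (Fin 10) (Fin 10) F) *ᵥ (d ∘ e10.symm)) = Q' ((B : Matrix (Fin 10) (Fin 10) F) *ᵥ (n ∘ e10.symm)) := by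
      apply mul_left_cancel₀ (mul_ne_zero h2 hc0)
      rw [hval, hval, hdn]
    obtain ⟨g, hg, hgv⟩ := hG.trans_norm (hne d hd0) (hne n hn0) hval2
    rw [← map_omegaGL_eq_E hG] at hg
    obtain ⟨g, hg, rfl⟩ := hg
    have hgL : g ∈ stD B := (hM.ge.trans inf_le_left : omegaGL (Q' : (Fin 10 → F) → F) ≤ stD B) hg
    apply hn
    rw [← hDv, ← hgv]
    exact (hgL _).1 ((hDv d).2 hd)

end ten

end Cfsg.Agent.H908.Lam

private theorem dce_bdb865d04a73 : _root_.True := by
  try have : _root_.True := by simp only [_root_.Cfsg.Agent.H908.Lam.Sm.eq_1]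
  try have : _root_.True := by simp only [_root_.Cfsg.Agent.H908.Lam.v6.eq_1]
  try have : _root_.True := by simp only [_root_.Cfsg.Agent.H908.Lam.T10.eq_1]
  try have : _root_.True := by simp only [_root_.Cfsg.Agent.H908.Lam.q5.eq_1]
  try have : _root_.True := by simp only [_root_.Cfsg.Agent.H908.Lam.gram.eq_1]
  exact _root_.True.intro
end

-- part: H908/LamPerm
section
prune_inst 0x10000000000000
set_option linter.all false
open scoped Cfsg.Agent.FastGrp

/-!
# The symmetric groups of degree six and seven in `R6`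

* `ψ6 F : Perm (Fin 6) →* GL (Fin 5) F` : the action on the six vectors with sum zero;
* `ψ7 h7 : Perm (Fin 7) →* GL (Fin 5) F` : in characteristic seven, the heart of the permutation module.
-/

set_option autoImplicit false
set_option linter.unusedSectionVars false

namespace Cfsg.Agent.H908.Lam

open Cfsg Cfsg.Geo Matrix
open Cfsg.Agent.LieClassical.OrthCore Cfsg.Agent.LieClassical.OrthTrans Cfsg.Agent.LieClassical.OrthFinite
open Cfsg.Agent.H882.Del

variable {F : Type*} [Field F]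

/-- the number of fixed points, in `F` -/
def fx (F : Type*) [Field F] {n : ℕ} (σ : Equiv.Perm (Fin n)) : F := ∑ a, if σ a = a then 1 else 0

theorem fx_conj {n : ℕ} (τ σ : Equiv.Perm (Fin n)) : fx F (τ * σ * τ⁻¹) = fx F σ := by
  unfold fx
  rw [← Equiv.sum_comp τ]
  refine Finset.sum_congr rfl fun a _ => ?_
  have h1 : (τ * σ * τ⁻¹) (τ a) = τ (σ a) := by
    change τ (σ (τ.symm (τ a))) = _
    rw [Equiv.symm_apply_apply]
  simp only [h1, EmbeddingLike.apply_eq_iff_eq]

theorem fx_succ {n : ℕ} (σ : Equiv.Perm (Fin (n + 1))) : fx F σ =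
    (∑ i : Fin n, if σ i.castSucc = i.castSucc then (1 : F) else 0) +
      if σ (Fin.last n) = Fin.last n then (1 : F) else 0 := Fin.sum_univ_castSucc _

theorem sum_eq {n : ℕ} (σ : Equiv.Perm (Fin n)) (b : Fin n) : ∑ a, (if σ a = b then (1 : F) else 0) = 1 := by
  rw [Equiv.sum_comp σ (fun a => if a = b then (1 : F) else 0)]
  simp

theorem v6_apply (a : Fin 6) (j : Fin 5) :
    v6 F a j = (if a = j.castSucc then 1 else 0) - (if a = Fin.last 5 then 1 else 0) := by
  induction a using Fin.lastCases with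
  | last =>
    rw [v6_last, if_pos rfl, if_neg (fun h => (Fin.castSucc_lt_last j).ne h.symm)]
    ring
  | cast i =>
    rw [v6_castSucc, if_neg (Fin.castSucc_lt_last i).ne, sub_zero, Pi.single_apply]
    simp only [Fin.castSucc_inj, eq_comm]

theorem trace_eq_sum (M : Matrix (Fin 5) (Fin 5) F) :
    M.trace = ∑ j : Fin 5, (M *ᵥ v6 F j.castSucc) j := by
  unfold Matrix.trace
  refine Finset.sum_congr rfl fun j _ => ?_
  rw [v6_castSucc, mulVec_single_one]
  rfl

/-! ### six points -/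

/-! ### seven points, characteristic seven -/

/-- seven vectors, the last one zero -/
def w7 (F : Type*) [Field F] (a : Fin 7) : Fin 5 → F := fun j =>
  (if a = j.castSucc.castSucc then 1 else 0) - (if a = (Fin.last 5).castSucc then 1 else 0)

theorem w7_castSucc (i : Fin 6) : w7 F i.castSucc = v6 F i := by
  funext j
  rw [v6_apply, w7]
  simp only [Fin.castSucc_inj]

theorem w7_last : w7 F (Fin.last 6) = 0 := by
  funext j
  rw [w7, if_neg (Fin.castSucc_lt_last _).ne', if_neg (Fin.castSucc_lt_last _).ne', sub_zero]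
  rfl

theorem sum_w7 : ∑ a, w7 F a = 0 := by
  rw [Fin.sum_univ_castSucc, w7_last, add_zero]
  simp only [w7_castSucc]
  exact sys6.sum

variable (h7 : (7 : F) = 0)

include h7

theorem exists_lin7 (σ : Equiv.Perm (Fin 7)) : ∃ f : (Fin 5 → F) →ₗ[F] (Fin 5 → F),
    ∀ a : Fin 6, f (v6 F a) = w7 F (σ a.castSucc) - w7 F (σ (Fin.last 6)) := by
  refine (sys6 (F := F)).exists_map _ ?_
  have h1 : ∑ a, w7 F (σ a) = 0 := by rw [Equiv.sum_comp σ (w7 F), sum_w7]
  rw [Fin.sum_univ_castSucc] at h1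
  rw [Finset.sum_sub_distrib, Finset.sum_const, Finset.card_univ, Fintype.card_fin, ← Nat.cast_smul_eq_nsmul F]
  have h2 : ∑ i : Fin 6, w7 F (σ i.castSucc) = -w7 F (σ (Fin.last 6)) := eq_neg_of_add_eq_zero_left h1
  have h3 : (7 : F) • w7 F (σ (Fin.last 6)) = 0 := by rw [h7, zero_smul]
  rw [h2, ← neg_one_smul F (w7 F (σ (Fin.last 6))), ← sub_smul]
  have h4 : ((-1 : F) - ((6 : ℕ) : F)) = -7 := by push_cast; ring
  rw [h4, neg_smul, h3, neg_zero]

/-- the linear map attached to a permutation -/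
noncomputable def lin7 (σ : Equiv.Perm (Fin 7)) : (Fin 5 → F) →ₗ[F] (Fin 5 → F) := Classical.choose (exists_lin7 h7 σ)

theorem lin7_v6 (σ : Equiv.Perm (Fin 7)) (a : Fin 6) :
    lin7 h7 σ (v6 F a) = w7 F (σ a.castSucc) - w7 F (σ (Fin.last 6)) := Classical.choose_spec (exists_lin7 h7 σ) a

theorem lin7_w7 (σ : Equiv.Perm (Fin 7)) (a : Fin 7) : lin7 h7 σ (w7 F a) = w7 F (σ a) - w7 F (σ (Fin.last 6)) := by
  induction a using Fin.lastCases with
  | last => rw [w7_last, map_zero, sub_self]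
  | cast i => rw [w7_castSucc, lin7_v6]

theorem lin7_sub (σ : Equiv.Perm (Fin 7)) (a b : Fin 7) :
    lin7 h7 σ (w7 F a - w7 F b) = w7 F (σ a) - w7 F (σ b) := by
  rw [map_sub, lin7_w7, lin7_w7]
  abel

theorem lin7_mul (σ τ : Equiv.Perm (Fin 7)) : lin7 h7 (σ * τ) = lin7 h7 σ * lin7 h7 τ := by
  refine (sys6 (F := F)).ext fun i => ?_
  rw [Module.End.mul_apply, lin7_v6, lin7_v6, lin7_sub]
  rfl

theorem lin7_one : lin7 h7 1 = 1 := by
  refine (sys6 (F := F)).ext fun i => ?_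
  rw [lin7_v6, Equiv.Perm.one_apply, Equiv.Perm.one_apply, w7_last, sub_zero, w7_castSucc]
  rfl

/-- The symmetric group of degree seven, in characteristic seven. -/
noncomputable def ψ7 : Equiv.Perm (Fin 7) →* GL (Fin 5) F :=
  MonoidHom.toHomUnits
    { toFun := fun σ => LinearMap.toMatrix' (lin7 h7 σ)
      map_one' := by rw [lin7_one]; exact LinearMap.toMatrix'_one
      map_mul' := fun σ τ => by rw [lin7_mul]; exact LinearMap.toMatrix'_mul _ _ }

theorem ψ7_mulVec (σ : Equiv.Perm (Fin 7)) (v : Fin 5 → F) :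
    (ψ7 h7 σ : Matrix (Fin 5) (Fin 5) F) *ᵥ v = lin7 h7 σ v := by
  change LinearMap.toMatrix' (lin7 h7 σ) *ᵥ v = _
  rw [LinearMap.toMatrix'_mulVec]

theorem ψ7_trace (σ : Equiv.Perm (Fin 7)) : (ψ7 h7 σ : Matrix (Fin 5) (Fin 5) F).trace = fx F σ - 2 := by
  rw [trace_eq_sum]
  simp only [ψ7_mulVec, lin7_v6, Pi.sub_apply, w7]
  have h1 := sum_eq (F := F) σ (Fin.last 5).castSucc
  have h2 : ∑ a : Fin 7, (if σ (Fin.last 6) = a then (1 : F) else 0) = 1 := by simp
  rw [Fin.sum_univ_castSucc, Fin.sum_univ_castSucc] at h1 h2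
  rw [fx_succ, Fin.sum_univ_castSucc (n := 5) (f := fun i : Fin 6 => if σ i.castSucc = i.castSucc then (1 : F) else 0)]
  simp only [Finset.sum_sub_distrib, Finset.sum_const, Finset.card_univ, Fintype.card_fin, nsmul_eq_mul, Nat.cast_ofNat]
  linear_combination (-1 : F) * h1 - h2 + (if σ (Fin.last 6) = (Fin.last 5).castSucc then (1 : F) else 0) * h7

/-- `q5` on combinations with sum zero -/
theorem q5_comb (c : Fin 7 → F) (hc : ∑ a, c a = 0) : q5 F (∑ a, c a • w7 F a) = -∑ a, c a * c a := by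
  have h1 : ∀ j : Fin 5, (∑ a, c a • w7 F a) j = c j.castSucc.castSucc - c (Fin.last 5).castSucc := by
    intro j
    rw [Finset.sum_apply]
    simp only [Pi.smul_apply, smul_eq_mul, w7, mul_sub, mul_ite, mul_one, mul_zero, Finset.sum_sub_distrib]
    simp
  rw [q5_apply, Sm_dot]
  simp only [dotProduct, h1]
  rw [Fin.sum_univ_castSucc, Fin.sum_univ_castSucc] at hc
  rw [Fin.sum_univ_castSucc (f := fun a => c a * c a),
    Fin.sum_univ_castSucc (f := fun a : Fin 6 => c a.castSucc * c a.castSucc)]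
  simp only [Fin.sum_univ_five] at hc ⊢
  generalize c (Fin.castSucc (Fin.castSucc 0)) = c0 at *
  generalize c (Fin.castSucc (Fin.castSucc 1)) = c1 at *
  generalize c (Fin.castSucc (Fin.castSucc 2)) = c2 at *
  generalize c (Fin.castSucc (Fin.castSucc 3)) = c3 at *
  generalize c (Fin.castSucc (Fin.castSucc 4)) = c4 at *
  generalize c (Fin.castSucc (Fin.last 5)) = c5 at *
  generalize c (Fin.last 6) = c6 at *
  obtain rfl : c6 = -(c0 + c1 + c2 + c3 + c4 + c5) := by linear_combination hc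
  linear_combination ((c0 - c5) * (c0 - c5) + (c1 - c5) * (c1 - c5) + (c2 - c5) * (c2 - c5) + (c3 - c5) * (c3 - c5) +
    (c4 - c5) * (c4 - c5)) * h7 + (2 * c5 * (c0 + c1 + c2 + c3 + c4) - 4 * c5 * c5) * h7

theorem q5_lin7 (σ : Equiv.Perm (Fin 7)) (x : Fin 5 → F) : q5 F (lin7 h7 σ x) = q5 F x := by
  -- coefficients
  obtain ⟨c, hc, rfl⟩ : ∃ c : Fin 7 → F, ∑ a, c a = 0 ∧ x = ∑ a, c a • w7 F a := by
    have hx : x ∈ Submodule.span F (Set.range (v6 F)) := by rw [(sys6 (F := F)).span]; trivial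
    rw [Submodule.mem_span_range_iff_exists_fun] at hx
    obtain ⟨b, rfl⟩ := hx
    have hs1 : ∀ i : Fin 6, (Fin.snoc b (-∑ i, b i) : Fin 7 → F) i.castSucc = b i := fun i => by simp
    have hs2 : (Fin.snoc b (-∑ i, b i) : Fin 7 → F) (Fin.last 6) = -∑ i, b i := Fin.snoc_last _ _
    refine ⟨Fin.snoc b (-∑ i, b i), ?_, ?_⟩
    · rw [Fin.sum_univ_castSucc, hs2]
      simp only [hs1]
      rw [add_neg_cancel]
    · rw [Fin.sum_univ_castSucc (n := 6) (f := fun a => (Fin.snoc b (-∑ i, b i) : Fin 7 → F) a • w7 F a), w7_last, smul_zero, add_zero]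
      simp only [hs1, w7_castSucc]
  have h1 : lin7 h7 σ (∑ a, c a • w7 F a) = ∑ a, c (σ⁻¹ a) • w7 F a := by
    rw [map_sum]
    simp only [map_smul, lin7_w7, smul_sub, Finset.sum_sub_distrib]
    rw [← Finset.sum_smul, hc, zero_smul, sub_zero, ← Equiv.sum_comp σ (fun a => c (σ⁻¹ a) • w7 F a)]
    simp
  rw [h1, q5_comb h7 _ (by rw [Equiv.sum_comp σ⁻¹ c, hc]), q5_comb h7 _ hc,
    Equiv.sum_comp σ⁻¹ (fun a => c a * c a)]

omit h7 in
theorem mem_rts {x : Fin 5 → F} : x ∈ rts F (v6 F) ↔ ∃ a b : Fin 7, a ≠ b ∧ x = w7 F a - w7 F b := by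
  constructor
  · rintro (⟨i, ε, rfl | rfl, rfl⟩ | ⟨i, j, hij, rfl⟩)
    · exact ⟨i.castSucc, Fin.last 6, (Fin.castSucc_lt_last i).ne, by rw [w7_last, w7_castSucc, sub_zero, one_smul]⟩
    · exact ⟨Fin.last 6, i.castSucc, (Fin.castSucc_lt_last i).ne', by
        rw [w7_last, w7_castSucc, zero_sub, neg_one_smul]⟩
    · exact ⟨i.castSucc, j.castSucc, fun h => hij (Fin.castSucc_injective _ h), by rw [w7_castSucc, w7_castSucc]⟩
  · rintro ⟨a, b, hab, rfl⟩
    induction a using Fin.lastCases with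
    | last =>
      induction b using Fin.lastCases with
      | last => exact absurd rfl hab
      | cast j =>
        rw [w7_last, w7_castSucc, zero_sub]
        exact Or.inl ⟨j, -1, Or.inr rfl, by rw [neg_one_smul]⟩
    | cast i =>
      induction b using Fin.lastCases with
      | last =>
        rw [w7_last, w7_castSucc, sub_zero]
        exact Or.inl ⟨i, 1, Or.inl rfl, by rw [one_smul]⟩
      | cast j =>
        rw [w7_castSucc, w7_castSucc]
        exact Or.inr ⟨i, j, fun h => hab (by rw [h]), rfl⟩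

theorem ψ7_mem (σ : Equiv.Perm (Fin 7)) : ψ7 h7 σ ∈ R6 F := by
  rw [mem_R6]
  have h1 : ∀ (τ : Equiv.Perm (Fin 7)) (x : Fin 5 → F),
      Cfsg.Agent.LieClassical.OrthFinite.glEquiv (Fin 5) F (ψ7 h7 τ) x = lin7 h7 τ x := by
    intro τ x
    rw [Cfsg.Agent.LieClassical.OrthFinite.glEquiv_apply, ψ7_mulVec]
  have h2 : ∀ (τ : Equiv.Perm (Fin 7)) (x : Fin 5 → F), x ∈ rts F (v6 F) →
      Cfsg.Agent.LieClassical.OrthFinite.glEquiv (Fin 5) F (ψ7 h7 τ) x ∈ rts F (v6 F) := by
    intro τ x hx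
    obtain ⟨a, b, hab, rfl⟩ := mem_rts.1 hx
    rw [h1, lin7_sub]
    exact mem_rts.2 ⟨τ a, τ b, fun h => hab (τ.injective h), rfl⟩
  refine mem_stabR_of (fun x => ?_) (h2 σ) (fun x hx => ?_)
  · rw [h1]
    exact q5_lin7 h7 σ x
  · rw [← map_inv, ← map_inv]
    exact h2 σ⁻¹ x hx

end Cfsg.Agent.H908.Lam

private theorem dce_1604d6b12ba8 : _root_.True := by
  try have : _root_.True := by simp only [_root_.Cfsg.Agent.H908.Lam.lin7.congr_simp]
  try have : _root_.True := by simp only [_root_.Cfsg.Agent.H908.Lam.ψ7.congr_simp]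
  try have : _root_.True := by simp only [_root_.Cfsg.Agent.H908.Lam.w7.eq_1]
  exact _root_.True.intro
end
end
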